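import Mathlib
import Cfsg.Agent.SylowToolkit.Basic
import Cfsg.Agent.SylowToolkit.PermRep
import Cfsg.Agent.Frobenius57.SimpleSixty
import Cfsg.Agent.Chars.Apps.Burnside
import Cfsg.Agent.S3374

/-! # SL(2,5): presentation and recognition

A perfect group of order 120 with quaternion Sylow 2-subgroups is `SL(2,5)`, which is the group
`⟨x, y, z | x³ = y⁵ = z² = 1, z central, (xy)² = z⟩`.
-/

set_option autoImplicit false

namespace CfsgLib.Frobenius.Zass

/-- The relators of the presentation of `SL(2,5)`. -/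
abbrev sl25Rels : Set (FreeGroup (Fin 3)) :=
  {FreeGroup.of (0 : Fin 3) ^ 3, FreeGroup.of (1 : Fin 3) ^ 5, FreeGroup.of (2 : Fin 3) ^ 2,
    (FreeGroup.of (2 : Fin 3))⁻¹ * FreeGroup.of 0 * FreeGroup.of 2 * (FreeGroup.of (0 : Fin 3))⁻¹,
    (FreeGroup.of (2 : Fin 3))⁻¹ * FreeGroup.of 1 * FreeGroup.of 2 * (FreeGroup.of (1 : Fin 3))⁻¹,
    (FreeGroup.of (0 : Fin 3) * FreeGroup.of 1) ^ 2 * (FreeGroup.of (2 : Fin 3))⁻¹}

/-- A group generated as in the presentation is covered by twelve cosets of a subgroup of order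
dividing 10. -/
theorem exists_surjection_sl25 {P : Type*} [Group P] {x y z : P} (hx : x ^ 3 = 1) (hy : y ^ 5 = 1)
    (hz : z ^ 2 = 1) (hzx : z * x = x * z) (hzy : z * y = y * z) (hxy : x * y * x * y = z)
    (hgen : Subgroup.closure ({x, y, z} : Set P) = ⊤) :
    ∃ f : Fin 10 × Fin 12 → P, Function.Surjective f := by
  have hzz : z * z = 1 := by rwa [pow_two] at hz
  have hxxx : x * x * x = 1 := by rwa [pow_succ, pow_two] at hx
  have hzi : z⁻¹ = z := inv_eq_of_mul_eq_one_right hzz
  have hxi : x⁻¹ = x * x := (eq_inv_of_mul_eq_one_left hxxx).symm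
  have cx : Commute z x := hzx
  have cy : Commute z y := hzy
  -- basic identities
  have L1 : x * x = z * y * x * y := by
    rw [← hxi, inv_eq_iff_mul_eq_one]
    calc x * (z * y * x * y) = (x * z) * y * x * y := by group
      _ = z * (x * y * x * y) := by rw [← hzx]; group
      _ = 1 := by rw [hxy, hzz]
  have L2 : x * y * x = z * y⁻¹ := eq_mul_inv_of_mul_eq hxy
  have L4 : x = z * y⁻¹ * (x * x) * y⁻¹ := by
    calc x = z * z * x := by rw [hzz, one_mul]
      _ = z * y⁻¹ * (z * y * x * y) * y⁻¹ := by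
          rw [show z * y⁻¹ * (z * y * x * y) * y⁻¹ = z * (y⁻¹ * z) * y * x by group,
            ← cy.inv_right.eq]
          group
      _ = z * y⁻¹ * (x * x) * y⁻¹ := by rw [L1]
  have L3 : x * (y * y) * x = y⁻¹ * x * y⁻¹ := by
    calc x * (y * y) * x = (z * y⁻¹ * (x * x) * y⁻¹) * (y * y) * (z * y⁻¹ * (x * x) * y⁻¹) := by
          rw [← L4]
      _ = z * y⁻¹ * (x * x) * (y * z) * y⁻¹ * (x * x) * y⁻¹ := by group
      _ = z * y⁻¹ * ((x * x) * z) * (x * x) * y⁻¹ := by rw [← hzy]; group
      _ = z * (y⁻¹ * z) * (x * x * x) * x * y⁻¹ := by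
          rw [← (cx.mul_right cx).eq]; group
      _ = (z * z) * y⁻¹ * x * y⁻¹ := by rw [← cy.inv_right.eq, hxxx]; group
      _ = y⁻¹ * x * y⁻¹ := by rw [hzz, one_mul]
  have L5 : x * (y * y) = y⁻¹ * x * y⁻¹ * x⁻¹ := eq_mul_inv_of_mul_eq L3
  -- the cosets
  obtain ⟨w, hw⟩ : ∃ w, w = z * y := ⟨_, rfl⟩
  have hw10 : w ^ 10 = 1 := by
    rw [hw, cy.mul_pow, show (10 : ℕ) = 2 * 5 from rfl, pow_mul, hz, one_pow, one_mul, mul_comm,
      pow_mul, hy, one_pow]
  have hH : z ∈ Subgroup.zpowers w ∧ y ∈ Subgroup.zpowers w := by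
    constructor
    · have : z = w ^ 5 := by
        rw [hw, cy.mul_pow, hy, mul_one, show (5 : ℕ) = 2 * 2 + 1 from rfl, pow_succ, pow_mul, hz,
          one_pow, one_mul]
      rw [this]; exact pow_mem (Subgroup.mem_zpowers w) 5
    · have : y = w ^ 6 := by
        rw [hw, cy.mul_pow, show (6 : ℕ) = 5 + 1 from rfl, pow_succ y, hy, one_mul,
          show (5 + 1 : ℕ) = 2 * 3 from rfl, pow_mul, hz, one_pow, one_mul]
      rw [this]; exact pow_mem (Subgroup.mem_zpowers w) 6
  let H := Subgroup.zpowers w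
  let R : ℕ → P := fun j => x * y ^ 3 * x * y ^ j
  have hR : R = fun j => x * y ^ 3 * x * y ^ j := rfl
  let reps : Fin 12 → P :=
    ![1, x, x * y, x * y ^ 2, x * y ^ 3, x * y ^ 4, R 0, R 1, R 2, R 3, R 4, R 4 * x]
  let Cov : P → Prop := fun g => ∃ j, g * (reps j)⁻¹ ∈ H
  have hcov : ∀ g h : P, h ∈ H → ∀ j, g = h * reps j → Cov g := fun g h hh j e =>
    ⟨j, by rw [e, mul_inv_cancel_right]; exact hh⟩
  have hone : (1 : P) ∈ H := one_mem H
  have hyi : y⁻¹ ∈ H := inv_mem hH.2
  have hzy' : z * y ∈ H := mul_mem hH.1 hH.2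
  have hzyi : z * y⁻¹ ∈ H := mul_mem hH.1 hyi
  -- closure under `x`
  have r1 : x * x = (z * y) * (x * y) := by rw [L1]; group
  have r2 : x * y * x = (z * y⁻¹) * 1 := by rw [L2, mul_one]
  have r3 : x * y ^ 2 * x = y⁻¹ * (x * y ^ 4) := by
    rw [pow_two, L3, show y ^ 4 = y⁻¹ from eq_inv_of_mul_eq_one_left (by rw [← pow_succ]; exact hy)]
    group
  have hy4 : y ^ 4 = y⁻¹ := eq_inv_of_mul_eq_one_left (by rw [← pow_succ]; exact hy)
  have hy3 : y ^ 3 = y⁻¹ * y⁻¹ := by rw [← hy4]; group; rw [show (8 : ℤ) = 3 + 5 by norm_num,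
    zpow_add, show y ^ (5 : ℤ) = 1 from by exact_mod_cast hy, mul_one]
  have hxzc : ∀ a : P, Commute z a := by
    intro a
    have : a ∈ Subgroup.closure ({x, y, z} : Set P) := by rw [hgen]; trivial
    induction this using Subgroup.closure_induction with
    | mem g hg =>
      rcases hg with rfl | rfl | rfl
      · exact cx
      · exact cy
      · exact Commute.refl _
    | one => exact Commute.one_right z
    | mul g g' _ _ h1 h2 => exact h1.mul_right h2
    | inv g _ h1 => exact h1.inv_right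
  have hpull : ∀ a b : P, a * (z * b) = z * (a * b) := fun a b => by
    rw [← mul_assoc, ← (hxzc a).eq, mul_assoc]
  have hzpair : ∀ a b : P, z * b * a * (z * b) = b * a * b := fun a b => by
    rw [hpull (z * b * a) b, mul_assoc z b a, mul_assoc z (b * a) b, ← mul_assoc z z, hzz, one_mul]
  have r5 : x * y ^ 4 * x = (z * y) * (x * y ^ 3 * x * y) := by
    rw [hy4]
    have e1 : y⁻¹ = z * (x * y * x) := by rw [L2, ← mul_assoc, hzz, one_mul]
    calc x * y⁻¹ * x = x * (z * (x * y * x)) * x := by rw [← e1]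
      _ = z * ((x * x) * y * (x * x)) := by rw [hpull]; group
      _ = z * ((z * (y * x * y)) * y * (z * (y * x * y))) := by
          rw [show x * x = z * (y * x * y) by rw [L1]; group]
      _ = z * ((y * x * y) * y * (y * x * y)) := by rw [hzpair]
      _ = (z * y) * (x * y ^ 3 * x * y) := by simp only [pow_succ, pow_zero, one_mul]; group
  have r6 : R 0 * x = y * R 2 := by
    simp only [hR, pow_zero, mul_one]
    calc x * y ^ 3 * x * x = x * y ^ 3 * (z * y * x * y) := by rw [mul_assoc _ x x, L1]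
      _ = z * (x * y ^ 4 * x) * y := by
          rw [mul_assoc z y x, mul_assoc z, hpull]
          simp only [pow_succ, pow_zero, one_mul]; group
      _ = z * ((z * y) * (x * y ^ 3 * x * y)) * y := by rw [r5]
      _ = (z * z) * y * (x * y ^ 3 * x * (y * y)) := by group
      _ = y * (x * y ^ 3 * x * y ^ 2) := by rw [hzz, one_mul, pow_two]
  have r7 : R 1 * x = z * (x * y ^ 2) := by
    simp only [hR, pow_one]
    calc x * y ^ 3 * x * y * x = x * y ^ 3 * (x * y * x) := by group
      _ = z * (x * y ^ 3 * y⁻¹) := by rw [L2, hpull]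
      _ = z * (x * y ^ 2) := by rw [pow_succ y 2]; group
  have r8 : R 2 * x = y⁻¹ * (x * y ^ 3) := by
    simp only [hR]
    calc x * y ^ 3 * x * y ^ 2 * x = x * y ^ 3 * (x * (y * y) * x) := by rw [pow_two]; group
      _ = x * (y * y) * x * y⁻¹ := by
          conv_lhs => rw [L3]
          simp only [pow_succ, pow_zero, one_mul]; group
      _ = y⁻¹ * x * (y⁻¹ * y⁻¹) := by rw [L3]; group
      _ = y⁻¹ * (x * y ^ 3) := by rw [hy3, mul_assoc]
  have r9 : R 4 * x = R 4 * x := rfl
  have r10 : R 4 * x * y = y⁻¹ * (R 4 * x) := by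
    have e : R 4 * x = y⁻¹ * (R 4 * x) * y⁻¹ := by
      simp only [hR]
      have e1 : x * y ^ 4 * x = y⁻¹ * (x * y ^ 3 * x)⁻¹ * y⁻¹ := by
        have hy23 : y⁻¹ * y⁻¹ * y⁻¹ = (y⁻¹ * y⁻¹)⁻¹ := eq_inv_of_mul_eq_one_left (by
          rw [show y⁻¹ * y⁻¹ * y⁻¹ * (y⁻¹ * y⁻¹) = (y ^ 5)⁻¹ by group, hy, inv_one])
        calc x * y ^ 4 * x = z * (y⁻¹ * (x * x) * y⁻¹) * y⁻¹ * (z * (y⁻¹ * (x * x) * y⁻¹)) := by
              conv_lhs => rw [L4, hy4]
              group
          _ = y⁻¹ * ((x * x) * (y⁻¹ * y⁻¹ * y⁻¹) * (x * x)) * y⁻¹ := by rw [hzpair]; group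
          _ = y⁻¹ * (x⁻¹ * (y⁻¹ * y⁻¹)⁻¹ * x⁻¹) * y⁻¹ := by rw [hy23, hxi]
          _ = y⁻¹ * (x * y ^ 3 * x)⁻¹ * y⁻¹ := by rw [hy3]; group
      calc x * y ^ 3 * x * y ^ 4 * x = x * y ^ 3 * (x * y ^ 4 * x) := by group
        _ = x * y ^ 3 * (y⁻¹ * (x * y ^ 3 * x)⁻¹ * y⁻¹) := by rw [e1]
        _ = (x * (y * y)) * (x⁻¹ * (y ^ 3)⁻¹ * x⁻¹) * y⁻¹ := by
            simp only [pow_succ, pow_zero, one_mul]; group
        _ = y⁻¹ * x * y⁻¹ * (x⁻¹ * x⁻¹) * (y ^ 3)⁻¹ * x⁻¹ * y⁻¹ := by rw [L5]; group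
        _ = y⁻¹ * x * y⁻¹ * x * (y ^ 3)⁻¹ * x⁻¹ * y⁻¹ := by
            rw [show x⁻¹ * x⁻¹ = x by rw [← mul_inv_rev, ← hxi, inv_inv]]
        _ = y⁻¹ * x * y⁻¹ * (x * (y * y)) * x⁻¹ * y⁻¹ := by
            rw [show (y ^ 3)⁻¹ = y * y by rw [hy3, mul_inv_rev, inv_inv]]; group
        _ = y⁻¹ * x * y⁻¹ * (y⁻¹ * x * y⁻¹) * (x⁻¹ * x⁻¹) * y⁻¹ := by rw [L5]; group
        _ = y⁻¹ * x * (y⁻¹ * y⁻¹) * x * y⁻¹ * x * y⁻¹ := by
            rw [show x⁻¹ * x⁻¹ = x by rw [← mul_inv_rev, ← hxi, inv_inv]]; group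
        _ = y⁻¹ * (x * y ^ 3 * x * y ^ 4 * x) * y⁻¹ := by rw [hy3, hy4]; group
    conv_lhs => rw [e]
    rw [inv_mul_cancel_right]
  have r11 : R 4 * x * x = (z * y) * R 3 := by
    simp only [hR]
    calc x * y ^ 3 * x * y ^ 4 * x * x = x * y ^ 3 * x * y ^ 4 * (z * y * x * y) := by
          rw [mul_assoc _ x x, L1]
      _ = z * (x * y ^ 3 * x * y ^ 5 * x * y) := by
          rw [mul_assoc z y x, mul_assoc z, hpull]
          simp only [pow_succ, pow_zero, one_mul]; group
      _ = z * (R 0 * x) * y := by simp only [hR, pow_zero, mul_one, hy]; group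
      _ = z * (y * R 2) * y := by rw [r6]
      _ = (z * y) * (x * y ^ 3 * x * y ^ 3) := by
          simp only [hR, pow_succ, pow_zero, one_mul]; group
  have r12 : R 3 * x = (z * y⁻¹) * R 4 := by
    simp only [hR]
    calc x * y ^ 3 * x * y ^ 3 * x = x * y ^ 3 * x * (y ^ 3 * x) := by group
      _ = x * y ^ 3 * (z * y⁻¹ * (x * x) * y⁻¹) * (y ^ 3 * x) := by rw [← L4]
      _ = z * (x * (y * y) * (x * x) * (y * y) * x) := by
          rw [mul_assoc z y⁻¹, mul_assoc z (y⁻¹ * (x * x)), hpull]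
          simp only [pow_succ, pow_zero, one_mul]; group
      _ = z * (y⁻¹ * x * y⁻¹ * (x * (y * y) * x)) := by
          rw [show x * (y * y) * (x * x) * (y * y) * x = (x * (y * y) * x) * (x * (y * y) * x) by
            group, L3]
      _ = z * (y⁻¹ * x * (y⁻¹ * y⁻¹) * x * y⁻¹) := by rw [L3]; group
      _ = (z * y⁻¹) * (x * y ^ 3 * x * y ^ 4) := by rw [hy3, hy4]; group
  have hX : ∀ j, Cov (reps j * x) := by
    intro j
    fin_cases j
    · exact hcov _ 1 hone 1 (by simp [reps])
    · exact hcov _ _ hzy' 2 (by simpa [reps] using r1)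
    · exact hcov _ _ hzyi 0 (by simpa [reps] using r2)
    · exact hcov _ _ hyi 5 (by simpa [reps] using r3)
    · exact hcov _ 1 hone 6 (by simp [reps, hR])
    · exact hcov _ _ hzy' 7 (by simpa [reps, hR] using r5)
    · exact hcov _ _ hH.2 8 (by simpa [reps] using r6)
    · exact hcov _ _ hH.1 3 (by simpa [reps] using r7)
    · exact hcov _ _ hyi 4 (by simpa [reps] using r8)
    · exact hcov _ _ hzyi 10 (by simpa [reps] using r12)
    · exact hcov _ 1 hone 11 (by simp [reps])
    · exact hcov _ _ hzy' 9 (by simpa [reps] using r11)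
  have hY : ∀ j, Cov (reps j * y) := by
    intro j
    fin_cases j
    · exact hcov _ _ hH.2 0 (by simp [reps])
    · exact hcov _ 1 hone 2 (by simp [reps])
    · exact hcov _ 1 hone 3 (by simp [reps, pow_two, mul_assoc])
    · exact hcov _ 1 hone 4 (by simp [reps, pow_succ, mul_assoc])
    · exact hcov _ 1 hone 5 (by simp [reps, pow_succ, mul_assoc])
    · exact hcov _ 1 hone 1 (by simp [reps, mul_assoc, ← pow_succ, hy])
    · exact hcov _ 1 hone 7 (by simp [reps, hR, mul_assoc])
    · exact hcov _ 1 hone 8 (by simp [reps, hR, pow_succ, mul_assoc])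
    · exact hcov _ 1 hone 9 (by simp [reps, hR, pow_succ, mul_assoc])
    · exact hcov _ 1 hone 10 (by simp [reps, hR, pow_succ, mul_assoc])
    · exact hcov _ 1 hone 6 (by simp [reps, hR, mul_assoc, ← pow_succ, hy])
    · exact hcov _ _ hyi 11 (by simpa [reps] using r10)
  have step : ∀ s : P, (∀ j, Cov (reps j * s)) → ∀ g, Cov g → Cov (g * s) := by
    intro s hs g hg
    obtain ⟨j, hj⟩ := hg
    obtain ⟨k, hk⟩ := hs j
    refine ⟨k, ?_⟩
    have := mul_mem hj hk
    rwa [show g * (reps j)⁻¹ * (reps j * s * (reps k)⁻¹) = g * s * (reps k)⁻¹ by group] at this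
  have sX := step x hX
  have sY := step y hY
  have sZ : ∀ g, Cov g → Cov (g * z) := fun g hg => by
    obtain ⟨j, hj⟩ := hg
    exact ⟨j, by rw [← (hxzc g).eq, mul_assoc]; exact mul_mem hH.1 hj⟩
  have hall : ∀ g, Cov g := by
    intro g
    have h0 : Cov 1 := ⟨0, by simp [reps]⟩
    suffices ∀ a ∈ Subgroup.closure ({x, y, z} : Set P), ∀ b, Cov b → Cov (b * a) by
      have := this g (by rw [hgen]; trivial) 1 h0
      rwa [one_mul] at this
    intro a ha
    induction ha using Subgroup.closure_induction_left with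
    | one => intro b hb; rwa [mul_one]
    | mul_left g hg a _ ih =>
      intro b hb
      rw [← mul_assoc]
      apply ih
      rcases hg with rfl | rfl | rfl
      · exact sX b hb
      · exact sY b hb
      · exact sZ b hb
    | inv_mul_cancel g hg a _ ih =>
      intro b hb
      rw [← mul_assoc]
      apply ih
      rcases hg with rfl | rfl | rfl
      · rw [hxi, ← mul_assoc]; exact sX _ (sX b hb)
      · rw [← hy4]; simp only [pow_succ, pow_zero, one_mul, ← mul_assoc]
        exact sY _ (sY _ (sY _ (sY b hb)))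
      · rw [hzi]; exact sZ b hb
  refine ⟨fun p => w ^ (p.1 : ℕ) * reps p.2, fun g => ?_⟩
  obtain ⟨j, hj⟩ := hall g
  obtain ⟨i, hi⟩ := hj
  refine ⟨(⟨(i % 10).toNat, by omega⟩, j), ?_⟩
  show w ^ (i % 10).toNat * reps j = g
  have e : w ^ (i % 10).toNat = w ^ i := by
    rw [← zpow_natCast, Int.toNat_of_nonneg (Int.emod_nonneg _ (by norm_num))]
    conv_rhs => rw [← Int.emod_add_mul_ediv i 10, zpow_add, zpow_mul,
      show w ^ (10 : ℤ) = 1 from by exact_mod_cast hw10, one_zpow, mul_one]
  simp only at hi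
  rw [e, hi, inv_mul_cancel_right]

/-- The presented group has at most 120 elements. -/
theorem presented_card_le : Finite (PresentedGroup sl25Rels) ∧
    Nat.card (PresentedGroup sl25Rels) ≤ 120 := by
  set x : PresentedGroup sl25Rels := PresentedGroup.of 0
  set y : PresentedGroup sl25Rels := PresentedGroup.of 1
  set z : PresentedGroup sl25Rels := PresentedGroup.of 2
  have hrel : ∀ r ∈ sl25Rels, PresentedGroup.mk sl25Rels r = 1 := fun r hr =>
    PresentedGroup.one_of_mem hr
  have hx : x ^ 3 = 1 :=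
    (map_pow (PresentedGroup.mk sl25Rels) _ _).symm.trans (hrel (FreeGroup.of 0 ^ 3) (by simp))
  have hy : y ^ 5 = 1 :=
    (map_pow (PresentedGroup.mk sl25Rels) _ _).symm.trans (hrel (FreeGroup.of 1 ^ 5) (by simp))
  have hz : z ^ 2 = 1 :=
    (map_pow (PresentedGroup.mk sl25Rels) _ _).symm.trans (hrel (FreeGroup.of 2 ^ 2) (by simp))
  have h1 : z⁻¹ * x * z * x⁻¹ = 1 := by
    have := hrel ((FreeGroup.of 2)⁻¹ * FreeGroup.of 0 * FreeGroup.of 2 * (FreeGroup.of 0)⁻¹)
      (by simp)
    rw [map_mul, map_mul, map_mul, map_inv, map_inv] at this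
    exact this
  have h2 : z⁻¹ * y * z * y⁻¹ = 1 := by
    have := hrel ((FreeGroup.of 2)⁻¹ * FreeGroup.of 1 * FreeGroup.of 2 * (FreeGroup.of 1)⁻¹)
      (by simp)
    rw [map_mul, map_mul, map_mul, map_inv, map_inv] at this
    exact this
  have h3 : (x * y) ^ 2 * z⁻¹ = 1 := by
    have := hrel ((FreeGroup.of 0 * FreeGroup.of 1) ^ 2 * (FreeGroup.of 2)⁻¹) (by simp)
    rw [map_mul, map_pow, map_mul, map_inv] at this
    exact this
  have hzx : z * x = x * z := by
    rw [mul_inv_eq_one, mul_assoc, inv_mul_eq_iff_eq_mul] at h1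
    exact h1.symm
  have hzy : z * y = y * z := by
    rw [mul_inv_eq_one, mul_assoc, inv_mul_eq_iff_eq_mul] at h2
    exact h2.symm
  have hxy : x * y * x * y = z := by
    rw [mul_inv_eq_one, pow_two] at h3; rw [← h3]; group
  have hgen : Subgroup.closure ({x, y, z} : Set (PresentedGroup sl25Rels)) = ⊤ := by
    rw [eq_top_iff, ← PresentedGroup.closure_range_of]
    refine Subgroup.closure_mono ?_
    rintro _ ⟨i, rfl⟩
    fin_cases i <;> simp [x, y, z]
  obtain ⟨f, hf⟩ := exists_surjection_sl25 hx hy hz hzx hzy hxy hgen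
  refine ⟨Finite.of_surjective f hf, ?_⟩
  have := Nat.card_le_card_of_surjective f hf
  rw [Nat.card_prod, Nat.card_fin, Nat.card_fin] at this
  omega

/-- A group of order 120 generated as in the presentation is the presented group. -/
theorem presented_equiv {G : Type*} [Group G] [Finite G] (hG : Nat.card G = 120) {x y z : G}
    (hx : x ^ 3 = 1) (hy : y ^ 5 = 1) (hz : z ^ 2 = 1) (hzx : Commute z x) (hzy : Commute z y)
    (hxy : (x * y) ^ 2 = z) (hgen : Subgroup.closure ({x, y} : Set G) = ⊤) :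
    Nonempty (PresentedGroup sl25Rels ≃* G) := by
  obtain ⟨hfin, hle⟩ := presented_card_le
  let φ : PresentedGroup sl25Rels →* G := PresentedGroup.toGroup (f := ![x, y, z]) (by
    intro r hr
    simp only [sl25Rels, Set.mem_insert_iff, Set.mem_singleton_iff] at hr
    rcases hr with rfl | rfl | rfl | rfl | rfl | rfl
    · simpa using hx
    · simpa using hy
    · simpa using hz
    · simp [mul_assoc, hzx.symm.eq]; rw [← mul_assoc x, ← hzx.eq]; group
    · simp [mul_assoc, hzy.symm.eq]; rw [← mul_assoc y, ← hzy.eq]; group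
    · simp [hxy])
  have hsurj : Function.Surjective φ := by
    rw [← MonoidHom.range_eq_top, eq_top_iff, ← hgen, Subgroup.closure_le]
    rintro g (rfl | rfl)
    · exact ⟨PresentedGroup.of 0, PresentedGroup.toGroup.of _⟩
    · exact ⟨PresentedGroup.of 1, PresentedGroup.toGroup.of _⟩
  have := Nat.card_le_card_of_surjective φ hsurj
  exact ⟨MulEquiv.ofBijective φ
    ((Nat.bijective_iff_surjective_and_card φ).2 ⟨hsurj, by omega⟩)⟩

abbrev SL25 : Type := Matrix.SpecialLinearGroup (Fin 2) (ZMod 5)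

theorem card_sl25 : Nat.card SL25 = 120 := by
  let e : SL25 ≃ {q : Cfsg.Agent.S3374.Quad (ZMod 5) // q.1 * q.2.2.2 - q.2.1 * q.2.2.1 = 1} :=
    { toFun := fun g => ⟨Cfsg.Agent.S3374.toQuad g, Cfsg.Agent.S3374.det_toQuad g⟩
      invFun := fun q => ⟨!![q.1.1, q.1.2.1; q.1.2.2.1, q.1.2.2.2], by
        rw [Matrix.det_fin_two_of]; exact q.2⟩
      left_inv := fun g => Cfsg.Agent.S3374.toQuad_inj rfl
      right_inv := fun q => rfl }
  rw [Nat.card_congr e, Nat.card_eq_fintype_card]
  decide +kernel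

theorem presented_equiv_sl25 : Nonempty (PresentedGroup sl25Rels ≃* SL25) := by
  open Cfsg.Agent.S3374 in
  refine presented_equiv card_sl25 (x := slW * slU (-1)) (y := slU 1)
    (z := (slW * slU (-1) * slU 1) ^ 2) (by decide) (by decide) (by decide) (show _ * _ = _ * _ by decide) (show _ * _ = _ * _ by decide)
    rfl ?_
  open Cfsg.Agent.S3374 in
  · rw [eq_top_iff]
    intro g _
    set E := Subgroup.closure ({slW * slU (-1), slU 1} : Set SL25)
    have h1 : slU 1 ∈ E := Subgroup.subset_closure (by simp)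
    have hU : ∀ b, slU b ∈ E := by
      intro b
      have hp : ∀ n : ℕ, slU (n : ZMod 5) = slU 1 ^ n := by
        intro n
        induction n with
        | zero => simp only [pow_zero, Nat.cast_zero]; exact toQuad_inj (by decide)
        | succ n ih =>
          rw [pow_succ, ← ih]
          apply toQuad_inj
          simp [toQuad_mul, toQuad_slU, qU, qmul, add_comm]
      rw [← ZMod.natCast_zmod_val b, hp]
      exact pow_mem h1 _
    have hW : slW ∈ E := by
      have h2 : slW * slU (-1) * slU 1 ∈ E := mul_mem (Subgroup.subset_closure (by simp)) h1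
      rwa [show slW * slU (-1) * slU 1 = slW by decide] at h2
    have hword : ∀ a : ZMod 5, ∃ w ∈ E, toQuad w = qWord a := fun a =>
      ⟨(slW * slU (-(a * a * a))) * ((slW * slU (-a)) * (slW * slU (-(a * a * a)))),
        mul_mem (mul_mem hW (hU _)) (mul_mem (mul_mem hW (hU _)) (mul_mem hW (hU _))),
        by simp only [toQuad_mul, toQuad_slU, toQuad_slW]; rfl⟩
    have h := (check _ _ _ _ (det_toQuad g)).2.2.2
    split_ifs at h
    · obtain ⟨w, hw, hwq⟩ := hword (g.1 0 0)
      have : g = w * slU (g.1 0 0 * g.1 0 0 * g.1 0 0 * g.1 0 1) := by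
        apply toQuad_inj; rw [toQuad_mul, toQuad_slU, hwq]; exact h
      rw [this]; exact mul_mem hw (hU _)
    · obtain ⟨w, hw, hwq⟩ := hword (g.1 1 0)
      have : g = slU (g.1 0 0 * (g.1 1 0 * g.1 1 0 * g.1 1 0)) * (slW * w) *
          slU (g.1 1 1 * (g.1 1 0 * g.1 1 0 * g.1 1 0)) := by
        apply toQuad_inj; simp only [toQuad_mul, toQuad_slU, toQuad_slW, hwq]; exact h
      rw [this]
      exact mul_mem (mul_mem (hU _) (mul_mem hW hw)) (hU _)

/-- A nontrivial finite perfect group of even order has no cyclic Sylow 2-subgroup. -/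
theorem not_isCyclic_sylow_two {G : Type*} [Group G] [Finite G] (hp : commutator G = ⊤)
    (h2 : 2 ∣ Nat.card G) (P : Sylow 2 G) : ¬ IsCyclic (P : Subgroup G) := by
  intro hc
  have hmin : (Nat.card G).minFac = 2 := (Nat.minFac_eq_two_iff _).2 h2
  have hnc := IsCyclic.normalizer_le_centralizer hmin hc
  have hker := MonoidHom.ker_transferSylow_isComplement' P hnc
  set K := (MonoidHom.transferSylow P hnc).ker
  have hcomm : IsMulCommutative (P : Subgroup G) := inferInstance
  have hK : K = ⊤ := by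
    rw [eq_top_iff, ← hp, commutator_def, Subgroup.commutator_le]
    intro a _ b _
    rw [MonoidHom.mem_ker, map_commutatorElement, commutatorElement_eq_one_iff_commute]
    exact mul_comm' _ _
  have hP : (P : Subgroup G) = ⊥ := by
    have h3 := hker.card_mul
    rw [show Nat.card K = Nat.card G by rw [hK, Subgroup.card_top]] at h3
    have h4 : Nat.card (P : Subgroup G) = 1 :=
      Nat.eq_of_mul_eq_mul_left (Nat.card_pos (α := G)) (h3.trans (mul_one _).symm)
    exact Subgroup.card_eq_one.1 h4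
  have := P.dvd_card_of_dvd_card h2
  rw [hP, Subgroup.card_bot] at this
  norm_num at this

/-- The orders below 60 of nontrivial quotients of a perfect group. -/
theorem no_perfect_quotient {G : Type*} [Group G] [Finite G] (hp : commutator G = ⊤) (k : ℕ)
    (hk : Nat.card G = k) (h60 : k ∣ 120) (h1 : k ≠ 1) (h2 : k ≠ 60) (h3 : k ≠ 120) : False := by
  have hsolv : ∀ {p q a b : ℕ}, p.Prime → q.Prime → k = p ^ a * q ^ b → False := by
    intro p q a b hp' hq' e
    have := CfsgLib.Chars.Apps.isSolvable_of_card_eq_pow_mul_pow G hp' hq' (hk.trans e)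
    have hlt : commutator G < ⊤ := by
      have : Nontrivial G := Finite.one_lt_card_iff_nontrivial.1 (by
        have := Nat.card_pos (α := G); omega)
      exact Group.IsSolvable.commutator_lt_top_of_nontrivial G
    exact hlt.ne hp
  have hcases : k = 30 ∨ ∃ p q a b, p.Prime ∧ q.Prime ∧ k = p ^ a * q ^ b := by
    have hkd : k ∈ Nat.divisors 120 := Nat.mem_divisors.2 ⟨h60, by norm_num⟩
    rw [show Nat.divisors 120 = {1, 2, 3, 4, 5, 6, 8, 10, 12, 15, 20, 24, 30, 40, 60, 120} by decide]
      at hkd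
    simp only [Finset.mem_insert, Finset.mem_singleton] at hkd
    rcases hkd with rfl | rfl | rfl | rfl | rfl | rfl | rfl | rfl | rfl | rfl | rfl | rfl | rfl |
      rfl | rfl | rfl
    · exact absurd rfl h1
    · exact Or.inr ⟨2, 3, 1, 0, Nat.prime_two, Nat.prime_three, by norm_num⟩
    · exact Or.inr ⟨2, 3, 0, 1, Nat.prime_two, Nat.prime_three, by norm_num⟩
    · exact Or.inr ⟨2, 3, 2, 0, Nat.prime_two, Nat.prime_three, by norm_num⟩
    · exact Or.inr ⟨2, 5, 0, 1, Nat.prime_two, Nat.prime_five, by norm_num⟩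
    · exact Or.inr ⟨2, 3, 1, 1, Nat.prime_two, Nat.prime_three, by norm_num⟩
    · exact Or.inr ⟨2, 3, 3, 0, Nat.prime_two, Nat.prime_three, by norm_num⟩
    · exact Or.inr ⟨2, 5, 1, 1, Nat.prime_two, Nat.prime_five, by norm_num⟩
    · exact Or.inr ⟨2, 3, 2, 1, Nat.prime_two, Nat.prime_three, by norm_num⟩
    · exact Or.inr ⟨3, 5, 1, 1, Nat.prime_three, Nat.prime_five, by norm_num⟩
    · exact Or.inr ⟨2, 5, 2, 1, Nat.prime_two, Nat.prime_five, by norm_num⟩
    · exact Or.inr ⟨2, 3, 3, 1, Nat.prime_two, Nat.prime_three, by norm_num⟩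
    · exact Or.inl rfl
    · exact Or.inr ⟨2, 5, 3, 1, Nat.prime_two, Nat.prime_five, by norm_num⟩
    · exact absurd rfl h2
    · exact absurd rfl h3
  rcases hcases with rfl | ⟨p, q, a, b, hp', hq', e⟩
  · let P : Sylow 2 G := default
    refine not_isCyclic_sylow_two hp (by rw [hk]; norm_num) P ?_
    have hP : Nat.card (P : Subgroup G) = 2 := by
      rw [P.card_eq_multiplicity, hk,
        show Nat.factorization 30 2 = 1 from by
          rw [Nat.factorization_def 30 Nat.prime_two]; decide +kernel]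
      norm_num
    exact isCyclic_of_prime_card hP
  · exact hsolv hp' hq' e

theorem commutator_quotient {G : Type*} [Group G] (hp : commutator G = ⊤) (N : Subgroup G)
    [N.Normal] : commutator (G ⧸ N) = ⊤ := by
  rw [commutator_def] at hp ⊢
  rw [← Subgroup.map_top_of_surjective (QuotientGroup.mk' N) (QuotientGroup.mk'_surjective N),
    ← Subgroup.map_commutator, hp]

theorem exists_alt_five_gens : ∃ s t : alternatingGroup (Fin 5),
    s ^ 3 = 1 ∧ s ≠ 1 ∧ t ^ 5 = 1 ∧ t ≠ 1 ∧ (s * t) ^ 2 = 1 ∧ s * t ≠ 1 := by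
  refine ⟨⟨Equiv.swap 0 4 * Equiv.swap 4 2, ?_⟩,
    ⟨Equiv.swap 0 1 * Equiv.swap 1 2 * Equiv.swap 2 3 * Equiv.swap 3 4, ?_⟩, ?_⟩
  · rw [Equiv.Perm.mem_alternatingGroup]; decide +kernel
  · rw [Equiv.Perm.mem_alternatingGroup]; decide +kernel
  · decide +kernel

/-- A perfect group of order 120 with quaternion Sylow 2-subgroups is `SL(2,5)`. -/
theorem sl25_of_perfect {G : Type*} [Group G] [Finite G] (hG : Nat.card G = 120)
    (hp : commutator G = ⊤) (hQ : ∀ P : Sylow 2 G, Nonempty ((P : Subgroup G) ≃* QuaternionGroup 2)) :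
    Nonempty (G ≃* SL25) := by
  classical
  have : Fact (Nat.Prime 5) := ⟨Nat.prime_five⟩
  have hquot : ∀ (N : Subgroup G) [N.Normal], N ≠ ⊤ → Nat.card (G ⧸ N) = 60 ∨ N = ⊥ := by
    intro N _ hN
    by_contra hc
    push_neg at hc
    have hd : Nat.card (G ⧸ N) ∣ 120 := hG ▸ Subgroup.card_quotient_dvd_card N
    refine no_perfect_quotient (commutator_quotient hp N) _ rfl hd ?_ hc.1 ?_
    · exact fun e => hN (Subgroup.index_eq_one.1 ((Subgroup.index_eq_card N).trans e))
    · intro e
      apply hc.2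
      have h1 := N.card_eq_card_quotient_mul_card_subgroup
      rw [e, hG] at h1
      exact Subgroup.card_eq_one.1 (by omega)
  -- the action on the Sylow 5-subgroups
  have h5 : Nat.card (Sylow 5 G) = 6 := by
    have h1 := SylowToolkit.card_sylow_mem_candidates (G := G) (p := 5) (k := 1) (m := 24)
      (by rw [hG]; norm_num) (by norm_num)
    rw [show (Nat.divisors 24).filter (fun n => n % 5 = 1) = {1, 6} by decide] at h1
    simp only [Finset.mem_insert, Finset.mem_singleton] at h1
    refine h1.resolve_left fun e => ?_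
    obtain ⟨hsub, -⟩ := Nat.card_eq_one_iff_unique.1 e
    let P : Sylow 5 G := default
    have hPn : (P : Subgroup G).Normal := P.normal_of_subsingleton
    have hPc : Nat.card (P : Subgroup G) = 5 := by
      rw [P.card_eq_multiplicity, hG,
        show Nat.factorization 120 5 = 1 from by
          rw [Nat.factorization_def 120 Nat.prime_five]; decide +kernel]
      norm_num
    have hq : Nat.card (G ⧸ (P : Subgroup G)) = 24 := by
      have := (P : Subgroup G).card_eq_card_quotient_mul_card_subgroup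
      rw [hPc] at this
      omega
    rcases hquot (P : Subgroup G) (fun e' => by rw [e', Subgroup.card_top] at hPc; omega) with e' | e'
    · omega
    · rw [e', Subgroup.card_bot] at hPc; omega
  haveI := Fintype.ofFinite (Sylow 5 G)
  set φ := MulAction.toPermHom G (Sylow 5 G)
  have hsign : ∀ g, Equiv.Perm.sign (φ g) = 1 := by
    intro g
    have h1 : g ∈ (Equiv.Perm.sign.comp φ).ker := by
      have : commutator G ≤ (Equiv.Perm.sign.comp φ).ker := by
        rw [commutator_def, Subgroup.commutator_le]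
        intro a _ b _
        rw [MonoidHom.mem_ker, map_commutatorElement, commutatorElement_eq_one_iff_commute]
        exact mul_comm _ _
      exact this (by rw [hp]; trivial)
    exact h1
  set K := φ.ker
  have hKtop : K ≠ ⊤ := by
    intro e
    obtain ⟨P, Q, hPQ⟩ : ∃ P Q : Sylow 5 G, P ≠ Q := by
      have : Nontrivial (Sylow 5 G) := Finite.one_lt_card_iff_nontrivial.1 (by omega)
      exact exists_pair_ne _
    obtain ⟨g, hg⟩ := MulAction.exists_smul_eq G P Q
    have h1 : g ∈ K := by rw [e]; trivial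
    have h2 := Equiv.congr_fun (MonoidHom.mem_ker.1 h1) P
    exact hPQ (h2.symm.trans hg)
  have hKbot : K ≠ ⊥ := by
    intro e
    have hinj : Function.Injective φ := (MonoidHom.ker_eq_bot_iff φ).1 e
    let ψ : G →* alternatingGroup (Sylow 5 G) := φ.codRestrict _ hsign
    have hψ : Function.Injective ψ := fun a b hab => hinj (congrArg Subtype.val hab)
    have hA : Nat.card (alternatingGroup (Sylow 5 G)) = 360 := by
      haveI : Nontrivial (Sylow 5 G) := Finite.one_lt_card_iff_nontrivial.mp (by omega)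
      rw [nat_card_alternatingGroup, h5]; decide
    haveI : IsSimpleGroup (alternatingGroup (Sylow 5 G)) :=
      alternatingGroup.isSimpleGroup (by omega)
    have hidx : ψ.range.index = 3 := by
      have := Subgroup.card_mul_index ψ.range
      rw [← Nat.card_congr (MonoidHom.ofInjective hψ).toEquiv, hG, hA] at this
      omega
    have hd := SylowToolkit.card_dvd_factorial_index (H := ψ.range) (fun e => by
      rw [e, Subgroup.index_top] at hidx; omega)
    rw [hidx, hA] at hd
    norm_num [Nat.factorial] at hd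
  have hK2 : Nat.card K = 2 := by
    have h1 : Nat.card (G ⧸ K) = 60 := (hquot K hKtop).resolve_right hKbot
    have h2 := K.card_eq_card_quotient_mul_card_subgroup
    rw [h1] at h2
    omega
  -- the involution
  obtain ⟨z, hzK, hz1⟩ : ∃ z ∈ K, z ≠ 1 := by
    by_contra! hc
    exact hKbot ((Subgroup.eq_bot_iff_forall K).2 hc)
  have hKmem : ∀ a ∈ K, a = 1 ∨ a = z := by
    haveI := Fintype.ofFinite K
    intro a ha
    by_contra! hc
    have : ({⟨1, one_mem K⟩, ⟨z, hzK⟩, ⟨a, ha⟩} : Finset K).card = 3 :=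
      Finset.card_eq_three.2 ⟨_, _, _, fun e => hz1 (congrArg Subtype.val e).symm,
        fun e => hc.1 (congrArg Subtype.val e).symm, fun e => hc.2 (congrArg Subtype.val e).symm, rfl⟩
    have h3 := Finset.card_le_univ ({⟨1, one_mem K⟩, ⟨z, hzK⟩, ⟨a, ha⟩} : Finset K)
    rw [← Nat.card_eq_fintype_card, hK2] at h3
    omega
  have hzz : z * z = 1 := by
    rcases hKmem (z * z) (mul_mem hzK hzK) with e | e
    · exact e
    · exact absurd (mul_eq_left.1 e) hz1
  have hzc : ∀ g : G, Commute z g := by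
    intro g
    rcases hKmem (g * z * g⁻¹) ((MonoidHom.normal_ker φ).conj_mem z hzK g) with e | e
    · rw [mul_inv_eq_one, mul_eq_left] at e; exact absurd e hz1
    · exact (mul_inv_eq_iff_eq_mul.1 e).symm
  have hinv : ∀ a : G, a * a = 1 → a = 1 ∨ a = z := by
    intro a ha
    have hP : IsPGroup 2 (Subgroup.zpowers a ⊔ K : Subgroup G) := by
      refine IsPGroup.to_sup_of_normal_right ?_ (IsPGroup.of_card (n := 1) hK2)
      intro g
      refine ⟨1, Subtype.ext ?_⟩
      obtain ⟨_, i, rfl⟩ := g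
      show (a ^ i) ^ (2 ^ 1) = 1
      rw [pow_one, pow_two, ← zpow_add, ← two_mul, zpow_mul, zpow_two, ha, one_zpow]
    obtain ⟨S, hS⟩ := hP.exists_le_sylow
    obtain ⟨e⟩ := hQ S
    have key : ∀ q r : QuaternionGroup 2, q * q = 1 → r * r = 1 → r ≠ 1 → q = 1 ∨ q = r := by
      decide +kernel
    rcases key (e ⟨a, hS (Subgroup.mem_sup_left (Subgroup.mem_zpowers a))⟩)
      (e ⟨z, hS (Subgroup.mem_sup_right hzK)⟩)
      (by rw [← map_mul]; exact (congrArg e (Subtype.ext ha)).trans (map_one e))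
      (by rw [← map_mul]; exact (congrArg e (Subtype.ext hzz)).trans (map_one e))
      (fun e' => hz1 (congrArg Subtype.val (e.injective (e'.trans (map_one e).symm)))) with e' | e'
    · exact Or.inl (congrArg Subtype.val (e.injective (e'.trans (map_one e).symm)))
    · exact Or.inr (congrArg Subtype.val (e.injective e'))
  -- the quotient
  have hQcard : Nat.card (G ⧸ K) = 60 := (hquot K hKtop).resolve_right hKbot
  have hsimple : IsSimpleGroup (G ⧸ K) := by
    haveI : Nontrivial (G ⧸ K) := Finite.one_lt_card_iff_nontrivial.1 (by omega)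
    refine ⟨fun N hN => ?_⟩
    set M := N.comap (QuotientGroup.mk' K) with hMdef
    by_cases hM : M = ⊤
    · right
      rw [← Subgroup.map_comap_eq_self_of_surjective (QuotientGroup.mk'_surjective K) N,
        ← hMdef, hM, Subgroup.map_top_of_surjective _ (QuotientGroup.mk'_surjective K)]
    · left
      have hKM : K ≤ M := fun a ha => by
        show QuotientGroup.mk' K a ∈ N
        rw [show QuotientGroup.mk' K a = 1 from (QuotientGroup.eq_one_iff a).2 ha]
        exact one_mem N
      rcases hquot M hM with e | e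
      · have h2 := M.card_eq_card_quotient_mul_card_subgroup
        rw [e] at h2
        have hMK : M = K := (Subgroup.eq_of_le_of_card_ge hKM (by omega)).symm
        rw [← Subgroup.map_comap_eq_self_of_surjective (QuotientGroup.mk'_surjective K) N,
          ← hMdef, hMK, QuotientGroup.map_mk'_self]
      · exact absurd (le_bot_iff.1 (e ▸ hKM)) hKbot
  obtain ⟨ι⟩ := CfsgLib.SimpleSixty.nonempty_mulEquiv_alt_five hQcard
  obtain ⟨s, t, hs, hs1, ht, ht1, hst, hst1⟩ := exists_alt_five_gens
  let π : G →* alternatingGroup (Fin 5) := ι.toMonoidHom.comp (QuotientGroup.mk' K)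
  have hπker : ∀ a, π a = 1 → a = 1 ∨ a = z := fun a ha =>
    hKmem a ((QuotientGroup.eq_one_iff a).1 (ι.injective (ha.trans (map_one ι).symm)))
  have hπz : π z = 1 := by
    show ι (QuotientGroup.mk' K z) = 1
    rw [show QuotientGroup.mk' K z = 1 from (QuotientGroup.eq_one_iff z).2 hzK, map_one]
  have hlift : ∀ (n : ℕ) (s : alternatingGroup (Fin 5)), Odd n → s ^ n = 1 →
      ∃ x, π x = s ∧ x ^ n = 1 := by
    intro n s hn hs
    obtain ⟨x, hx⟩ := (ι.surjective.comp (QuotientGroup.mk'_surjective K)) s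
    replace hx : π x = s := hx
    rcases hπker (x ^ n) (by rw [map_pow, hx, hs]) with e | e
    · exact ⟨x, hx, e⟩
    · refine ⟨z * x, by rw [map_mul, hπz, one_mul]; exact hx, ?_⟩
      obtain ⟨c, rfl⟩ := hn
      rw [(hzc x).mul_pow, e, pow_succ, pow_mul, pow_two, hzz, one_pow, one_mul, hzz]
  obtain ⟨x, hxs, hx⟩ := hlift 3 s (by decide) hs
  obtain ⟨y, hyt, hy⟩ := hlift 5 t (by decide) ht
  have hxy : (x * y) ^ 2 = z := by
    rcases hπker ((x * y) ^ 2) (by rw [map_pow, map_mul, hxs, hyt, hst]) with e | e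
    · exfalso
      rw [pow_two] at e
      apply hst1
      rw [← hxs, ← hyt, ← map_mul]
      rcases hinv _ e with e' | e' <;> rw [e']
      · exact map_one π
      · exact hπz
    · exact e
  have hgen : Subgroup.closure ({x, y} : Set G) = ⊤ := by
    set E := Subgroup.closure ({x, y} : Set G)
    by_contra hE
    have hxE : x ∈ E := Subgroup.subset_closure (by simp)
    have hyE : y ∈ E := Subgroup.subset_closure (by simp)
    have hord : ∀ {g : G} {n : ℕ}, n.Prime → g ^ n = 1 → g ≠ 1 → g ∈ E → n ∣ Nat.card E := by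
      intro g n hn hg hg1 hgE
      have := Fact.mk hn
      exact orderOf_eq_prime hg hg1 ▸ Subgroup.orderOf_dvd_natCard E hgE
    have h3 : 3 ∣ Nat.card E := hord Nat.prime_three hx
      (fun e => hs1 (by rw [← hxs, e, map_one])) hxE
    have h5' : 5 ∣ Nat.card E := hord Nat.prime_five hy
      (fun e => ht1 (by rw [← hyt, e, map_one])) hyE
    have h4 : 4 ∣ Nat.card E := by
      have h4' : orderOf (x * y) = 2 ^ (1 + 1) := by
        refine orderOf_eq_prime_pow ?_ ?_
        · rw [pow_one, hxy]; exact hz1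
        · rw [pow_succ, pow_one, pow_mul, hxy, pow_two, hzz]
      exact (dvd_of_eq h4'.symm).trans (Subgroup.orderOf_dvd_natCard E (mul_mem hxE hyE))
    have h60 : 60 ∣ Nat.card E := Nat.Coprime.mul_dvd_of_dvd_of_dvd (show Nat.Coprime 20 3 by norm_num)
      (Nat.Coprime.mul_dvd_of_dvd_of_dvd (show Nat.Coprime 4 5 by norm_num) h4 h5') h3
    have hEi := Subgroup.card_mul_index E
    rw [hG] at hEi
    have hidx1 : E.index ≠ 1 := fun e => hE (Subgroup.index_eq_one.1 e)
    obtain ⟨c, hc⟩ := h60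
    have h2 : E.index = 2 := by
      rw [hc] at hEi
      have hc0 : c * E.index = 2 := by nlinarith
      rcases (Nat.dvd_prime Nat.prime_two).1 ⟨c, by rw [← hc0, mul_comm]⟩ with e | e
      · exact absurd e hidx1
      · exact e
    haveI := Subgroup.normal_of_index_eq_two h2
    have h6 := commutator_quotient hp E
    refine no_perfect_quotient h6 2 ?_ (by norm_num) (by norm_num) (by norm_num) (by norm_num)
    rw [← Subgroup.index_eq_card, h2]
  obtain ⟨e1⟩ := presented_equiv hG hx hy (by rw [pow_two, hzz]) (hzc x) (hzc y) hxy hgen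
  obtain ⟨e2⟩ := presented_equiv_sl25
  exact ⟨e1.symm.trans e2⟩

end CfsgLib.Frobenius.Zass
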