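import Mathlib
import Cfsg.Agent.Frobenius.Complement
import Cfsg.Agent.Frobenius.Metacyclic
import Cfsg.Agent.Frobenius.SolvableComplement
import Cfsg.Agent.Frobenius.ChangeField

/-! # Fixed-point-free groups: prime subgroups and quaternion pairs

`IsFpf G`: `G` has a fixed-point-free complex representation.  A pair `u, v` (`IsQPair`) generates a
quaternion group of order 8.
-/

set_option autoImplicit false

namespace CfsgLib.Frobenius.Zass

open CfsgLib.Frobenius
open scoped commutatorElement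

/-- `G` has a fixed-point-free representation over the complex numbers. -/
def IsFpf (G : Type*) [Group G] : Prop :=
  ∃ (d : ℕ) (ρ : Representation ℂ G (Fin d → ℂ)), 0 < d ∧ ∀ a : G, a ≠ 1 → ∀ v, ρ a v = v → v = 0

/-- Two elements generating a quaternion group of order 8. -/
def IsQPair {G : Type*} [Group G] (u v : G) : Prop :=
  orderOf u = 4 ∧ orderOf v = 4 ∧ ¬ Commute u v ∧ u * v * u⁻¹ = v⁻¹

/-- The normaliser of the cyclic subgroup generated by `a`. -/
abbrev nrm {G : Type*} [Group G] (a : G) : Subgroup G :=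
  Subgroup.normalizer (Subgroup.zpowers a : Set G)

variable {G : Type*} [Group G] [Finite G]

theorem mem_nrm {a g : G} : g ∈ nrm a ↔ g * a * g⁻¹ ∈ Subgroup.zpowers a := by
  refine ⟨fun h => (Subgroup.mem_normalizer_iff.1 h a).1 (Subgroup.mem_zpowers a),
    fun h => Subgroup.mem_normalizer_fintype fun z hz => ?_⟩
  obtain ⟨i, rfl⟩ := hz
  show g * a ^ i * g⁻¹ ∈ Subgroup.zpowers a
  rw [← conj_zpow]; exact zpow_mem h i

omit [Finite G] in
theorem centralizer_le_nrm (a : G) : Subgroup.centralizer ({a} : Set G) ≤ nrm a := by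
  intro g hg
  rw [Subgroup.mem_normalizer_iff]
  intro h
  rw [Subgroup.mem_centralizer_singleton_iff] at hg
  have hc : Commute g a := hg
  constructor
  · rintro ⟨i, rfl⟩
    exact ⟨i, by show a ^ i = g * a ^ i * g⁻¹; rw [(hc.zpow_right i).eq, mul_inv_cancel_right]⟩
  · rintro ⟨i, hi⟩
    refine ⟨i, ?_⟩
    show a ^ i = h
    have hi' : g * a ^ i = g * h := by
      rw [(hc.zpow_right i).eq]; exact mul_inv_eq_iff_eq_mul.1 hi.symm |>.symm
    exact mul_left_cancel hi'

theorem zpowers_eq_of_mem {a b : G} (hb : b ∈ Subgroup.zpowers a) (h : orderOf b = orderOf a) :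
    Subgroup.zpowers b = Subgroup.zpowers a :=
  Subgroup.eq_of_le_of_card_ge (Subgroup.zpowers_le.2 hb) (by rw [Nat.card_zpowers, Nat.card_zpowers, h])

omit [Finite G] in
theorem IsQPair.ne_one {u v : G} (h : IsQPair u v) : u * u ≠ 1 ∧ v * v ≠ 1 := by
  constructor <;> intro e
  · have := orderOf_dvd_of_pow_eq_one (x := u) (n := 2) (by rw [pow_two, e])
    rw [h.1] at this; norm_num at this
  · have := orderOf_dvd_of_pow_eq_one (x := v) (n := 2) (by rw [pow_two, e])
    rw [h.2.1] at this; norm_num at this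

omit [Finite G] in
theorem sq_sq_of_orderOf_four {u : G} (h : orderOf u = 4) : (u * u) * (u * u) = 1 := by
  rw [← pow_two, ← pow_two, ← pow_mul]
  show u ^ 4 = 1
  rw [← h, pow_orderOf_eq_one]

omit [Finite G] in
theorem mul_self_ne_one_of_orderOf_four {u : G} (h : orderOf u = 4) : u * u ≠ 1 := fun e => by
  have := orderOf_dvd_of_pow_eq_one (x := u) (n := 2) (by rw [pow_two, e])
  rw [h] at this; norm_num at this

theorem IsFpf.of_rep_zmod {p : ℕ} [Fact p.Prime] {V : Type*} [AddCommGroup V]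
    [Module (ZMod p) V] [Nontrivial V] (σ : Representation (ZMod p) G V)
    (hσ : ∀ a : G, a ≠ 1 → ∀ v : V, σ a v = v → v = 0) : IsFpf G :=
  ChangeField.exists_rep_any_field hσ ℂ (Nat.cast_ne_zero.2 Nat.card_pos.ne')

theorem IsFpf.of_rep_rat {V : Type*} [AddCommGroup V] [Module ℚ V] [Nontrivial V]
    (σ : Representation ℚ G V) (hσ : ∀ a : G, a ≠ 1 → ∀ v : V, σ a v = v → v = 0) : IsFpf G :=
  ChangeField.exists_rep_any_field_of_rat hσ ℂ (Nat.cast_ne_zero.2 Nat.card_pos.ne')

theorem IsFpf.of_occurs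
    (hFC : ∃ (L : Type) (_ : Group L) (_ : Finite L) (H : Subgroup L),
      Cfsg.IsFrobeniusComplement H ∧ Nonempty (G ≃* H)) : IsFpf G := by
  obtain ⟨p, _, d, ρ, hd, -, -, hρ⟩ := exists_prime_rep_of_occurs hFC
  have : Nonempty (Fin d) := ⟨⟨0, hd⟩⟩
  exact IsFpf.of_rep_zmod ρ hρ

omit [Finite G] in
theorem IsFpf.of_injective {H : Type*} [Group H] (hG : IsFpf G) (f : H →* G)
    (hf : Function.Injective f) : IsFpf H := by
  obtain ⟨d, ρ, hd, hρ⟩ := hG
  exact ⟨d, ρ.comp f, hd, fun a ha v h => hρ (f a) (fun e => ha (hf (e.trans f.map_one.symm))) v h⟩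

omit [Finite G] in
theorem IsFpf.subgroup (hG : IsFpf G) (K : Subgroup G) : IsFpf K :=
  hG.of_injective K.subtype K.subtype_injective

/-- Wrapper giving access to the representation lemmas. -/
theorem IsFpf.exists_rep (hG : IsFpf G) : ∃ (d : ℕ) (ρ : Representation ℂ G (Fin d → ℂ)),
    Nontrivial (Fin d → ℂ) ∧ ∀ a : G, a ≠ 1 → ∀ v, ρ a v = v → v = 0 := by
  obtain ⟨d, ρ, hd, hρ⟩ := hG
  have : Nonempty (Fin d) := ⟨⟨0, hd⟩⟩
  exact ⟨d, ρ, inferInstance, hρ⟩

section Fpf

variable (hG : IsFpf G)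

include hG

theorem IsFpf.involution_unique {a b : G} (ha : a ≠ 1) (haa : a * a = 1) (hb : b ≠ 1)
    (hbb : b * b = 1) : a = b := by
  obtain ⟨d, ρ, _, hρ⟩ := hG.exists_rep
  exact Linear.involution_unique hρ ha haa hb hbb

theorem IsFpf.involution_comm {a : G} (ha : a ≠ 1) (haa : a * a = 1) (g : G) : g * a = a * g := by
  have h1 : g * a * g⁻¹ ≠ 1 := fun e => ha (by
    rw [mul_inv_eq_one] at e; exact mul_eq_left.1 e)
  have h2 : (g * a * g⁻¹) * (g * a * g⁻¹) = 1 := by
    calc (g * a * g⁻¹) * (g * a * g⁻¹) = g * (a * a) * g⁻¹ := by group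
      _ = 1 := by rw [haa, mul_one, mul_inv_cancel]
  exact mul_inv_eq_iff_eq_mul.1 (hG.involution_unique h1 h2 ha haa)

theorem IsFpf.isCyclic_of_comm (K : Subgroup G) (hK : ∀ a ∈ K, ∀ b ∈ K, a * b = b * a) :
    IsCyclic K := by
  obtain ⟨d, ρ, _, hρ⟩ := hG.exists_rep
  exact Linear.isCyclic_subgroup_of_comm hρ K ⟨⟨fun a b => Subtype.ext (hK a a.2 b b.2)⟩⟩

theorem IsFpf.isCyclic_odd {p : ℕ} [Fact p.Prime] (hp : p ≠ 2) (P : Subgroup G)
    (hP : IsPGroup p P) : IsCyclic P := by
  obtain ⟨d, ρ, _, hρ⟩ := hG.exists_rep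
  exact Linear.isCyclic_odd_pSubgroup hρ hp P hP

theorem IsFpf.cyclic_or_quaternion (P : Subgroup G) (hP : IsPGroup 2 P) :
    IsCyclic P ∨ ∃ m, 1 ≤ m ∧ Nonempty (P ≃* QuaternionGroup (2 ^ m)) := by
  obtain ⟨d, ρ, _, hρ⟩ := hG.exists_rep
  exact Linear.cyclic_or_quaternion hρ P hP

theorem IsFpf.commute_prime {a b : G} (ha : (orderOf a).Prime) (hb : (orderOf b).Prime)
    (hn : b ∈ nrm a) : Commute a b := by
  obtain ⟨d, ρ, _, hρ⟩ := hG.exists_rep
  exact Linear.commute_of_prime_orderOf hρ ha hb (mem_nrm.1 hn)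

theorem IsFpf.commute_coprime {b y : G} (hb : (orderOf b).Prime)
    (hco : (orderOf b).Coprime (orderOf y)) (hn : b ∈ nrm y) : Commute b y := by
  obtain ⟨d, ρ, _, hρ⟩ := hG.exists_rep
  exact Linear.commute_of_coprime hρ hb hco (mem_nrm.1 hn)

/-- Commuting elements of the same prime order generate the same subgroup. -/
theorem IsFpf.zpowers_eq_of_commute {a b : G} {p : ℕ} (hp : p.Prime) (ha : orderOf a = p)
    (hb : orderOf b = p) (h : Commute a b) : Subgroup.zpowers b = Subgroup.zpowers a := by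
  classical
  have hcl := Subgroup.isMulCommutative_closure (k := ({a, b} : Set G)) (by
    rintro _ (rfl | rfl) _ (rfl | rfl)
    · rfl
    · exact h.eq
    · exact h.eq.symm
    · rfl)
  set K := Subgroup.closure ({a, b} : Set G) with hKdef
  have : IsCyclic K := hG.isCyclic_of_comm K fun x hx y hy =>
    congrArg Subtype.val (hcl.is_comm.comm ⟨x, hx⟩ ⟨y, hy⟩)
  have haK : a ∈ K := Subgroup.subset_closure (Set.mem_insert _ _)
  have hbK : b ∈ K := Subgroup.subset_closure (Set.mem_insert_of_mem _ rfl)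
  by_contra hne
  have hb' : b ∉ Subgroup.zpowers a := fun hb' => hne (zpowers_eq_of_mem hb' (hb.trans ha.symm))
  have : Fintype K := Fintype.ofFinite _
  have hle := IsCyclic.card_pow_eq_one_le (α := K) hp.pos
  let S : Finset K := (Finset.range p).image fun i => (⟨a ^ i, pow_mem haK i⟩ : K)
  have hS : S.card = p := by
    rw [Finset.card_image_of_injOn, Finset.card_range]
    intro i hi j hj e
    exact pow_injOn_Iio_orderOf (Set.mem_Iio.2 (ha.symm ▸ Finset.mem_range.1 hi))
      (Set.mem_Iio.2 (ha.symm ▸ Finset.mem_range.1 hj)) (congrArg Subtype.val e)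
  have hnot : (⟨b, hbK⟩ : K) ∉ S := by
    intro hmem
    obtain ⟨i, -, e⟩ := Finset.mem_image.1 hmem
    exact hb' (by rw [← show a ^ i = b from congrArg Subtype.val e]; exact pow_mem (Subgroup.mem_zpowers a) i)
  have hsub : insert (⟨b, hbK⟩ : K) S ⊆ Finset.univ.filter fun w : K => w ^ p = 1 := by
    intro w hw
    refine Finset.mem_filter.2 ⟨Finset.mem_univ _, Subtype.ext ?_⟩
    rcases Finset.mem_insert.1 hw with rfl | hw
    · show b ^ p = 1
      rw [← hb, pow_orderOf_eq_one]
    · obtain ⟨i, -, rfl⟩ := Finset.mem_image.1 hw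
      show (a ^ i) ^ p = 1
      rw [← pow_mul, mul_comm, pow_mul, ← ha, pow_orderOf_eq_one, one_pow]
  have := (Finset.card_le_card hsub).trans hle
  rw [Finset.card_insert_of_notMem hnot, hS] at this
  omega

/-- An element of the same prime order normalising `⟨a⟩` lies in it. -/
theorem IsFpf.zpowers_eq_of_mem_nrm {a b : G} {p : ℕ} (hp : p.Prime) (ha : orderOf a = p)
    (hb : orderOf b = p) (h : b ∈ nrm a) : Subgroup.zpowers b = Subgroup.zpowers a :=
  hG.zpowers_eq_of_commute hp ha hb (hG.commute_prime (ha.symm ▸ hp) (hb.symm ▸ hp) h)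

/-- If `b` has the order of `a` and normalises `⟨a⟩` then the normalisers coincide. -/
theorem IsFpf.nrm_eq {a b : G} {p : ℕ} (hp : p.Prime) (ha : orderOf a = p) (hb : orderOf b = p)
    (h : b ∈ nrm a) : nrm b = nrm a := by
  show Subgroup.normalizer _ = Subgroup.normalizer _
  rw [hG.zpowers_eq_of_mem_nrm hp ha hb h]

/-- In a fixed-point-free Z-group every subgroup of prime order is normal. -/
theorem IsFpf.prime_normal [IsZGroup G] {a : G} (ha : (orderOf a).Prime) (g : G) : g ∈ nrm a := by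
  obtain ⟨x, y, r, -, hco, -, hcard, hr, hy, htop⟩ := exists_metacyclic_gens G
  have hxn : Subgroup.zpowers x ≤ nrm y := by
    rw [Subgroup.zpowers_le, ← inv_inv x]
    exact inv_mem (mem_nrm.2 (by rw [inv_inv, hr]; exact pow_mem (Subgroup.mem_zpowers y) _))
  set p := orderOf a
  obtain ⟨a', ha', hall⟩ : ∃ a', orderOf a' = p ∧ ∀ h : G, h ∈ nrm a' := by
    have hd : p ∣ orderOf x * orderOf y := hcard ▸ orderOf_dvd_natCard a
    rcases ha.dvd_mul.1 hd with hx | hy'
    · refine ⟨x ^ (orderOf x / p), orderOf_pow_orderOf_div (orderOf_pos x).ne' hx, fun h => ?_⟩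
      set b := x ^ (orderOf x / p)
      have hb : orderOf b = p := orderOf_pow_orderOf_div (orderOf_pos x).ne' hx
      have hby : Commute b y := hG.commute_coprime (hb.symm ▸ ha)
        (hb ▸ hco.coprime_dvd_left hx) (hxn (pow_mem (Subgroup.mem_zpowers x) _))
      have hc : Subgroup.zpowers x ⊔ Subgroup.zpowers y ≤ Subgroup.centralizer {b} := by
        rw [sup_le_iff, Subgroup.zpowers_le, Subgroup.zpowers_le,
          Subgroup.mem_centralizer_singleton_iff, Subgroup.mem_centralizer_singleton_iff]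
        exact ⟨((Commute.refl x).pow_right _).eq, hby.eq.symm⟩
      exact centralizer_le_nrm b (hc (htop ▸ Subgroup.mem_top h))
    · refine ⟨y ^ (orderOf y / p), orderOf_pow_orderOf_div (orderOf_pos y).ne' hy', fun h => ?_⟩
      rw [mem_nrm]
      have hn : (commutator G).Normal := inferInstance
      set b := y ^ (orderOf y / p)
      have hb : orderOf b = p := orderOf_pow_orderOf_div (orderOf_pos y).ne' hy'
      have hmem : h * b * h⁻¹ ∈ Subgroup.zpowers y := by
        rw [hy]; exact hn.conj_mem b (hy ▸ pow_mem (Subgroup.mem_zpowers y) _) h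
      have hcomm : Commute b (h * b * h⁻¹) := by
        obtain ⟨i, hi⟩ := hmem
        rw [← hi]
        exact ((Commute.refl y).pow_left _).zpow_right i
      have h2 : orderOf (h * b * h⁻¹) = p :=
        (orderOf_injective (MulAut.conj h).toMonoidHom (MulAut.conj h).injective b).trans hb
      rw [← hG.zpowers_eq_of_commute ha hb h2 hcomm]
      exact Subgroup.mem_zpowers _
  have heq : Subgroup.zpowers a = Subgroup.zpowers a' :=
    hG.zpowers_eq_of_mem_nrm ha ha' rfl (hall a)
  show g ∈ Subgroup.normalizer _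
  rw [heq]; exact hall g

/-- Odd prime subgroups of the kernel of a map are normal when the kernel is a Z-group. -/
theorem IsFpf.le_nrm_of_mem_ker {K : Subgroup G} {X : Type*} [Group X] (f : K →* X)
    (hf : IsZGroup f.ker) {a : K} (ha : a ∈ f.ker) (hp : (orderOf (a : G)).Prime) :
    K ≤ nrm (a : G) := by
  intro g hg
  have h1 : (⟨g, hg⟩ : K) * a * (⟨g, hg⟩ : K)⁻¹ ∈ f.ker :=
    (inferInstance : f.ker.Normal).conj_mem a ha _
  set b : f.ker := ⟨_, h1⟩
  have hop : orderOf (⟨a, ha⟩ : f.ker) = orderOf (a : G) := by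
    rw [← Subgroup.orderOf_coe, ← Subgroup.orderOf_coe]
  have hob : orderOf b = orderOf (a : G) := by
    rw [← Subgroup.orderOf_coe, ← Subgroup.orderOf_coe]
    exact orderOf_injective (MulAut.conj g).toMonoidHom (MulAut.conj g).injective _
  have hZ : IsFpf f.ker := (hG.subgroup K).subgroup f.ker
  have hmem := hZ.zpowers_eq_of_mem_nrm hp hop hob (hZ.prime_normal (hop.symm ▸ hp) b)
  rw [mem_nrm]
  obtain ⟨i, hi⟩ : b ∈ Subgroup.zpowers (⟨a, ha⟩ : f.ker) := hmem ▸ Subgroup.mem_zpowers b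
  exact ⟨i, congrArg (fun w : f.ker => ((w : K) : G)) hi⟩

/-- An element of order dividing 4 centralising a quaternion pair is an involution or 1. -/
theorem IsFpf.sq_eq_one_of_centralize {u v t : G} (h : IsQPair u v) (hu : Commute t u)
    (hv : Commute t v) (ht : t ^ 4 = 1) : t * t = 1 := by
  by_contra ht2
  have ht4 : (t * t) * (t * t) = 1 := by
    rw [← pow_two, ← pow_two, ← pow_mul]; exact ht
  have heq : u * u = t * t :=
    hG.involution_unique h.ne_one.1 (sq_sq_of_orderOf_four h.1) ht2 ht4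
  have hsq : (u * t) * (u * t) = 1 := by
    calc (u * t) * (u * t) = u * (t * u) * t := by group
      _ = (u * u) * (t * t) := by rw [hu.eq]; group
      _ = 1 := by rw [heq, ht4]
  by_cases h1 : u * t = 1
  · rw [eq_inv_of_mul_eq_one_right h1] at hv
    exact h.2.2.1 (inv_inv u ▸ hv.inv_left)
  · have h2 := hG.involution_unique h1 hsq h.ne_one.1 (sq_sq_of_orderOf_four h.1)
    exact h.2.2.1 (mul_left_cancel h2 ▸ hv)

/-- A subgroup containing no quaternion pair is a Z-group. -/
theorem IsFpf.isZGroup_of_no_pair (K : Subgroup G)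
    (h : ∀ u ∈ K, ∀ v ∈ K, ¬ IsQPair u v) : IsZGroup K := by
  refine ⟨fun p hp P => ?_⟩
  have := Fact.mk hp
  by_cases hp2 : p = 2
  swap
  · exact (hG.subgroup K).isCyclic_odd hp2 (P : Subgroup K) P.2
  subst hp2
  rcases (hG.subgroup K).cyclic_or_quaternion (P : Subgroup K) P.2 with hc | ⟨m, hm, ⟨e⟩⟩
  · exact hc
  exfalso
  let f : QuaternionGroup (2 ^ m) →* G :=
    (K.subtype.comp (P : Subgroup K).subtype).comp e.symm.toMonoidHom
  have hf : Function.Injective f :=
    (K.subtype_injective.comp (P : Subgroup K).subtype_injective).comp e.symm.injective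
  obtain ⟨j, rfl⟩ : ∃ j, m = j + 1 := ⟨m - 1, by omega⟩
  have hfK : ∀ q, f q ∈ K := fun q => ((e.symm q : P) : K).2
  refine h (f (QuaternionGroup.a ((2 ^ j : ℕ) : ZMod (2 * 2 ^ (j + 1))))) (hfK _)
    (f (QuaternionGroup.xa 0)) (hfK _) ⟨?_, ?_, ?_, ?_⟩
  · rw [orderOf_injective f hf, ← QuaternionGroup.a_one_pow,
      orderOf_pow' _ (by positivity), QuaternionGroup.orderOf_a_one]
    have e1 : 2 * 2 ^ (j + 1) = 2 ^ j * 4 := by ring
    rw [e1, Nat.gcd_mul_right_left, Nat.mul_div_cancel_left _ (by positivity)]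
  · rw [orderOf_injective f hf, QuaternionGroup.orderOf_xa]
  · intro hc
    have hc' := hf ((map_mul f _ _).trans (hc.eq.trans (map_mul f _ _).symm))
    rw [QuaternionGroup.a_mul_xa, QuaternionGroup.xa_mul_a] at hc'
    have h0 := QuaternionGroup.xa.inj hc'
    simp only [zero_sub, zero_add] at h0
    have h1 : ((2 * 2 ^ j : ℕ) : ZMod (2 * 2 ^ (j + 1))) = 0 := by
      push_cast at h0 ⊢
      linear_combination (-1 : ZMod (2 * 2 ^ (j + 1))) * h0
    rw [CharP.cast_eq_zero_iff (ZMod (2 * 2 ^ (j + 1))) (2 * 2 ^ (j + 1))] at h1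
    have := Nat.le_of_dvd (by positivity) h1
    have : 0 < 2 ^ j := by positivity
    rw [pow_succ] at *
    omega
  · rw [← map_inv, ← map_mul, ← map_mul, ← map_inv]
    congr 1
    rw [mul_inv_eq_iff_eq_mul, eq_inv_mul_iff_mul_eq]
    simp only [QuaternionGroup.a_mul_xa, QuaternionGroup.xa_mul_xa, QuaternionGroup.xa_mul_a]
    congr 1
    have hn : ((2 ^ j : ℕ) : ZMod (2 * 2 ^ (j + 1))) + (2 ^ j : ℕ) = (2 ^ (j + 1) : ℕ) := by
      rw [← Nat.cast_add]; congr 1; ring
    linear_combination (-1 : ZMod (2 * 2 ^ (j + 1))) * hn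

end Fpf

end CfsgLib.Frobenius.Zass
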