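import Mathlib
import Cfsg.Agent.Frobenius.Zassenhaus.Fpf
import Cfsg.Agent.FusionTwo.Common
import Cfsg.Agent.S3742
import Cfsg.Agent.Chars.Apps.Burnside

/-! # Perfect fixed-point-free groups: centre, Sylow 2-subgroups, elements of order 4 -/

set_option autoImplicit false

namespace CfsgLib.Frobenius.Zass

open CfsgLib.Frobenius
open scoped commutatorElement

variable {G : Type*} [Group G]

/-- A homomorphism from a perfect group to a solvable group is trivial. -/
theorem eq_one_of_hom (hp : commutator G = ⊤) {X : Type*} [Group X] [hX : Group.IsSolvable X]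
    (f : G →* X) (g : G) : f g = 1 := by
  have hD : ∀ n, derivedSeries G n = ⊤ := by
    intro n
    induction n with
    | zero => rfl
    | succ n ih => rw [derivedSeries_succ, ih, ← commutator_def, hp]
  obtain ⟨n, hn⟩ := hX.solvable
  have := map_derivedSeries_le_derivedSeries f n (Subgroup.mem_map_of_mem f ((hD n).symm ▸ Subgroup.mem_top g))
  rwa [hn, Subgroup.mem_bot] at this

variable [Finite G]

/-- Data of a perfect fixed-point-free group. -/
structure PerfectFpf (G : Type*) [Group G] : Prop where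
  fpf : IsFpf G
  perfect : commutator G = ⊤
  nontriv : Nontrivial G

theorem conjInv_pow_aux {H : Type*} [Group H] {r x : H} {i : ℕ} :
    (r⁻¹ * x * r) ^ i = r⁻¹ * x ^ i * r := (conjInv_pow r x i).symm

namespace PerfectFpf

variable (h : PerfectFpf G)

include h

theorem cyclic_normal_le_center (A : Subgroup G) [A.Normal] [IsCyclic A] : A ≤ Subgroup.center G := by
  let e := IsCyclic.mulAutMulEquiv A
  let _ : CommGroup (MulAut A) :=
    CommGroup.mk fun a b => e.injective (by rw [map_mul, map_mul, mul_comm])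
  intro a ha
  rw [Subgroup.mem_center_iff]
  intro g
  have h2 := eq_one_of_hom h.perfect (MulAut.conjNormal : G →* MulAut A) g
  have h3 := congrArg Subtype.val (DFunLike.congr_fun h2 ⟨a, ha⟩)
  simp only [MulAut.conjNormal_apply, MulAut.one_apply] at h3
  exact mul_inv_eq_iff_eq_mul.1 h3

theorem not_isSolvable : ¬ Group.IsSolvable G := fun hs => by
  have := h.nontriv
  obtain ⟨g, hg⟩ := exists_ne (1 : G)
  exact hg (eq_one_of_hom h.perfect (MonoidHom.id G) g)

theorem solvable_normal_le_center (N : Subgroup G) : N.Normal → Group.IsSolvable N →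
    N ≤ Subgroup.center G := by
  induction N using WellFoundedLT.induction with | ind N ih => ?_
  intro hN hs
  rcases eq_or_ne N ⊥ with rfl | hne
  · exact bot_le
  have : Nontrivial N := (Subgroup.nontrivial_iff_ne_bot N).2 hne
  have hlt : ⁅N, N⁆ < N := by
    have h1 := Group.IsSolvable.commutator_lt_top_of_nontrivial N
    have h2 := Subgroup.map_subtype_lt_map_subtype.2 h1
    rwa [Subgroup.map_subtype_commutator, ← MonoidHom.range_eq_map, N.range_subtype] at h2
  have hc : ⁅N, N⁆ ≤ Subgroup.center G :=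
    ih _ hlt inferInstance (solvable_of_solvable_injective (Subgroup.inclusion_injective hlt.le))
  have hle : commutator N ≤ Subgroup.center N := fun x hx => by
    rw [Subgroup.mem_center_iff]
    intro g
    refine Subtype.ext ?_
    have : (x : G) ∈ ⁅N, N⁆ := (Subgroup.map_subtype_commutator N) ▸ Subgroup.mem_map_of_mem _ hx
    exact Subgroup.mem_center_iff.1 (hc this) g
  have hnil : Group.IsNilpotent N := by
    have hq : ∀ a b : N ⧸ Subgroup.center N, a * b = b * a := fun a b => by
      induction a using QuotientGroup.induction_on with | H a => ?_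
      induction b using QuotientGroup.induction_on with | H b => ?_
      show QuotientGroup.mk' _ a * QuotientGroup.mk' _ b = QuotientGroup.mk' _ b * QuotientGroup.mk' _ a
      rw [← commutatorElement_eq_one_iff_mul_comm, ← map_commutatorElement]
      exact (QuotientGroup.eq_one_iff _).2
        (hle (Subgroup.commutator_mem_commutator (Subgroup.mem_top a) (Subgroup.mem_top b)))
    let _ : CommGroup (N ⧸ Subgroup.center N) := CommGroup.mk hq
    exact Group.of_quotient_center_nilpotent inferInstance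
  suffices hs : ∀ (p : ℕ) [Fact p.Prime] (P : Sylow p N), (P : Subgroup N).map N.subtype ≤ Subgroup.center G by
    have hdvd : Nat.card N ∣ Nat.card ((Subgroup.center G).subgroupOf N) := by
      rw [← Nat.factorization_prime_le_iff_dvd Nat.card_pos.ne' Nat.card_pos.ne']
      intro p hp
      have := Fact.mk hp
      let P : Sylow p N := default
      rw [← hp.pow_dvd_iff_le_factorization Nat.card_pos.ne', ← P.card_eq_multiplicity]
      exact Subgroup.card_dvd_of_le fun x hx =>
        Subgroup.mem_subgroupOf.2 (hs p P (Subgroup.mem_map_of_mem _ hx))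
    have htop : (Subgroup.center G).subgroupOf N = ⊤ :=
      Subgroup.eq_top_of_card_eq _ (le_antisymm (Subgroup.card_le_card_group _) (Nat.le_of_dvd Nat.card_pos hdvd))
    exact Subgroup.subgroupOf_eq_top.1 htop
  intro p hp P
  have h3 : ∀ (p : ℕ) (_ : Fact p.Prime) (P : Sylow p N), P.Normal :=
    ((Group.isNilpotent_of_finite_tfae (G := N)).out 0 3).mp hnil
  have hPc : (P : Subgroup N).Characteristic := P.characteristic_of_normal (h3 p hp P)
  have hPn : ((P : Subgroup N).map N.subtype).Normal := ConjAct.normal_of_characteristic_of_normal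
  set P' := (P : Subgroup N).map N.subtype with hP'
  have hP'p : IsPGroup p P' := P.2.map N.subtype
  have hcyc : IsCyclic P' → P' ≤ Subgroup.center G := fun hc => by
    have := hc; exact h.cyclic_normal_le_center P'
  by_cases hp2 : p = 2
  swap
  · exact hcyc (h.fpf.isCyclic_odd hp2 P' hP'p)
  subst hp2
  rcases h.fpf.cyclic_or_quaternion P' hP'p with hc | ⟨m, hm, ⟨e⟩⟩
  · exact hcyc hc
  exfalso
  have hm1 : m = 1 := by
    have hw : ∀ u v w : QuaternionGroup (2 ^ m), ⁅u, v⁆ * w = w * ⁅u, v⁆ := by
      intro u v w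
      apply e.symm.injective
      rw [map_mul, map_mul, map_commutatorElement]
      refine Subtype.ext ?_
      have hu := Subgroup.map_subtype_le _ (e.symm u).2
      have hv := Subgroup.map_subtype_le _ (e.symm v).2
      have hmem : ((⁅e.symm u, e.symm v⁆ : P') : G) ∈ Subgroup.center G := by
        show P'.subtype ⁅e.symm u, e.symm v⁆ ∈ _
        rw [map_commutatorElement]
        exact hc (Subgroup.commutator_mem_commutator hu hv)
      exact (Subgroup.mem_center_iff.1 hmem _).symm
    have hw' := hw (QuaternionGroup.a 1) (QuaternionGroup.xa 0) (QuaternionGroup.xa 0)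
    rw [commutatorElement_def] at hw'
    change QuaternionGroup.a (1 : ZMod (2 * 2 ^ m)) * QuaternionGroup.xa 0 * QuaternionGroup.a (-1) *
      QuaternionGroup.xa (((2 ^ m : ℕ) : ZMod (2 * 2 ^ m)) + 0) * QuaternionGroup.xa 0 = QuaternionGroup.xa 0 *
      (QuaternionGroup.a (1 : ZMod (2 * 2 ^ m)) * QuaternionGroup.xa 0 * QuaternionGroup.a (-1) *
      QuaternionGroup.xa (((2 ^ m : ℕ) : ZMod (2 * 2 ^ m)) + 0)) at hw'
    simp only [QuaternionGroup.a_mul_xa, QuaternionGroup.xa_mul_a, QuaternionGroup.xa_mul_xa,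
      QuaternionGroup.a_mul_a] at hw'
    have h' := QuaternionGroup.xa.inj hw'
    have hnn : (((2 ^ m : ℕ) : ZMod (2 * 2 ^ m))) + ((2 ^ m : ℕ) : ZMod (2 * 2 ^ m)) = 0 := by
      rw [← Nat.cast_add, CharP.cast_eq_zero_iff (ZMod (2 * 2 ^ m)) (2 * 2 ^ m)]
      exact dvd_of_eq (two_mul _)
    have h4 : ((4 : ℕ) : ZMod (2 * 2 ^ m)) = 0 := by
      push_cast at h' hnn ⊢
      linear_combination (-1 : ZMod (2 * 2 ^ m)) * h' + (-2 : ZMod (2 * 2 ^ m)) * hnn
    rw [CharP.cast_eq_zero_iff (ZMod (2 * 2 ^ m)) (2 * 2 ^ m)] at h4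
    have h5 := Nat.le_of_dvd (by norm_num) h4
    by_contra hne
    have : 2 ^ 2 ≤ 2 ^ m := Nat.pow_le_pow_right two_pos (by omega)
    omega
  subst hm1
  obtain ⟨S4⟩ := Cfsg.Agent.S3742.result
  have hsolv : Group.IsSolvable (MulAut P') :=
    have : Group.IsSolvable (Equiv.Perm (Fin 4)) :=
      CfsgLib.Chars.Apps.isSolvable_of_card_eq_pow_mul_pow (Equiv.Perm (Fin 4)) Nat.prime_two Nat.prime_three
        (a := 3) (b := 1) (by rw [Nat.card_perm, Nat.card_fin]; rfl)
    solvable_of_solvable_injective (f := ((MulAut.congr e).trans S4).toMonoidHom)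
      ((MulAut.congr e).trans S4).injective
  have hcentral : ∀ (g : G) (w : P'), g * w * g⁻¹ = w := fun g w => by
    have h2 := eq_one_of_hom h.perfect (MulAut.conjNormal : G →* MulAut P') g
    have h3 := congrArg Subtype.val (DFunLike.congr_fun h2 w)
    simpa using h3
  have hcomm : ∀ q r : QuaternionGroup (2 ^ 1), q * r = r * q := fun q r => by
    apply e.symm.injective
    rw [map_mul, map_mul]
    refine Subtype.ext ?_
    have := hcentral (e.symm q : G) (e.symm r)
    exact mul_inv_eq_iff_eq_mul.1 this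
  exact absurd (hcomm (QuaternionGroup.a 1) (QuaternionGroup.xa 0)) (by decide)

/-- Burnside: a non-trivial cyclic Sylow subgroup is acted on non-trivially by its normaliser. -/
theorem exists_normalizing {p : ℕ} [Fact p.Prime] (P : Sylow p G) [IsCyclic P]
    (hne : (P : Subgroup G) ≠ ⊥) :
    ∃ a ∈ Subgroup.normalizer ((P : Subgroup G) : Set G), ¬ p ∣ orderOf a ∧
      a ∉ Subgroup.centralizer ((P : Subgroup G) : Set G) := by
  classical
  by_contra hcon
  push_neg at hcon
  have hN : Subgroup.normalizer ((P : Subgroup G) : Set G) ≤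
      Subgroup.centralizer ((P : Subgroup G) : Set G) := by
    intro g hg
    obtain ⟨k, b, hpb, hfac⟩ := Nat.exists_eq_pow_mul_and_not_dvd (orderOf_pos g).ne' p (Fact.out : p.Prime).ne_one
    have hq : g ^ (p ^ k) ∈ Subgroup.centralizer ((P : Subgroup G) : Set G) := by
      refine hcon _ (pow_mem hg _) fun hd => hpb ?_
      have : orderOf (g ^ p ^ k) = b := by
        rw [orderOf_pow' _ (pow_ne_zero _ (Fact.out : p.Prime).ne_zero), hfac,
          Nat.gcd_mul_right_left, Nat.mul_div_cancel_left _ (pow_pos (Fact.out : p.Prime).pos _)]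
      rwa [this] at hd
    have hp' : g ^ b ∈ Subgroup.centralizer ((P : Subgroup G) : Set G) := by
      have hb : (g ^ b) ^ p ^ k = 1 := by rw [← pow_mul, mul_comm, ← hfac, pow_orderOf_eq_one]
      have hpg : IsPGroup p (Subgroup.zpowers (g ^ b)) := by
        rw [IsPGroup.iff_card, Nat.card_zpowers]
        obtain ⟨j, -, hj⟩ := (Nat.dvd_prime_pow Fact.out).1 (orderOf_dvd_of_pow_eq_one hb)
        exact ⟨j, hj⟩
      have hmem : g ^ b ∈ Subgroup.zpowers (g ^ b) ⊓
          Subgroup.normalizer ((P : Subgroup G) : Set G) :=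
        ⟨Subgroup.mem_zpowers _, pow_mem hg _⟩
      replace hmem := (hpg.inf_normalizer_sylow P).le hmem
      have : IsMulCommutative (P : Subgroup G) := inferInstance
      exact (P : Subgroup G).le_centralizer hmem.2
    have hco : Nat.Coprime (p ^ k) b :=
      Nat.Coprime.pow_left _ ((Fact.out : p.Prime).coprime_iff_not_dvd.2 hpb)
    have hbez := Nat.gcd_eq_gcd_ab (p ^ k) b
    rw [hco.gcd_eq_one] at hbez
    have : g = (g ^ p ^ k) ^ (Nat.gcdA (p ^ k) b) * (g ^ b) ^ (Nat.gcdB (p ^ k) b) := by
      rw [← zpow_natCast g (p ^ k), ← zpow_natCast g b, ← zpow_mul, ← zpow_mul, ← zpow_add, ← hbez]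
      simp
    rw [this]
    exact mul_mem (zpow_mem hq _) (zpow_mem hp' _)
  have : IsMulCommutative (P : Subgroup G) := inferInstance
  let _ : CommGroup (P : Subgroup G) :=
    CommGroup.mk fun a b => this.is_comm.comm a b
  have hker : (MonoidHom.transferSylow P hN).ker = ⊤ := by
    rw [eq_top_iff]
    intro g _
    exact eq_one_of_hom h.perfect (MonoidHom.transferSylow P hN) g
  have hc := MonoidHom.ker_transferSylow_isComplement' P hN
  rw [hker, Subgroup.isComplement'_top_left] at hc
  exact hne hc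

theorem even_card : 2 ∣ Nat.card G := by
  by_contra h2
  obtain ⟨d, ρ, _, hρ⟩ := h.fpf.exists_rep
  have := Linear.isZGroup_of_odd hρ h2
  exact h.not_isSolvable inferInstance

/-- The Sylow 2-subgroups are generalised quaternion. -/
theorem exists_quaternion (Q : Sylow 2 G) :
    ∃ m, 1 ≤ m ∧ Nonempty (Q ≃* QuaternionGroup (2 ^ m)) := by
  rcases h.fpf.cyclic_or_quaternion (Q : Subgroup G) Q.2 with hc | hq
  swap
  · exact hq
  exfalso
  have := hc
  obtain ⟨a, ha, h2, hnc⟩ := h.exists_normalizing Q (Q.ne_bot_of_dvd_card h.even_card)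
  apply hnc
  let φ : Subgroup.normalizer ((Q : Subgroup G) : Set G) →* MulAut (Q : Subgroup G) :=
    (Q : Subgroup G).normalizerMonoidHom
  have hk : φ ⟨a, ha⟩ = 1 := by
    obtain ⟨k, hk⟩ := Q.2.exists_card_eq
    have h1 := orderOf_map_dvd φ ⟨a, ha⟩
    rw [← Subgroup.orderOf_coe (⟨a, ha⟩ : Subgroup.normalizer ((Q : Subgroup G) : Set G))] at h1
    have h3 := orderOf_dvd_natCard (φ ⟨a, ha⟩)
    rw [IsCyclic.card_mulAut, hk] at h3
    have h4 : Nat.totient (2 ^ k) ∣ 2 ^ k := by
      cases k with
      | zero => simp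
      | succ k => rw [Nat.totient_prime_pow_succ Nat.prime_two]; simp [pow_succ]
    have hco : Nat.Coprime (orderOf a) (2 ^ k) :=
      Nat.Coprime.pow_right _ ((Nat.prime_two.coprime_iff_not_dvd.2 h2).symm)
    exact orderOf_eq_one_iff.1 (Nat.eq_one_of_dvd_coprimes hco h1 (h3.trans h4))
  rw [Subgroup.mem_centralizer_iff]
  intro q hq
  have := congrArg Subtype.val (DFunLike.congr_fun hk ⟨q, hq⟩)
  exact (mul_inv_eq_iff_eq_mul.1 this).symm

theorem mem_center_iff {x : G} : x ∈ Subgroup.center G ↔ x * x = 1 := by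
  constructor
  · intro hx
    have hcyc : IsCyclic (Subgroup.center G) :=
      h.fpf.isCyclic_of_comm _ fun a _ b hb => Subgroup.mem_center_iff.1 hb a
    -- odd part
    have hodd : ∀ p : ℕ, p.Prime → p ≠ 2 → ∀ c ∈ Subgroup.center G, orderOf c ≠ p := by
      intro p hp hp2 c hc hord
      have := Fact.mk hp
      obtain ⟨P, hP⟩ := (IsPGroup.of_card (n := 1)
        (by rw [Nat.card_zpowers, hord, pow_one]) : IsPGroup p (Subgroup.zpowers c)).exists_le_sylow
      have hPc := h.fpf.isCyclic_odd hp2 (P : Subgroup G) P.2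
      let _ : CommGroup (P : Subgroup G) := IsCyclic.commGroup
      have key : ∀ (k : ℕ) (g₀ : G), g₀⁻¹ * c ^ k * g₀ ∈ (P : Subgroup G) →
          g₀⁻¹ * c ^ k * g₀ = c ^ k := fun k g₀ _ => by
        rw [mul_assoc, ← Subgroup.mem_center_iff.1 (pow_mem hc k) g₀, inv_mul_cancel_left]
      have ht := MonoidHom.transfer_eq_pow (MonoidHom.id (P : Subgroup G)) c key
      rw [eq_one_of_hom h.perfect] at ht
      have h1 : c ^ (P : Subgroup G).index = 1 := (congrArg Subtype.val ht).symm
      have h2 := orderOf_dvd_of_pow_eq_one h1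
      rw [hord] at h2
      exact P.not_dvd_index h2
    -- the centre is a 2-group inside the centre of a quaternion group
    have h2g : IsPGroup 2 (Subgroup.center G) := by
      rw [IsPGroup.iff_card]
      refine ⟨_, Nat.eq_prime_pow_of_unique_prime_dvd Nat.card_pos.ne' fun {d} hd hdvd => ?_⟩
      have := Fact.mk hd
      obtain ⟨c, hc⟩ := exists_prime_orderOf_dvd_card' d hdvd
      by_contra hne
      exact hodd d hd hne c c.2 (by rw [Subgroup.orderOf_coe, hc])
    obtain ⟨Q, hQ⟩ := h2g.exists_le_sylow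
    obtain ⟨m, hm, ⟨e⟩⟩ := h.exists_quaternion Q
    have key : ∀ q : QuaternionGroup (2 ^ m), (∀ r, r * q = q * r) → q * q = 1 := by
      intro q hq
      cases q with
      | a i =>
        have := hq (QuaternionGroup.xa 0)
        rw [QuaternionGroup.xa_mul_a, QuaternionGroup.a_mul_xa] at this
        have := QuaternionGroup.xa.inj this
        rw [QuaternionGroup.a_mul_a, ← QuaternionGroup.a_zero]
        congr 1
        linear_combination this
      | xa i =>
        exfalso
        have := hq (QuaternionGroup.a 1)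
        rw [QuaternionGroup.xa_mul_a, QuaternionGroup.a_mul_xa] at this
        have := QuaternionGroup.xa.inj this
        have h2 : ((2 : ℕ) : ZMod (2 * 2 ^ m)) = 0 := by push_cast; linear_combination (-1 : ZMod (2 * 2 ^ m)) * this
        rw [CharP.cast_eq_zero_iff (ZMod (2 * 2 ^ m)) (2 * 2 ^ m)] at h2
        have := Nat.le_of_dvd two_pos h2
        have : 2 ≤ 2 ^ m := le_self_pow₀ one_le_two (by omega)
        omega
    have h1 := key (e ⟨x, hQ hx⟩) fun r => by
      rw [← e.apply_symm_apply r, ← map_mul, ← map_mul]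
      exact congrArg e (Subtype.ext (Subgroup.mem_center_iff.1 hx _))
    rw [← map_mul, e.map_eq_one_iff] at h1
    exact congrArg Subtype.val h1
  · intro hx
    by_cases hx1 : x = 1
    · subst hx1; exact one_mem _
    · rw [Subgroup.mem_center_iff]; exact h.fpf.involution_comm hx1 hx

theorem nrm_ne_top {y : G} (hy : y * y ≠ 1) : nrm y ≠ ⊤ := by
  intro e
  have : (Subgroup.zpowers y).Normal := Subgroup.normalizer_eq_top_iff.1 e
  exact hy (h.mem_center_iff.1 (h.cyclic_normal_le_center _ (Subgroup.mem_zpowers y)))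

omit h in
theorem two_mul_eq_zero {n : ℕ} [NeZero n] {x : ZMod (2 * n)} (hx : 2 * x = 0) :
    x = 0 ∨ x = (n : ℕ) := by
  rw [← ZMod.natCast_rightInverse x] at hx ⊢
  have hx' : ((2 * x.val : ℕ) : ZMod (2 * n)) = 0 := by
    rw [Nat.cast_mul, Nat.cast_ofNat]; exact hx
  rw [CharP.cast_eq_zero_iff (ZMod (2 * n)) (2 * n)] at hx'
  obtain ⟨c, hc⟩ := Nat.dvd_of_mul_dvd_mul_left two_pos hx'
  have hlt : x.val < 2 * n := ZMod.val_lt x
  rcases Nat.lt_or_ge c 2 with h2 | h2
  · interval_cases c
    · left; rw [hc, mul_zero, Nat.cast_zero]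
    · right; rw [hc, mul_one]
  · nlinarith

/-- All elements of order 4 are conjugate. -/
theorem isConj_of_orderOf_four {u s : G} (hu : orderOf u = 4) (hs : orderOf s = 4) : IsConj u s := by
  classical
  let Q : Sylow 2 G := default
  obtain ⟨m, hm, ⟨e⟩⟩ := h.exists_quaternion Q
  obtain ⟨j, rfl⟩ : ∃ j, m = j + 1 := ⟨m - 1, by omega⟩
  let f : QuaternionGroup (2 ^ (j + 1)) →* G := (Q : Subgroup G).subtype.comp e.symm.toMonoidHom
  have hf : Function.Injective f := (Q : Subgroup G).subtype_injective.comp e.symm.injective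
  let h₀ : ZMod (2 * 2 ^ (j + 1)) := ((2 ^ j : ℕ) : ZMod (2 * 2 ^ (j + 1)))
  suffices key : ∀ t : G, orderOf t = 4 → IsConj (f (QuaternionGroup.a h₀)) t from
    (key u hu).symm.trans (key s hs)
  have hn2 : ((2 ^ (j + 1) : ℕ) : ZMod (2 * 2 ^ (j + 1))) = 2 * h₀ := by
    simp only [h₀]; push_cast; ring
  -- a rotation of order 4 is conjugate to `a h₀`
  have hrot : ∀ i, orderOf (f (QuaternionGroup.a i)) = 4 →
      IsConj (f (QuaternionGroup.a h₀)) (f (QuaternionGroup.a i)) := by
    intro i hi
    have hsq : QuaternionGroup.a (i + i) = (QuaternionGroup.a (2 * h₀) : QuaternionGroup (2 ^ (j + 1))) := by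
      refine hf (h.fpf.involution_unique (fun e1 => mul_self_ne_one_of_orderOf_four hi ?_) ?_
        (fun e1 => ?_) ?_)
      · rw [← map_mul, QuaternionGroup.a_mul_a, e1]
      · rw [← QuaternionGroup.a_mul_a, map_mul]; exact sq_sq_of_orderOf_four hi
      · rw [← map_one f] at e1
        have e2 := hf e1
        rw [← QuaternionGroup.a_zero] at e2
        have e3 := QuaternionGroup.a.inj e2
        rw [← hn2, CharP.cast_eq_zero_iff (ZMod (2 * 2 ^ (j + 1))) (2 * 2 ^ (j + 1))] at e3
        have h1 := Nat.le_of_dvd (by positivity) e3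
        have h2 : 0 < 2 ^ (j + 1) := by positivity
        omega
      · rw [← map_mul, QuaternionGroup.a_mul_a, ← map_one f, ← QuaternionGroup.a_zero]
        congr 2
        rw [← hn2, ← Nat.cast_add, CharP.cast_eq_zero_iff (ZMod (2 * 2 ^ (j + 1))) (2 * 2 ^ (j + 1))]
        exact dvd_of_eq (two_mul _)
    have h2i := QuaternionGroup.a.inj hsq
    rcases two_mul_eq_zero (n := 2 ^ (j + 1)) (x := i - h₀) (by linear_combination h2i) with e1 | e1
    · rw [sub_eq_zero.1 e1]
    · have hi' : i = -h₀ := by
        have h4 : 4 * h₀ = 0 := by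
          have : ((2 * 2 ^ (j + 1) : ℕ) : ZMod (2 * 2 ^ (j + 1))) = 0 := ZMod.natCast_self _
          rw [Nat.cast_mul, hn2] at this
          push_cast at this; linear_combination this
        linear_combination e1 + hn2 + h4
      refine isConj_iff.2 ⟨f (QuaternionGroup.xa 0), ?_⟩
      rw [← map_mul, ← map_inv, ← map_mul]
      congr 1
      rw [mul_inv_eq_iff_eq_mul, QuaternionGroup.xa_mul_a, QuaternionGroup.a_mul_xa, hi']
      congr 1
      ring
  intro t ht
  obtain ⟨g, hg⟩ : ∃ g : G, g * t * g⁻¹ ∈ (Q : Subgroup G) := by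
    have hp : IsPGroup 2 (Subgroup.zpowers t) := IsPGroup.of_card (n := 2)
      (by rw [Nat.card_zpowers, ht]; rfl)
    obtain ⟨S, hS⟩ := hp.exists_le_sylow
    obtain ⟨g, hg⟩ := MulAction.exists_smul_eq G S Q
    exact ⟨g, hg ▸ Subgroup.smul_mem_pointwise_smul _ (MulAut.conj g) _ (hS (Subgroup.mem_zpowers t))⟩
  have hconj : IsConj t (g * t * g⁻¹) := isConj_iff.2 ⟨g, rfl⟩
  refine IsConj.trans ?_ hconj.symm
  have ht1 : orderOf (g * t * g⁻¹) = 4 :=
    (orderOf_injective (MulAut.conj g).toMonoidHom (MulAut.conj g).injective t).trans ht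
  have hfe : f (e ⟨_, hg⟩) = g * t * g⁻¹ := by simp [f]
  rw [← hfe] at ht1 ⊢
  cases hq : e ⟨_, hg⟩ with
  | a i => exact hrot i (hq ▸ ht1)
  | xa i =>
    rw [hq] at ht1
    let C : Subgroup G := (Subgroup.zpowers (QuaternionGroup.a 1 : QuaternionGroup (2 ^ (j + 1)))).map f
    have hmemC : ∀ q, f q ∈ C ↔ ∃ k, q = QuaternionGroup.a k := by
      intro q
      constructor
      · rintro ⟨q', ⟨l, rfl⟩, hl⟩
        obtain rfl := hf hl
        obtain ⟨l', hl'⟩ : ∃ l' : ℕ, (QuaternionGroup.a 1 : QuaternionGroup (2 ^ (j + 1))) ^ l' =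
            (QuaternionGroup.a 1) ^ l := by
          have h1 : (QuaternionGroup.a 1 : QuaternionGroup (2 ^ (j + 1))) ^ l ∈ Subgroup.zpowers
              (QuaternionGroup.a 1 : QuaternionGroup (2 ^ (j + 1))) := ⟨l, rfl⟩
          exact (mem_powers_iff_mem_zpowers.2 h1)
        exact ⟨(l' : ZMod (2 * 2 ^ (j + 1))), by
          show (QuaternionGroup.a 1 : QuaternionGroup (2 ^ (j + 1))) ^ l = _
          rw [← hl', QuaternionGroup.a_one_pow]⟩
      · rintro ⟨k, rfl⟩
        refine Subgroup.mem_map_of_mem _ ⟨(k.val : ℤ), ?_⟩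
        show (QuaternionGroup.a 1 : QuaternionGroup (2 ^ (j + 1))) ^ (k.val : ℤ) = _
        rw [zpow_natCast, QuaternionGroup.a_one_pow, ZMod.natCast_rightInverse k]
    have hrange : ∀ x ∈ C, ∃ k, x = f (QuaternionGroup.a k) := fun x hx => by
      obtain ⟨q, -, rfl⟩ := id hx
      obtain ⟨k, rfl⟩ := (hmemC q).1 hx
      exact ⟨k, rfl⟩
    by_cases hex : ∃ r : G, r⁻¹ * f (QuaternionGroup.xa i) * r ∈ C
    · obtain ⟨r, hr⟩ := hex
      obtain ⟨k, hk⟩ := hrange _ hr
      have hord : orderOf (f (QuaternionGroup.a k)) = 4 := by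
        rw [← hk, ← ht1]
        simpa using orderOf_injective (MulAut.conj r⁻¹).toMonoidHom (MulAut.conj r⁻¹).injective
          (f (QuaternionGroup.xa i))
      exact (hrot k hord).trans (isConj_iff.2 ⟨r, by rw [← hk]; group⟩)
    · exfalso
      push_neg at hex
      have hC2 : C.relIndex (Q : Subgroup G) = 2 := by
        have hr : (Q : Subgroup G) = (⊤ : Subgroup (QuaternionGroup (2 ^ (j + 1)))).map f := by
          rw [← Subgroup.map_map, Subgroup.map_top_of_surjective _ e.symm.surjective,
            ← MonoidHom.range_eq_map, Subgroup.range_subtype]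
        rw [hr, Subgroup.relIndex_map_map_of_injective _ _ hf, Subgroup.relIndex_top_right]
        have hci := (Subgroup.zpowers (QuaternionGroup.a 1 : QuaternionGroup (2 ^ (j + 1)))).card_mul_index
        rw [Nat.card_zpowers, QuaternionGroup.orderOf_a_one, Nat.card_eq_fintype_card,
          QuaternionGroup.card] at hci
        exact Nat.eq_of_mul_eq_mul_left (by positivity : 0 < 2 * 2 ^ (j + 1)) (by omega)
      have hxQ : f (QuaternionGroup.xa i) ∈ (Q : Subgroup G) := (e.symm _).2
      have hxC : f (QuaternionGroup.xa i) ∉ C := fun hc => by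
        obtain ⟨k, hk⟩ := (hmemC _).1 hc; simp at hk
      refine CfsgLib.FusionTwo.not_mem_pResidual_of_index_two Q C hC2 hxQ hxC ?_ ?_
      · intro r l hl
        set x := f (QuaternionGroup.xa i) with hx
        have hz : ∀ w : G, w⁻¹ * (x * x) * w = x * x := fun w => by
          rw [mul_assoc, ← h.fpf.involution_comm (mul_self_ne_one_of_orderOf_four ht1)
            (sq_sq_of_orderOf_four ht1) w, inv_mul_cancel_left]
        have hzC : x * x ∈ C := by
          rw [hx, ← map_mul, QuaternionGroup.xa_mul_xa]; exact (hmemC _).2 ⟨_, rfl⟩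
        obtain ⟨c, rfl | rfl⟩ := Nat.even_or_odd' l
        · simp only [even_two_mul, iff_true]
          have : r⁻¹ * x ^ (2 * c) * r = (x * x) ^ c := by
            rw [pow_mul, pow_two, ← conjInv_pow_aux, hz]
          rw [this]; exact pow_mem hzC c
        · simp only [Nat.not_even_two_mul_add_one, iff_false]
          intro hmem
          have : r⁻¹ * x ^ (2 * c + 1) * r = (x * x) ^ c * (r⁻¹ * x * r) := by
            rw [pow_succ, pow_mul, pow_two, show r⁻¹ * ((x * x) ^ c * x) * r =
              (r⁻¹ * (x * x) ^ c * r) * (r⁻¹ * x * r) by group, ← conjInv_pow_aux, hz]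
          rw [this] at hmem
          exact hex r ((Subgroup.mul_mem_cancel_left C (pow_mem hzC c)).1 hmem)
      · have htop : Cfsg.pResidual 2 G = ⊤ := by
          have hn := CfsgLib.FusionTwo.pResidual_normal (G := G) 2
          obtain ⟨k, hk⟩ := CfsgLib.FusionTwo.index_pResidual_two_pow (G := G)
          have hpq : IsPGroup 2 (G ⧸ Cfsg.pResidual 2 G) := IsPGroup.of_card hk
          have : Group.IsNilpotent (G ⧸ Cfsg.pResidual 2 G) := hpq.isNilpotent
          rw [eq_top_iff]
          intro x _
          exact (QuotientGroup.eq_one_iff x).1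
            (eq_one_of_hom h.perfect (QuotientGroup.mk' (Cfsg.pResidual 2 G)) x)
        rw [htop]; exact Subgroup.mem_top _

end PerfectFpf

end CfsgLib.Frobenius.Zass
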