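import Mathlib
import Cfsg.Agent.Frobenius.Zassenhaus.Perfect

/-! # Centralisers in perfect fixed-point-free groups: tori -/

set_option autoImplicit false

namespace CfsgLib.Frobenius.Zass

open CfsgLib.Frobenius
open scoped commutatorElement

variable {G : Type*} [Group G] [Finite G]

omit [Finite G] in
theorem orderOf_conj (g a : G) : orderOf (g * a * g⁻¹) = orderOf a :=
  orderOf_injective (MulAut.conj g).toMonoidHom (MulAut.conj g).injective a

omit [Finite G] in
theorem commute_conj {g a b : G} (h : Commute a b) : Commute (g * a * g⁻¹) (g * b * g⁻¹) := by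
  show _ * _ = _ * _
  calc (g * a * g⁻¹) * (g * b * g⁻¹) = g * (a * b) * g⁻¹ := by group
    _ = g * (b * a) * g⁻¹ := by rw [h.eq]
    _ = (g * b * g⁻¹) * (g * a * g⁻¹) := by group

omit [Finite G] in
theorem mem_centralizer_of_commute {a g : G} (h : Commute g a) :
    g ∈ Subgroup.centralizer ({a} : Set G) :=
  Subgroup.mem_centralizer_singleton_iff.2 h.eq

omit [Finite G] in
theorem commute_of_mem_centralizer {a g : G} (h : g ∈ Subgroup.centralizer ({a} : Set G)) :
    Commute g a :=
  Subgroup.mem_centralizer_singleton_iff.1 h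

omit [Finite G] in
theorem commute_of_mem_zpowers {a b c : G} (hb : b ∈ Subgroup.zpowers a) (hc : Commute a c) :
    Commute b c := by
  obtain ⟨i, rfl⟩ := hb
  exact hc.zpow_left i

theorem exists_prime_power_part {x : G} (hx : ¬ 4 ∣ orderOf x) (hx2 : x * x ≠ 1) :
    ∃ k : ℕ, (orderOf (x ^ k)).Prime ∧ Odd (orderOf (x ^ k)) := by
  have hpos := orderOf_pos x
  obtain ⟨e, b, hb, hfac⟩ := Nat.exists_eq_pow_mul_and_not_dvd hpos.ne' 2 (by norm_num)
  have hb1 : b ≠ 1 := by
    rintro rfl
    rw [mul_one] at hfac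
    rcases Nat.lt_or_ge e 2 with he | he
    · apply hx2
      rw [← pow_two, ← orderOf_dvd_iff_pow_eq_one, hfac]
      exact (pow_dvd_pow 2 (show e ≤ 1 by omega)).trans (by simp)
    · exact hx (hfac ▸ (pow_dvd_pow 2 he))
  obtain ⟨p, hp, hpd⟩ := Nat.exists_prime_and_dvd hb1
  refine ⟨orderOf x / p, ?_⟩
  have hpx : p ∣ orderOf x := hfac ▸ hpd.mul_left _
  rw [orderOf_pow_orderOf_div hpos.ne' hpx]
  refine ⟨hp, hp.eq_two_or_odd'.resolve_left ?_⟩
  rintro rfl; exact hb hpd

namespace PerfectFpf

variable (h : PerfectFpf G)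

include h

theorem centralizer_ne_top {x : G} (hx : x * x ≠ 1) : Subgroup.centralizer ({x} : Set G) ≠ ⊤ :=
  fun e => h.nrm_ne_top hx (top_le_iff.1 (e ▸ centralizer_le_nrm x))

/-- The centraliser of an element of order 4 is a Z-group. -/
theorem isZGroup_centralizer_four {s : G} (hs : orderOf s = 4) :
    IsZGroup (Subgroup.centralizer ({s} : Set G)) :=
  h.fpf.isZGroup_of_no_pair _ fun u hu v hv hp =>
    mul_self_ne_one_of_orderOf_four hs
      (h.fpf.sq_eq_one_of_centralize hp (commute_of_mem_centralizer hu).symm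
        (commute_of_mem_centralizer hv).symm (hs ▸ pow_orderOf_eq_one s))

omit h in
/-- In a Z-subgroup prime-order subgroups are normal. -/
theorem le_nrm_of_isZGroup (hG : IsFpf G) (K : Subgroup G) [IsZGroup K] {a : G} (ha : a ∈ K)
    (hp : (orderOf a).Prime) : K ≤ nrm a := by
  intro g hg
  have hop : orderOf (⟨a, ha⟩ : K) = orderOf a := (Subgroup.orderOf_coe _).symm
  have := (hG.subgroup K).prime_normal (a := ⟨a, ha⟩) (hop.symm ▸ hp) ⟨g, hg⟩
  rw [mem_nrm] at this ⊢
  obtain ⟨i, hi⟩ := this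
  exact ⟨i, by simpa using congrArg Subtype.val hi⟩

theorem centralizer_four_le {s y : G} (hs : orderOf s = 4) (hy : (orderOf y).Prime)
    (hc : Commute y s) : Subgroup.centralizer ({s} : Set G) ≤ nrm y := by
  have := h.isZGroup_centralizer_four hs
  exact le_nrm_of_isZGroup h.fpf _ (mem_centralizer_of_commute hc) hy

/-- Two elements of order 4 centralising `y` can only be conjugated inside `nrm y`. -/
theorem mem_nrm_of_conj {u y g : G} (hu : orderOf u = 4) (hy : (orderOf y).Prime)
    (hc : Commute y u) (hc' : Commute y (g * u * g⁻¹)) : g ∈ nrm y := by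
  have h1 := h.centralizer_four_le ((orderOf_conj g u).trans hu) hy hc'
    (mem_centralizer_of_commute (commute_conj (g := g) hc))
  rw [mem_nrm, ← h.fpf.zpowers_eq_of_mem_nrm hy rfl (orderOf_conj g y) h1]
  exact Subgroup.mem_zpowers _

/-- Some element of order 4 commutes with `y` unless the centraliser has no element of order 4. -/
theorem normalizer_four_le {u y : G} (hu : orderOf u = 4) (hy : (orderOf y).Prime)
    (hc : Commute y u) : nrm u ≤ nrm y := fun g hg => by
  refine h.mem_nrm_of_conj hu hy hc ?_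
  exact (commute_of_mem_zpowers (mem_nrm.1 hg) hc.symm).symm

omit h in
/-- `q` is of odd prime order and no quaternion pair centralises it. -/
def IsPlain (q : G) : Prop :=
  (orderOf q).Prime ∧ Odd (orderOf q) ∧
    ∀ u v : G, IsQPair u v → ¬ (Commute q u ∧ Commute q v)

omit h in
theorem IsPlain.isZGroup (hG : IsFpf G) {q : G} (hq : IsPlain q) :
    IsZGroup (Subgroup.centralizer ({q} : Set G)) :=
  hG.isZGroup_of_no_pair _ fun u hu v hv hp =>
    hq.2.2 u v hp ⟨(commute_of_mem_centralizer hu).symm, (commute_of_mem_centralizer hv).symm⟩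

omit h in
theorem IsPlain.sq_ne_one {q : G} (hq : IsPlain q) : q * q ≠ 1 := fun e => by
  have h1 := orderOf_dvd_of_pow_eq_one (x := q) (n := 2) (by rw [pow_two, e])
  obtain ⟨k, hk⟩ := hq.2.1
  rcases (Nat.dvd_prime Nat.prime_two).1 h1 with e1 | e1
  · exact hq.1.ne_one e1
  · omega

/-- `nrm q` for plain `q` has a normal Z-subgroup containing all its odd-order elements. -/
theorem exists_odd_core {q : G} (hq : IsPlain q) :
    ∃ G₀ : Subgroup (nrm q), G₀.Normal ∧ IsZGroup G₀ ∧
      ∀ x : nrm q, Odd (orderOf x) → x ∈ G₀ := by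
  set K := nrm q
  have hqK : q ∈ K := centralizer_le_nrm q (mem_centralizer_of_commute (Commute.refl q))
  have hsol : Group.IsSolvable K := by
    have hCZ := IsPlain.isZGroup h.fpf hq
    let φ : K →* MulAut (Subgroup.zpowers q) := (Subgroup.zpowers q).normalizerMonoidHom
    let e := IsCyclic.mulAutMulEquiv (Subgroup.zpowers q)
    let _ : CommGroup (MulAut (Subgroup.zpowers q)) :=
      CommGroup.mk fun a b => e.injective (by rw [map_mul, map_mul, mul_comm])
    have hker : ∀ x : φ.ker, ((x : K) : G) ∈ Subgroup.centralizer ({q} : Set G) := fun x => by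
      have h2 := congrArg Subtype.val (DFunLike.congr_fun (MonoidHom.mem_ker.1 x.2)
        ⟨q, Subgroup.mem_zpowers q⟩)
      exact mem_centralizer_of_commute (mul_inv_eq_iff_eq_mul.1 h2)
    have : Group.IsSolvable φ.ker :=
      solvable_of_solvable_injective
        (f := (K.subtype.comp φ.ker.subtype).codRestrict (Subgroup.centralizer ({q} : Set G)) hker)
        fun a b e' => Subtype.ext (Subtype.ext (congrArg Subtype.val e' :))
    exact solvable_of_ker_le_range φ.ker.subtype φ (by rw [Subgroup.range_subtype])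
  obtain ⟨d, ρ, _, hρ⟩ := (h.fpf.subgroup K).exists_rep
  rcases Linear.normal_quaternion_or_cyclic hρ with ⟨P, hP, ⟨e⟩⟩ | ⟨A, hA, hAc, hle⟩
  · exfalso
    let f : QuaternionGroup 2 →* G := (K.subtype.comp P.subtype).comp e.symm.toMonoidHom
    have hf : Function.Injective f :=
      (K.subtype_injective.comp P.subtype_injective).comp e.symm.injective
    have hc : ∀ w, Commute q (f w) := fun w => by
      -- the commutator lies in both normal subgroups of coprime order
      let p0 : K := (e.symm w : P)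
      let q0 : K := ⟨q, hqK⟩
      have h1 : q0 * p0 * q0⁻¹ * p0⁻¹ ∈ P :=
        P.mul_mem (hP.conj_mem p0 (e.symm w).2 q0) (P.inv_mem (e.symm w).2)
      have h2 : ((q0 * p0 * q0⁻¹ * p0⁻¹ : K) : G) ∈ Subgroup.zpowers q := by
        show q * (p0 : G) * q⁻¹ * (p0 : G)⁻¹ ∈ _
        rw [show q * (p0 : G) * q⁻¹ * (p0 : G)⁻¹ = q * ((p0 : G) * q⁻¹ * (p0 : G)⁻¹) by group]
        exact mul_mem (Subgroup.mem_zpowers q)
          ((Subgroup.mem_normalizer_iff.1 p0.2 _).1 (inv_mem (Subgroup.mem_zpowers q)))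
      have h3 : orderOf ((q0 * p0 * q0⁻¹ * p0⁻¹ : K) : G) ∣ 8 := by
        rw [Subgroup.orderOf_coe]
        have := Subgroup.orderOf_dvd_natCard P h1
        rwa [Nat.card_congr e.toEquiv, Nat.card_eq_fintype_card, QuaternionGroup.card] at this
      have h4 := Subgroup.orderOf_dvd_natCard (Subgroup.zpowers q) h2
      rw [Nat.card_zpowers] at h4
      have hco : Nat.Coprime (orderOf q) (2 ^ 3) :=
        Nat.Coprime.pow_right _ (Nat.coprime_two_right.2 hq.2.1)
      have h5 := orderOf_eq_one_iff.1 (Nat.eq_one_of_dvd_coprimes hco h4 (h3.trans (by norm_num)))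
      exact mul_inv_eq_iff_eq_mul.1 (mul_inv_eq_one.1 h5)
    have hord : ∀ w, orderOf (f w) = orderOf w := fun w => orderOf_injective f hf w
    refine hq.2.2 (f (QuaternionGroup.a 1)) (f (QuaternionGroup.xa 0)) ⟨?_, ?_, ?_, ?_⟩ ⟨hc _, hc _⟩
    · rw [hord, QuaternionGroup.orderOf_a_one]
    · rw [hord, QuaternionGroup.orderOf_xa]
    · intro hcm
      have := hf ((map_mul f _ _).trans (hcm.eq.trans (map_mul f _ _).symm))
      exact absurd this (by decide)
    · rw [← map_inv, ← map_mul, ← map_mul, ← map_inv]; congr 1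
  · have := hA
    obtain ⟨G₀, hn, hz, hi⟩ := Linear.zgroup_core_of_cyclic hρ A hle
    refine ⟨G₀, hn, hz, fun x hx => ?_⟩
    have hidx : G₀.index = 1 ∨ G₀.index = 2 := by
      have := G₀.index_ne_zero_of_finite
      omega
    rcases hidx with e1 | e2
    · rw [Subgroup.index_eq_one.1 e1]; exact Subgroup.mem_top x
    · have h2 : (x : nrm q) ^ 2 ∈ G₀ := by
        rw [← e2]; exact G₀.pow_index_mem x
      obtain ⟨k, hk⟩ := hx
      have hxk : (x ^ 2) ^ (k + 1) = x := by
        rw [← pow_mul, show 2 * (k + 1) = orderOf x + 1 by omega, pow_succ, pow_orderOf_eq_one,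
          one_mul]
      rw [← hxk]; exact pow_mem h2 _

/-- Odd primes of `nrm q` have the same normaliser. -/
theorem nrm_le_of_mem {q r : G} (hq : IsPlain q) (hr : (orderOf r).Prime) (hodd : Odd (orderOf r))
    (hmem : r ∈ nrm q) : nrm q ≤ nrm r := by
  obtain ⟨G₀, hn, hz, hall⟩ := h.exists_odd_core hq
  have := hn
  refine h.fpf.le_nrm_of_mem_ker (QuotientGroup.mk' G₀) (a := ⟨r, hmem⟩) ?_ ?_ hr
  · rw [QuotientGroup.ker_mk']; exact hz
  · rw [QuotientGroup.ker_mk']
    exact hall _ (by rw [← Subgroup.orderOf_coe]; exact hodd)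

omit h in
/-- All odd prime elements commuting with `q` are plain. -/
def IsClean (q : G) : Prop :=
  IsPlain q ∧ ∀ r : G, Commute r q → (orderOf r).Prime → Odd (orderOf r) → IsPlain r

omit h in
theorem commute_of_mem_nrm_prime (hG : IsFpf G) {q r : G} (hq : (orderOf q).Prime)
    (hr : (orderOf r).Prime) (hmem : r ∈ nrm q) : Commute r q :=
  (hG.commute_prime hq hr hmem).symm

/-- For a clean `q` all odd primes of `nrm q` have normaliser equal to `nrm q`. -/
theorem nrm_eq_of_mem {q r : G} (hq : IsClean q) (hr : (orderOf r).Prime) (hodd : Odd (orderOf r))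
    (hmem : r ∈ nrm q) : nrm r = nrm q := by
  refine le_antisymm ?_ (h.nrm_le_of_mem hq.1 hr hodd hmem)
  have hc := commute_of_mem_nrm_prime h.fpf hq.1.1 hr hmem
  exact h.nrm_le_of_mem (hq.2 r hc hr hodd) hq.1.1 hq.1.2.1
    (centralizer_le_nrm r (mem_centralizer_of_commute hc.symm))

/-- An element of odd prime power order of `nrm q` centralises every cyclic subgroup normalised by
`nrm q`. -/
theorem commute_of_clean {q u w : G} (hq : IsClean q) {p k : ℕ} (hp : p.Prime) (hp2 : p ≠ 2)
    (hu : orderOf u = p ^ k) (hmem : u ∈ nrm q)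
    (hw : ∀ g ∈ nrm q, g * w * g⁻¹ ∈ Subgroup.zpowers w) : Commute u w := by
  rcases Nat.eq_zero_or_pos k with rfl | hk
  · rw [pow_zero, orderOf_eq_one_iff] at hu
    subst hu; exact Commute.one_left w
  have := Fact.mk hp
  obtain ⟨P, hP⟩ := (IsPGroup.of_card (n := k) (by rw [Nat.card_zpowers, hu]) :
    IsPGroup p (Subgroup.zpowers u)).exists_le_sylow
  have hcyc := h.fpf.isCyclic_odd hp2 (P : Subgroup G) P.2
  set r := u ^ (p ^ (k - 1))
  have hr : orderOf r = p := by
    rw [orderOf_pow' _ (pow_ne_zero _ hp.ne_zero), hu,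
      Nat.gcd_eq_right (pow_dvd_pow p (Nat.sub_le k 1)), Nat.pow_div (Nat.sub_le k 1) hp.pos,
      show k - (k - 1) = 1 by omega, pow_one]
  have hrodd : Odd (orderOf r) := hr ▸ hp.odd_of_ne_two hp2
  have hrP : r ∈ (P : Subgroup G) := pow_mem (hP (Subgroup.mem_zpowers u)) _
  have hne := h.nrm_eq_of_mem hq (hr.symm ▸ hp) hrodd (pow_mem hmem _)
  have hcomm : IsMulCommutative (P : Subgroup G) := inferInstance
  have hPle : ∀ b ∈ (P : Subgroup G), b ∈ nrm q := fun b hb => by
    rw [← hne]
    exact centralizer_le_nrm r (mem_centralizer_of_commute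
      (congrArg Subtype.val (hcomm.is_comm.comm ⟨b, hb⟩ ⟨r, hrP⟩) :))
  obtain ⟨a, ha, hpa, hnc⟩ := h.exists_normalizing P
    (fun e => by rw [e, Subgroup.mem_bot] at hrP; rw [hrP, orderOf_one] at hr; exact hp.ne_one hr.symm)
  have haN : a ∈ nrm q := by
    rw [← hne, mem_nrm]
    have h1 : a * r * a⁻¹ ∈ (P : Subgroup G) := (Subgroup.mem_normalizer_iff.1 ha r).1 hrP
    rw [← h.fpf.zpowers_eq_of_commute hp hr ((orderOf_conj a r).trans hr)
      (congrArg Subtype.val (hcomm.is_comm.comm ⟨r, hrP⟩ ⟨_, h1⟩) :)]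
    exact Subgroup.mem_zpowers _
  have hK : Subgroup.zpowers a ≤ Subgroup.normalizer ((P : Subgroup G) : Set G) :=
    Subgroup.zpowers_le.2 ha
  have hco : (Nat.card (P : Subgroup G)).Coprime (Nat.card (Subgroup.zpowers a)) := by
    obtain ⟨e, he⟩ := P.2.exists_card_eq
    rw [he, Nat.card_zpowers]
    exact Nat.Coprime.pow_left _ (hp.coprime_iff_not_dvd.2 hpa)
  rcases P.2.commutator_eq_bot_or_commutator_eq_self hK hco with hbot | hself
  · exfalso
    exact hnc (Subgroup.commutator_eq_bot_iff_le_centralizer.1 hbot (Subgroup.mem_zpowers a))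
  -- commutators act trivially on the cyclic group `⟨w⟩`
  have hle : ⁅Subgroup.zpowers a, (P : Subgroup G)⁆ ≤ Subgroup.centralizer ({w} : Set G) := by
    rw [Subgroup.commutator_le]
    intro a' ha' b hb
    have hW : ∀ g ∈ nrm q, g ∈ nrm w := fun g hg => mem_nrm.2 (hw g hg)
    let φ := (Subgroup.zpowers w).normalizerMonoidHom
    let A : Subgroup.normalizer (Subgroup.zpowers w : Set G) :=
      ⟨a', hW a' (Subgroup.zpowers_le.2 haN ha')⟩
    let B : Subgroup.normalizer (Subgroup.zpowers w : Set G) := ⟨b, hW b (hPle b hb)⟩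
    have h1 : φ ⁅A, B⁆ = 1 := by
      rw [map_commutatorElement, commutatorElement_eq_one_iff_commute]
      exact (IsCyclic.mulAutMulEquiv (Subgroup.zpowers w)).injective
        (by rw [map_mul, map_mul, mul_comm])
    have h2 := congrArg Subtype.val (DFunLike.congr_fun h1 ⟨w, Subgroup.mem_zpowers w⟩)
    exact mem_centralizer_of_commute (mul_inv_eq_iff_eq_mul.1 h2)
  exact commute_of_mem_centralizer (hle (hself.symm ▸ hP (Subgroup.mem_zpowers u)))

/-- Odd-order elements of `nrm q` commute when `q` is clean. -/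
theorem commute_odd {q a b : G} (hq : IsClean q) (ha : a ∈ nrm q) (hb : b ∈ nrm q)
    (hao : Odd (orderOf a)) (hbo : Odd (orderOf b)) : Commute a b := by
  obtain ⟨G₀, hn, hz, hall⟩ := h.exists_odd_core hq.1
  obtain ⟨x, y, r, -, -, -, -, -, hy, htop⟩ := exists_metacyclic_gens G₀
  set w : G := ((y : nrm q) : G)
  have hw : ∀ g ∈ nrm q, g * w * g⁻¹ ∈ Subgroup.zpowers w := by
    intro g hg
    have hchar : ((commutator G₀).map G₀.subtype).Normal := by
      have : (commutator G₀).Characteristic := inferInstance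
      exact ConjAct.normal_of_characteristic_of_normal
    have hmem : ((⟨g, hg⟩ : nrm q) * (y : nrm q) * (⟨g, hg⟩ : nrm q)⁻¹) ∈
        (commutator G₀).map G₀.subtype :=
      hchar.conj_mem _ ⟨y, hy ▸ Subgroup.mem_zpowers y, rfl⟩ _
    obtain ⟨c, hc, ec⟩ := hmem
    obtain ⟨i, rfl⟩ : c ∈ Subgroup.zpowers y := hy.symm ▸ hc
    exact ⟨i, by simpa [w] using congrArg Subtype.val ec⟩
  -- odd-order elements centralise `w`
  have hcen : ∀ c ∈ nrm q, Odd (orderOf c) → Commute c w := by
    intro c hc hco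
    let K := Subgroup.centralizer ({w} : Set G) ⊓ Subgroup.zpowers c
    have hd : orderOf c ∣ Nat.card K := by
      rw [← Nat.factorization_prime_le_iff_dvd (orderOf_pos c).ne' Nat.card_pos.ne']
      intro p hp
      rw [← hp.pow_dvd_iff_le_factorization Nat.card_pos.ne']
      set k := (orderOf c).factorization p
      have hk : p ^ k ∣ orderOf c := Nat.ordProj_dvd _ _
      rcases Nat.eq_zero_or_pos k with hk0 | hk0
      · rw [hk0, pow_zero]; exact one_dvd _
      have hp2 : p ≠ 2 := by
        rintro rfl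
        exact (Nat.not_even_iff_odd.2 hco)
          (even_iff_two_dvd.2 ((dvd_pow_self 2 hk0.ne').trans hk))
      have ho : orderOf (c ^ (orderOf c / p ^ k)) = p ^ k := orderOf_pow_orderOf_div (orderOf_pos c).ne' hk
      rw [← ho]
      exact Subgroup.orderOf_dvd_natCard _ ⟨mem_centralizer_of_commute
        (h.commute_of_clean hq hp hp2 ho (pow_mem hc _) hw), pow_mem (Subgroup.mem_zpowers c) _⟩
    have heq : K = Subgroup.zpowers c := Subgroup.eq_of_le_of_card_ge inf_le_right
      (by rw [Nat.card_zpowers]; exact Nat.le_of_dvd Nat.card_pos hd)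
    exact commute_of_mem_centralizer ((heq.symm ▸ Subgroup.mem_zpowers c : c ∈ K).1)
  -- write elements in the generators
  have hform : ∀ c : G₀, ∃ (i j : ℤ), c = x ^ i * y ^ j := by
    intro c
    have hxn : Subgroup.zpowers x ≤ Subgroup.normalizer (Subgroup.zpowers y : Set G₀) := by
      rw [hy, Subgroup.normalizer_eq_top]; exact le_top
    have hc : c ∈ ((Subgroup.zpowers x ⊔ Subgroup.zpowers y : Subgroup G₀) : Set G₀) := by
      rw [htop]; exact Subgroup.mem_top c
    rw [Subgroup.coe_mul_of_left_le_normalizer_right _ _ hxn] at hc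
    obtain ⟨_, ⟨i, rfl⟩, _, ⟨j, rfl⟩, e⟩ := Set.mem_mul.1 hc
    exact ⟨i, j, e.symm⟩
  obtain ⟨i, j, hi⟩ := hform ⟨⟨a, ha⟩, hall _ (by rw [← Subgroup.orderOf_coe]; exact hao)⟩
  obtain ⟨i', j', hi'⟩ := hform ⟨⟨b, hb⟩, hall _ (by rw [← Subgroup.orderOf_coe]; exact hbo)⟩
  set X : G := ((x : nrm q) : G)
  have ea : a = X ^ i * w ^ j := by simpa [X, w] using congrArg (fun c : G₀ => ((c : nrm q) : G)) hi
  have eb : b = X ^ i' * w ^ j' := by
    simpa [X, w] using congrArg (fun c : G₀ => ((c : nrm q) : G)) hi'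
  have hA := hcen a ha hao
  have hB := hcen b hb hbo
  have hXi : Commute (X ^ i) w := by
    have e1 : X ^ i = a * (w ^ j)⁻¹ := by rw [ea, mul_inv_cancel_right]
    rw [e1]; exact hA.mul_left ((Commute.refl w).zpow_left j).inv_left
  have hXi' : Commute (X ^ i') w := by
    have e1 : X ^ i' = b * (w ^ j')⁻¹ := by rw [eb, mul_inv_cancel_right]
    rw [e1]; exact hB.mul_left ((Commute.refl w).zpow_left j').inv_left
  rw [ea, eb]
  exact (((Commute.refl X).zpow_zpow i i').mul_right (hXi.zpow_right j')).mul_left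
    (((hXi'.zpow_right j).symm).mul_right ((Commute.refl w).zpow_zpow j j'))

/-- Odd elements commute in the centraliser of a clean element. -/
theorem commute_odd_centralizer {q a b : G} (hq : IsClean q) (ha : Commute a q) (hb : Commute b q)
    (hao : Odd (orderOf a)) (hbo : Odd (orderOf b)) : Commute a b :=
  h.commute_odd hq (centralizer_le_nrm q (mem_centralizer_of_commute ha))
    (centralizer_le_nrm q (mem_centralizer_of_commute hb)) hao hbo

end PerfectFpf

section Union

variable (N : Subgroup G) (S : Set G)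

/-- The union of the conjugates of `S`. -/
def conjUnion : Set G := {x | ∃ g : G, g⁻¹ * x * g ∈ S}

omit [Finite G] in
theorem conj_mem_conjUnion {x g : G} (hx : x ∈ conjUnion S) : g * x * g⁻¹ ∈ conjUnion S := by
  obtain ⟨k, hk⟩ := hx
  exact ⟨g * k, by rwa [show (g * k)⁻¹ * (g * x * g⁻¹) * (g * k) = k⁻¹ * x * k by group]⟩

variable {N S} (hN : ∀ g ∈ N, ∀ x ∈ S, g * x * g⁻¹ ∈ S)
  (hTI : ∀ x ∈ S, ∀ g : G, g * x * g⁻¹ ∈ S → g ∈ N)

include hN hTI

/-- Cosets times a trivial intersection set parametrise the union of conjugates. -/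
theorem conjUnion_bijective :
    Function.Bijective (fun z : (G ⧸ N) × S => (⟨z.1.out * z.2 * z.1.out⁻¹,
      z.1.out, by simpa [mul_assoc] using z.2.2⟩ : conjUnion S)) := by
  constructor
  · rintro ⟨c, s⟩ ⟨c', s'⟩ e
    have e' : c.out * (s : G) * c.out⁻¹ = c'.out * (s' : G) * c'.out⁻¹ := congrArg Subtype.val e
    have hc : c = c' := by
      have h1 : (c'.out⁻¹ * c.out) * (s : G) * (c'.out⁻¹ * c.out)⁻¹ = s' := by
        calc (c'.out⁻¹ * c.out) * (s : G) * (c'.out⁻¹ * c.out)⁻¹
            = c'.out⁻¹ * (c.out * (s : G) * c.out⁻¹) * c'.out := by group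
          _ = s' := by rw [e']; group
      have h2 := hTI s s.2 _ (h1.symm ▸ s'.2)
      rw [← QuotientGroup.eq, QuotientGroup.out_eq', QuotientGroup.out_eq'] at h2
      exact h2.symm
    subst hc
    exact Prod.ext rfl (Subtype.ext (mul_left_cancel (mul_right_cancel e')))
  · rintro ⟨x, g, hg⟩
    obtain ⟨n, hn⟩ : ∃ n : N, (QuotientGroup.mk g : G ⧸ N).out = g * n :=
      QuotientGroup.mk_out_eq_mul N g
    refine ⟨(QuotientGroup.mk g, ⟨(n : G)⁻¹ * (g⁻¹ * x * g) * n, ?_⟩), Subtype.ext ?_⟩
    · simpa using hN (n : G)⁻¹ (inv_mem n.2) _ hg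
    · show (QuotientGroup.mk g : G ⧸ N).out * _ * _ = x
      rw [hn]; group

/-- Cardinality of a union of conjugates of a trivial intersection set. -/
theorem ncard_conjUnion : (conjUnion S).ncard * Nat.card N = Nat.card G * S.ncard := by
  have h1 := Nat.card_congr (Equiv.ofBijective _ (conjUnion_bijective hN hTI))
  rw [Nat.card_prod, ← Subgroup.index_eq_card, Nat.card_coe_set_eq, Nat.card_coe_set_eq] at h1
  rw [← h1, ← N.card_mul_index]
  ring

/-- Sums over a union of conjugates of a trivial intersection set. -/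
theorem sum_conjUnion [Fintype (conjUnion S)] [Fintype S] {M : Type*} [AddCommMonoid M] (f : G → M)
    (hf : ∀ g x, f (g * x * g⁻¹) = f x) :
    ∑ x : conjUnion S, f x = N.index • ∑ x : S, f x := by
  have : Fintype (G ⧸ N) := Fintype.ofFinite _
  rw [← (Equiv.ofBijective _ (conjUnion_bijective hN hTI)).sum_comp (fun x : conjUnion S => f x),
    Fintype.sum_prod_type, Subgroup.index_eq_card, Nat.card_eq_fintype_card, ← Finset.card_univ,
    ← Finset.sum_const]
  refine Finset.sum_congr rfl fun c _ => Finset.sum_congr rfl fun s _ => ?_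
  exact hf _ _

end Union

end CfsgLib.Frobenius.Zass
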