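import Mathlib
import Cfsg.Agent.Frobenius.Zassenhaus.Torus

/-! # Elements of odd prime order centralising a quaternion pair

Here `G` is perfect fixed-point-free and every proper subgroup maps to `Perm (Fin 5)` with a
Z-group as kernel.  
-/

set_option autoImplicit false

namespace CfsgLib.Frobenius.Zass

open CfsgLib.Frobenius
open scoped commutatorElement

/-- The kernel hypothesis for proper subgroups. -/
def HasFiveMap (K : Type*) [Group K] : Prop := ∃ f : K →* Equiv.Perm (Fin 5), IsZGroup f.ker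

theorem perm_five_even_sq : ∀ a : Equiv.Perm (Fin 5), Equiv.Perm.sign a = 1 → a ^ 4 = 1 → a * a = 1 := by
  decide +kernel

theorem perm_five_centralizer : ∀ a : Equiv.Perm (Fin 5), Equiv.Perm.sign a = 1 → a * a = 1 → a ≠ 1 →
    ∀ g : Equiv.Perm (Fin 5), a * g = g * a → g ^ 15 = 1 → g = 1 := by
  decide +kernel

theorem perm_five_eight : ∀ a : Equiv.Perm (Fin 5), a ^ 8 = 1 → a ^ 4 = 1 := by
  decide +kernel

variable {G : Type*} [Group G] [Finite G]

/-- A Z-subgroup contains no quaternion pair. -/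
theorem not_qpair_of_isZGroup {H : Type*} [Group H] [Finite H] [IsZGroup H] {u v : H} :
    ¬ IsQPair u v := by
  intro hp
  obtain ⟨x, y, r, -, hco, -, hcard, -, hy, -⟩ := exists_metacyclic_gens H
  have hv2 : v⁻¹ * v⁻¹ ∈ Subgroup.zpowers y := by
    rw [hy]
    have : v⁻¹ * v⁻¹ = ⁅u, v⁆ := by rw [commutatorElement_def, hp.2.2.2]
    rw [this, commutator_def]
    exact Subgroup.commutator_mem_commutator (Subgroup.mem_top u) (Subgroup.mem_top v)
  have hev : 2 ∣ orderOf y := by
    have h2 : orderOf (v⁻¹ * v⁻¹) = 2 := by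
      refine orderOf_eq_prime ?_ ?_
      · rw [pow_two, ← mul_inv_rev, ← mul_inv_rev, sq_sq_of_orderOf_four hp.2.1, inv_one]
      · rw [← mul_inv_rev, Ne, inv_eq_one]; exact hp.ne_one.2
    have := Subgroup.orderOf_dvd_natCard _ hv2
    rwa [h2, Nat.card_zpowers] at this
  have hodd : Nat.Coprime 4 (orderOf x) := by
    have : Nat.Coprime 2 (orderOf x) := (hco.coprime_dvd_right hev).symm
    simpa using this.pow_left 2
  have hidx : (commutator H).index = orderOf x := by
    have := (commutator H).card_mul_index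
    rw [← hy, Nat.card_zpowers, hcard, mul_comm (orderOf x)] at this
    rw [← hy]
    exact Nat.eq_of_mul_eq_mul_left (orderOf_pos y) this
  have key : ∀ t : H, orderOf t = 4 → t ∈ Subgroup.zpowers y := by
    intro t ht
    have h1 : t ^ orderOf x ∈ Subgroup.zpowers y := by
      rw [hy, ← hidx]; exact (commutator H).pow_index_mem t
    obtain ⟨a, ha⟩ := exists_pow_eq_self_of_coprime (x := t) (n := orderOf x) (ht.symm ▸ hodd.symm)
    rw [← ha]; exact pow_mem h1 a
  obtain ⟨i, rfl⟩ := key u hp.1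
  obtain ⟨l, rfl⟩ := key v hp.2.1
  exact hp.2.2.1 (((Commute.refl y).zpow_left i).zpow_right l)

/-- An element normalising `⟨y⟩` whose square centralises `y` inverts it or centralises it. -/
theorem inverts_or_commute {y a : G} (hy : (orderOf y).Prime) (ha : a ∈ nrm y)
    (h2 : Commute (a * a) y) : Commute a y ∨ a * y * a⁻¹ = y⁻¹ := by
  obtain ⟨i, hi⟩ := mem_nrm.1 ha
  simp only at hi
  have h3 : y ^ (i * i) = y ^ (1 : ℤ) := by
    rw [zpow_one, zpow_mul, hi, conj_zpow, hi]
    calc a * (a * y * a⁻¹) * a⁻¹ = (a * a) * y * (a * a)⁻¹ := by group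
      _ = y := by rw [h2.eq, mul_inv_cancel_right]
  have hd : (orderOf y : ℤ) ∣ (1 - i) * (1 + i) := by
    have := Int.ModEq.dvd (zpow_eq_zpow_iff_modEq.1 h3)
    rwa [show (1 - i) * (1 + i) = 1 - i * i by ring]
  rcases Int.Prime.dvd_mul' hy hd with hd | hd
  · left
    have h1 : y ^ i = y ^ (1 : ℤ) := zpow_eq_zpow_iff_modEq.2 (Int.modEq_iff_dvd.2 hd)
    rw [zpow_one, hi] at h1
    exact mul_inv_eq_iff_eq_mul.1 h1
  · right
    have h1 : y ^ i = y ^ (-1 : ℤ) := zpow_eq_zpow_iff_modEq.2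
      (Int.modEq_iff_dvd.2 (by rw [show (-1 : ℤ) - i = -(1 + i) by ring]; exact hd.neg_right))
    rwa [hi, zpow_neg_one] at h1

/-- Two elements inverting `y` have product centralising it. -/
theorem commute_mul_of_inverts {y a b : G} (ha : a * y * a⁻¹ = y⁻¹) (hb : b * y * b⁻¹ = y⁻¹) :
    Commute (a * b) y := by
  refine mul_inv_eq_iff_eq_mul.1 ?_
  calc a * b * y * (a * b)⁻¹ = a * (b * y * b⁻¹) * a⁻¹ := by group
    _ = (a * y * a⁻¹)⁻¹ := by rw [hb]; group
    _ = y := by rw [ha, inv_inv]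

/-- Commutators of `nrm y` centralise `y`. -/
theorem commute_commutator {y a b : G} (ha : a ∈ nrm y) (hb : b ∈ nrm y) : Commute ⁅a, b⁆ y := by
  let φ := (Subgroup.zpowers y).normalizerMonoidHom
  let A : Subgroup.normalizer (Subgroup.zpowers y : Set G) := ⟨a, ha⟩
  let B : Subgroup.normalizer (Subgroup.zpowers y : Set G) := ⟨b, hb⟩
  have h1 : φ ⁅A, B⁆ = 1 := by
    rw [map_commutatorElement, commutatorElement_eq_one_iff_commute]
    exact (IsCyclic.mulAutMulEquiv (Subgroup.zpowers y)).injective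
      (by rw [map_mul, map_mul, mul_comm])
  have h2 := congrArg Subtype.val (DFunLike.congr_fun h1 ⟨y, Subgroup.mem_zpowers y⟩)
  exact mul_inv_eq_iff_eq_mul.1 h2

/-- The element of order 4 among the powers of `x`. -/
noncomputable abbrev upart (x : G) : G := x ^ (orderOf x / 4)

omit [Finite G] in
theorem upart_conj (g x : G) : upart (g * x * g⁻¹) = g * upart x * g⁻¹ := by
  rw [upart, orderOf_conj, conj_pow]

theorem orderOf_upart {x : G} (h4 : 4 ∣ orderOf x) : orderOf (upart x) = 4 :=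
  orderOf_pow_orderOf_div (orderOf_pos x).ne' h4

namespace PerfectFpf

variable (h : PerfectFpf G)

include h

theorem orderOf_qpair_mul {u v : G} (hp : IsQPair u v) : orderOf (u * v) = 4 := by
  have h1 : (u * v) * (u * v) = u * u := by
    have e : u * v = v⁻¹ * u := mul_inv_eq_iff_eq_mul.1 hp.2.2.2
    calc (u * v) * (u * v) = (v⁻¹ * u) * (u * v) := by nth_rw 1 [e]
      _ = v⁻¹ * (u * u) * v := by group
      _ = v⁻¹ * v * (u * u) := by
        rw [mul_assoc, ← h.fpf.involution_comm hp.ne_one.1 (sq_sq_of_orderOf_four hp.1) v, ← mul_assoc]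
      _ = u * u := by rw [inv_mul_cancel, one_mul]
  show orderOf (u * v) = 2 ^ (1 + 1)
  refine orderOf_eq_prime_pow ?_ ?_
  · rw [pow_one, pow_two, h1]; exact hp.ne_one.1
  · show (u * v) ^ 4 = 1
    rw [pow_succ, pow_succ, pow_two, mul_assoc, h1, sq_sq_of_orderOf_four hp.1]

/-- Two elements of a pair centralising `q` are conjugate inside `nrm q`. -/
theorem exists_conj_pair {q s t : G} (hq : (orderOf q).Prime) (hs : orderOf s = 4)
    (ht : orderOf t = 4) (hcs : Commute q s) (hct : Commute q t) :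
    ∃ g ∈ nrm q, g * s * g⁻¹ = t := by
  obtain ⟨g, hg⟩ := isConj_iff.1 (h.isConj_of_orderOf_four hs ht)
  exact ⟨g, h.mem_nrm_of_conj hs hq hcs (hg.symm ▸ hct), hg⟩

variable (IH : ∀ K : Subgroup G, K ≠ ⊤ → HasFiveMap K)

include IH

/-- If a pair centralises `q`, an odd prime element of `nrm q` centralising one member of the pair
generates a normal subgroup of `nrm q`. -/
theorem nrm_le_of_pair {q u v w : G} (hq : (orderOf q).Prime) (hqo : Odd (orderOf q))
    (hp : IsQPair u v) (hu : Commute q u) (hv : Commute q v) (hw : (orderOf w).Prime)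
    (hwo : Odd (orderOf w)) (hwmem : w ∈ nrm q) (hwu : Commute w u) : nrm q ≤ nrm w := by
  have hqne : q * q ≠ 1 := fun e => by
    have h1 := orderOf_dvd_of_pow_eq_one (x := q) (n := 2) (by rw [pow_two, e])
    obtain ⟨k, hk⟩ := hqo
    rcases (Nat.dvd_prime Nat.prime_two).1 h1 with e1 | e1
    · exact hq.ne_one e1
    · omega
  set K := nrm q
  obtain ⟨f, hf⟩ := IH K (h.nrm_ne_top hqne)
  have huK : u ∈ K := centralizer_le_nrm q (mem_centralizer_of_commute hu.symm)
  have hvK : v ∈ K := centralizer_le_nrm q (mem_centralizer_of_commute hv.symm)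
  obtain ⟨g1, hg1, e1⟩ := h.exists_conj_pair hq hp.1 hp.2.1 hu hv
  obtain ⟨g2, hg2, e2⟩ := h.exists_conj_pair hq hp.1 (h.orderOf_qpair_mul hp) hu (hu.mul_right hv)
  let U : K := ⟨u, huK⟩
  let V : K := ⟨v, hvK⟩
  have hV : f V = f ⟨g1, hg1⟩ * f U * (f ⟨g1, hg1⟩)⁻¹ := by
    rw [← map_inv, ← map_mul, ← map_mul]; exact congrArg f (Subtype.ext e1.symm)
  have hUV : f U * f V = f ⟨g2, hg2⟩ * f U * (f ⟨g2, hg2⟩)⁻¹ := by
    rw [← map_inv, ← map_mul, ← map_mul, ← map_mul]; exact congrArg f (Subtype.ext e2.symm)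
  have hs : Equiv.Perm.sign (f U) = 1 := by
    have a1 : Equiv.Perm.sign (f V) = Equiv.Perm.sign (f U) := by
      rw [hV, map_mul, map_mul, map_inv, mul_comm (Equiv.Perm.sign (f ⟨g1, hg1⟩)),
        mul_inv_cancel_right]
    have a2 := congrArg Equiv.Perm.sign hUV
    rw [map_mul, a1, map_mul, map_mul, map_inv, mul_comm (Equiv.Perm.sign (f ⟨g2, hg2⟩)),
      mul_inv_cancel_right] at a2
    exact mul_eq_left.1 a2
  have h4 : f U ^ 4 = 1 := by
    rw [← map_pow, show U ^ 4 = 1 from Subtype.ext (hp.1 ▸ pow_orderOf_eq_one u), map_one]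
  have h2 := perm_five_even_sq _ hs h4
  have hne : f U ≠ 1 := by
    intro e
    have hVk : f V = 1 := by rw [hV, e, mul_one, mul_inv_cancel]
    have := hf
    refine not_qpair_of_isZGroup (H := f.ker) (u := ⟨U, e⟩) (v := ⟨V, hVk⟩) ⟨?_, ?_, ?_, ?_⟩
    · rw [← Subgroup.orderOf_coe, ← Subgroup.orderOf_coe]; exact hp.1
    · rw [← Subgroup.orderOf_coe, ← Subgroup.orderOf_coe]; exact hp.2.1
    · exact fun hc => hp.2.2.1 (congrArg (fun t : f.ker => ((t : K) : G)) hc.eq)
    · exact Subtype.ext (Subtype.ext hp.2.2.2)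
  have hW : (⟨w, hwmem⟩ : K) ∈ f.ker := by
    refine perm_five_centralizer _ hs h2 hne _ ?_ ?_
    · rw [← map_mul, ← map_mul]; exact congrArg f (Subtype.ext hwu.eq.symm)
    · rw [← orderOf_dvd_iff_pow_eq_one]
      have d1 : orderOf (f ⟨w, hwmem⟩) ∣ orderOf w :=
        (orderOf_map_dvd f ⟨w, hwmem⟩).trans (Subgroup.orderOf_coe (⟨w, hwmem⟩ : K)).symm.dvd
      have d2 : orderOf (f ⟨w, hwmem⟩) ∣ 8 * 15 := by
        have := orderOf_dvd_natCard (f ⟨w, hwmem⟩)
        rwa [Nat.card_perm, Nat.card_fin] at this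
      have hco : Nat.Coprime (orderOf w) (2 ^ 3) := (Nat.coprime_two_right.2 hwo).pow_right 3
      exact (hco.coprime_dvd_left d1).dvd_of_dvd_mul_left d2
  exact h.fpf.le_nrm_of_mem_ker f hf hW hw

/-- The centralisers of the odd primes of `nrm y` lie in `nrm y` when a pair centralises `y`. -/
theorem centralizer_le_of_pair {y u v q : G} (hy : (orderOf y).Prime) (hyo : Odd (orderOf y))
    (hp : IsQPair u v) (hu : Commute y u) (hv : Commute y v) (hq : (orderOf q).Prime)
    (hqo : Odd (orderOf q)) (hmem : q ∈ nrm y) : Subgroup.centralizer ({q} : Set G) ≤ nrm y := by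
  have hqy : Commute q y := commute_of_mem_nrm_prime h.fpf hy hq hmem
  have hyq : y ∈ Subgroup.centralizer ({q} : Set G) := mem_centralizer_of_commute hqy.symm
  by_cases hpl : ∀ a b : G, IsQPair a b → ¬ (Commute q a ∧ Commute q b)
  · have hP : IsPlain q := ⟨hq, hqo, hpl⟩
    have := IsPlain.isZGroup h.fpf hP
    exact le_nrm_of_isZGroup h.fpf _ hyq hy
  push_neg at hpl
  obtain ⟨u', v', hp', hqu', -⟩ := hpl
  obtain ⟨g, hg⟩ := isConj_iff.1 (h.isConj_of_orderOf_four hp'.1 hp.1)
  have hc0 : Commute (g * q * g⁻¹) u := hg ▸ commute_conj hqu'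
  have hq0 : g * q * g⁻¹ ∈ nrm y :=
    h.centralizer_four_le hp.1 hy hu (mem_centralizer_of_commute hc0)
  have hord : orderOf (g * q * g⁻¹) = orderOf q := orderOf_conj g q
  have hle := h.nrm_le_of_pair IH hy hyo hp hu hv (hord.symm ▸ hq) (hord.symm ▸ hqo) hq0 hc0
  have hz := h.fpf.zpowers_eq_of_mem_nrm hq hord rfl (hle hmem)
  have hn : nrm q = nrm (g * q * g⁻¹) := h.fpf.nrm_eq hq hord rfl (hle hmem)
  have hqu : Commute q u := commute_of_mem_zpowers (hz ▸ Subgroup.mem_zpowers q) hc0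
  obtain ⟨g1, hg1, e1⟩ := h.exists_conj_pair hy hp.1 hp.2.1 hu hv
  have hg1q : g1⁻¹ ∈ nrm q := by rw [hn]; exact hle (inv_mem hg1)
  have hqv : Commute q v := by
    have h1 : Commute (g1⁻¹ * q * g1) u :=
      commute_of_mem_zpowers (by simpa using mem_nrm.1 hg1q) hqu
    have h2 := commute_conj (g := g1) h1
    rw [e1, show g1 * (g1⁻¹ * q * g1) * g1⁻¹ = q by group] at h2
    exact h2
  exact (centralizer_le_nrm q).trans (h.nrm_le_of_pair IH hq hqo hp hqu hqv hy hyo
    (centralizer_le_nrm q hyq) hu)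

end PerfectFpf

end CfsgLib.Frobenius.Zass
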