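import Mathlib
import Cfsg.Agent.Frobenius.Zassenhaus.Pair

/-! # Elements of order 4 of `nrm y` inverting `y`

If a quaternion pair centralises `y` then the elements of `nrm y` whose part of order 4 does not
centralise `y` make up nothing or a quarter of `nrm y`.
-/

set_option autoImplicit false

namespace CfsgLib.Frobenius.Zass

open CfsgLib.Frobenius
open scoped commutatorElement

variable {G : Type*} [Group G] [Finite G]

/-- The elements of `nrm y` whose part of order 4 does not centralise `y`. -/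
def outerSet (y : G) : Set G :=
  {x | x ∈ nrm y ∧ 4 ∣ orderOf x ∧ ¬ Commute (upart x) y}

omit [Finite G] in
theorem odd_sq_pow {s : G} (hs : orderOf s = 4) {o : ℕ} (ho : Odd o) : s ^ (o * o) = s := by
  obtain ⟨c, rfl⟩ := ho
  rw [show (2 * c + 1) * (2 * c + 1) = 4 * (c * c + c) + 1 by ring, pow_succ, pow_mul, ← hs,
    pow_orderOf_eq_one, one_pow, one_mul]

/-- `nrm y` preserves commuting with `y`. -/
theorem commute_conj_nrm {y g t : G} (hg : g ∈ nrm y) (ht : Commute t y) :
    Commute (g * t * g⁻¹) y := by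
  have h1 : Commute t (g⁻¹ * y * g) := by
    have := mem_nrm.1 (inv_mem hg)
    rw [inv_inv] at this
    exact (commute_of_mem_zpowers this ht.symm).symm
  have h2 := commute_conj (g := g) h1
  rwa [show g * (g⁻¹ * y * g) * g⁻¹ = y by group] at h2

theorem commute_of_commute_conj_nrm {y g t : G} (hg : g ∈ nrm y) (ht : Commute (g * t * g⁻¹) y) :
    Commute t y := by
  have := commute_conj_nrm (inv_mem hg) ht
  rwa [show g⁻¹ * (g * t * g⁻¹) * g⁻¹⁻¹ = t by group] at this

namespace PerfectFpf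

variable (h : PerfectFpf G)

include h

theorem commute_of_sq_eq_one {x : G} (hx : x * x = 1) (g : G) : Commute x g :=
  (Subgroup.mem_center_iff.1 (h.mem_center_iff.2 hx) g).symm

theorem eq_one_or_sq {u x : G} (hu : orderOf u = 4) (hx : x * x = 1) : x = 1 ∨ x = u * u := by
  by_cases hx1 : x = 1
  · exact Or.inl hx1
  · exact Or.inr (h.fpf.involution_unique hx1 hx (mul_self_ne_one_of_orderOf_four hu)
      (sq_sq_of_orderOf_four hu))

theorem sq_eq_sq {a b : G} (ha : orderOf a = 4) (hb : orderOf b = 4) : a * a = b * b :=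
  h.fpf.involution_unique (mul_self_ne_one_of_orderOf_four ha) (sq_sq_of_orderOf_four ha)
    (mul_self_ne_one_of_orderOf_four hb) (sq_sq_of_orderOf_four hb)

/-- Commuting elements of order 4 differ by a central element. -/
theorem mul_inv_central {a b : G} (ha : orderOf a = 4) (hb : orderOf b = 4) (hab : Commute a b) :
    (a * b⁻¹) * (a * b⁻¹) = 1 := by
  calc (a * b⁻¹) * (a * b⁻¹) = a * (b⁻¹ * a) * b⁻¹ := by group
    _ = (a * a) * (b * b)⁻¹ := by rw [← hab.inv_right.eq]; group
    _ = 1 := by rw [h.sq_eq_sq ha hb, mul_inv_cancel]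

/-- A quaternion Sylow 2-subgroup of `nrm y` with prescribed rotation of order 4. -/
theorem exists_frame {u y : G} (hu4 : orderOf u = 4) (hy : (orderOf y).Prime) (hu : Commute y u) :
    ∃ (j : ℕ) (F : QuaternionGroup (2 ^ (j + 1)) →* G), Function.Injective F ∧
      F (QuaternionGroup.a ((2 ^ j : ℕ) : ZMod (2 * 2 ^ (j + 1)))) = u ∧ (∀ q, F q ∈ nrm y) ∧
      ∀ P : Subgroup G, IsPGroup 2 P → P ≤ nrm y → ∃ g ∈ nrm y, ∀ t ∈ P, ∃ q, g * t * g⁻¹ = F q := by
  let Q0 : Sylow 2 G := default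
  obtain ⟨m, hm, ⟨e⟩⟩ := h.exists_quaternion Q0
  obtain ⟨j, rfl⟩ : ∃ j, m = j + 1 := ⟨m - 1, by omega⟩
  set h₀ : ZMod (2 * 2 ^ (j + 1)) := ((2 ^ j : ℕ) : ZMod (2 * 2 ^ (j + 1))) with hh₀
  have hord0 : orderOf (QuaternionGroup.a h₀ : QuaternionGroup (2 ^ (j + 1))) = 4 := by
    rw [hh₀, ← QuaternionGroup.a_one_pow, orderOf_pow' _ (by positivity),
      QuaternionGroup.orderOf_a_one, show 2 * 2 ^ (j + 1) = 2 ^ j * 4 by ring,
      Nat.gcd_mul_right_left, Nat.mul_div_cancel_left _ (by positivity)]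
  let f0 : QuaternionGroup (2 ^ (j + 1)) →* G := (Q0 : Subgroup G).subtype.comp e.symm.toMonoidHom
  have hf0 : Function.Injective f0 := (Q0 : Subgroup G).subtype_injective.comp e.symm.injective
  obtain ⟨g0, hg0⟩ := isConj_iff.1
    (h.isConj_of_orderOf_four ((orderOf_injective f0 hf0 _).trans hord0) hu4)
  let F : QuaternionGroup (2 ^ (j + 1)) →* G := (MulAut.conj g0).toMonoidHom.comp f0
  have hF : Function.Injective F := (MulAut.conj g0).injective.comp hf0
  have hFu : F (QuaternionGroup.a h₀) = u := hg0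
  have hFM : ∀ q, F q ∈ nrm y := fun q => by
    refine h.normalizer_four_le hu4 hy hu (mem_nrm.2 ?_)
    rw [← hFu, ← map_inv, ← map_mul, ← map_mul]
    cases q with
    | a i =>
      have : (QuaternionGroup.a i : QuaternionGroup (2 ^ (j + 1))) * QuaternionGroup.a h₀ *
          (QuaternionGroup.a i)⁻¹ = QuaternionGroup.a h₀ := by
        rw [mul_inv_eq_iff_eq_mul, QuaternionGroup.a_mul_a, QuaternionGroup.a_mul_a, add_comm i h₀]
      rw [this]; exact Subgroup.mem_zpowers _
    | xa i =>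
      have : (QuaternionGroup.xa i : QuaternionGroup (2 ^ (j + 1))) * QuaternionGroup.a h₀ *
          (QuaternionGroup.xa i)⁻¹ = (QuaternionGroup.a h₀)⁻¹ := by
        rw [mul_inv_eq_iff_eq_mul, eq_inv_mul_iff_mul_eq, QuaternionGroup.xa_mul_a,
          QuaternionGroup.a_mul_xa, add_sub_cancel_right]
      rw [this, map_inv]; exact inv_mem (Subgroup.mem_zpowers _)
  refine ⟨j, F, hF, hFu, hFM, fun P hP hPM => ?_⟩
  set M := nrm y
  have hR : IsPGroup 2 F.range := by
    rw [IsPGroup.iff_card]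
    refine ⟨j + 3, ?_⟩
    rw [← Nat.card_congr (MonoidHom.ofInjective hF).toEquiv, Nat.card_eq_fintype_card,
      QuaternionGroup.card]
    ring
  obtain ⟨S', hS'⟩ := (hR.comap_of_injective M.subtype M.subtype_injective).exists_le_sylow
  obtain ⟨S, hS⟩ := (hP.comap_of_injective M.subtype M.subtype_injective).exists_le_sylow
  obtain ⟨g, hg⟩ := MulAction.exists_smul_eq M S S'
  have hle : F.range ≤ (S' : Subgroup M).map M.subtype := by
    rintro _ ⟨q, rfl⟩
    exact ⟨⟨F q, hFM q⟩, hS' ⟨q, rfl⟩, rfl⟩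
  have heq : F.range = (S' : Subgroup M).map M.subtype := by
    refine Subgroup.eq_of_le_of_card_ge hle ?_
    obtain ⟨T, hT⟩ := (S'.2.map M.subtype).exists_le_sylow
    refine (Subgroup.card_le_of_le hT).trans ?_
    rw [← Nat.card_congr (MonoidHom.ofInjective hF).toEquiv, ← Nat.card_congr e.toEquiv,
      T.card_eq_multiplicity, Q0.card_eq_multiplicity]
  refine ⟨g, g.2, fun t ht => ?_⟩
  have h1 : g * (⟨t, hPM ht⟩ : M) * g⁻¹ ∈ (S' : Subgroup M) := by
    rw [← hg]
    exact Subgroup.smul_mem_pointwise_smul _ (MulAut.conj g) _ (hS ht)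
  obtain ⟨q, hq⟩ := heq.ge (Subgroup.mem_map_of_mem M.subtype h1)
  exact ⟨q, hq.symm⟩

/-- The outer elements of order 4 form one class of `nrm y`, and squares of elements of order 8
centralise `y`. -/
theorem outer_facts {y u v : G} (hy : (orderOf y).Prime) (hp : IsQPair u v) (hu : Commute y u)
    (hv : Commute y v) :
    (∀ s ∈ nrm y, ∀ s' ∈ nrm y, orderOf s = 4 → orderOf s' = 4 → ¬ Commute s y → ¬ Commute s' y →
      ∃ g ∈ nrm y, g * s * g⁻¹ = s') ∧
    (∀ t ∈ nrm y, orderOf t = 8 → Commute (t * t) y) ∧ 8 ∣ Nat.card (nrm y) := by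
  obtain ⟨j, F, hF, hFu, hFM, hconjF⟩ := h.exists_frame hp.1 hy hu
  set h₀ : ZMod (2 * 2 ^ (j + 1)) := ((2 ^ j : ℕ) : ZMod (2 * 2 ^ (j + 1))) with hh₀
  have hn2 : ((2 ^ (j + 1) : ℕ) : ZMod (2 * 2 ^ (j + 1))) = 2 * h₀ := by
    rw [hh₀]; push_cast; ring
  have hFord : ∀ q, orderOf (F q) = orderOf q := fun q => orderOf_injective F hF q
  have hnn : ((2 ^ (j + 1) : ℕ) : ZMod (2 * 2 ^ (j + 1))) + (2 ^ (j + 1) : ℕ) = 0 := by
    rw [← Nat.cast_add, CharP.cast_eq_zero_iff (ZMod (2 * 2 ^ (j + 1))) (2 * 2 ^ (j + 1))]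
    exact dvd_of_eq (two_mul _)
  have ha2 : ∀ k : ZMod (2 * 2 ^ (j + 1)), Commute (F (QuaternionGroup.a (2 * k))) y := by
    have h1 : Commute (F (QuaternionGroup.a 2)) y := by
      have e1 : (QuaternionGroup.a 2 : QuaternionGroup (2 ^ (j + 1))) =
          ⁅(QuaternionGroup.a 1 : QuaternionGroup (2 ^ (j + 1))), QuaternionGroup.xa 0⁆ := by
        rw [commutatorElement_def]
        show QuaternionGroup.a (2 : ZMod (2 * 2 ^ (j + 1))) =
          QuaternionGroup.a (1 : ZMod (2 * 2 ^ (j + 1))) * QuaternionGroup.xa 0 * QuaternionGroup.a (-1) *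
            QuaternionGroup.xa (((2 ^ (j + 1) : ℕ) : ZMod (2 * 2 ^ (j + 1))) + 0)
        simp only [QuaternionGroup.a_mul_xa, QuaternionGroup.xa_mul_a, QuaternionGroup.xa_mul_xa]
        congr 1
        linear_combination (-1 : ZMod (2 * 2 ^ (j + 1))) * hnn
      rw [e1, map_commutatorElement]
      exact commute_commutator (hFM _) (hFM _)
    intro k
    have e2 : ∀ l : ℕ, (QuaternionGroup.a (2 * (l : ZMod (2 * 2 ^ (j + 1)))) :
        QuaternionGroup (2 ^ (j + 1))) = QuaternionGroup.a 2 ^ l := by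
      intro l
      induction l with
      | zero => simp
      | succ l ih =>
        rw [pow_succ (QuaternionGroup.a 2 : QuaternionGroup (2 ^ (j + 1))) l, ← ih,
          QuaternionGroup.a_mul_a]
        congr 1; push_cast; ring
    rw [← ZMod.natCast_rightInverse k, e2, map_pow]; exact h1.pow_left _
  have hrot4 : ∀ i, orderOf (F (QuaternionGroup.a i)) = 4 → Commute (F (QuaternionGroup.a i)) y := by
    intro i hi
    have hc : Commute (F (QuaternionGroup.a i)) u := by
      rw [← hFu]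
      exact Commute.map (show Commute (QuaternionGroup.a i) (QuaternionGroup.a h₀) by
        show _ * _ = _ * _
        rw [QuaternionGroup.a_mul_a, QuaternionGroup.a_mul_a, add_comm i h₀]) F
    rw [← inv_mul_cancel_right (F (QuaternionGroup.a i)) u]
    exact (h.commute_of_sq_eq_one (h.mul_inv_central hi hp.1 hc) y).mul_left hu.symm
  have hpair : Commute (F (QuaternionGroup.a 1)) y → ∀ i, Commute (F (QuaternionGroup.xa i)) y := by
    intro h1 i
    have hall : ∀ k, Commute (F (QuaternionGroup.a k)) y := fun k => by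
      rw [← ZMod.natCast_rightInverse k, ← QuaternionGroup.a_one_pow, map_pow]
      exact h1.pow_left _
    by_contra hi
    let P : Subgroup G := Subgroup.closure {u, v}
    have hP : IsPGroup 2 P := by
      have hnorm : Subgroup.zpowers u ≤ Subgroup.normalizer (Subgroup.zpowers v : Set G) := by
        rw [Subgroup.zpowers_le]
        exact mem_nrm.2 (hp.2.2.2 ▸ inv_mem (Subgroup.mem_zpowers v))
      have h1 : P = Subgroup.zpowers u ⊔ Subgroup.zpowers v := by
        rw [Subgroup.zpowers_eq_closure, Subgroup.zpowers_eq_closure, ← Subgroup.closure_union,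
          Set.singleton_union]
      rw [h1]
      exact IsPGroup.to_sup_of_normal_right'
        (IsPGroup.of_card (n := 2) (by rw [Nat.card_zpowers, hp.1]; rfl))
        (IsPGroup.of_card (n := 2) (by rw [Nat.card_zpowers, hp.2.1]; rfl)) hnorm
    obtain ⟨g, hgM, hg⟩ := hconjF P hP (by
      rw [Subgroup.closure_le]
      rintro _ (rfl | rfl)
      · exact centralizer_le_nrm y (mem_centralizer_of_commute hu.symm)
      · exact centralizer_le_nrm y (mem_centralizer_of_commute hv.symm))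
    obtain ⟨q1, e1⟩ := hg u (Subgroup.subset_closure (Set.mem_insert _ _))
    obtain ⟨q2, e2⟩ := hg v (Subgroup.subset_closure (Set.mem_insert_of_mem _ rfl))
    have inner : ∀ q, Commute (F q) y → ∃ k, q = QuaternionGroup.a k := by
      intro q hq
      cases q with
      | a k => exact ⟨k, rfl⟩
      | xa k =>
        exfalso
        apply hi
        have e3 : (QuaternionGroup.xa i : QuaternionGroup (2 ^ (j + 1))) =
            QuaternionGroup.xa k * QuaternionGroup.a (i - k) := by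
          rw [QuaternionGroup.xa_mul_a]; congr 1; ring
        rw [e3, map_mul]; exact hq.mul_left (hall _)
    obtain ⟨k1, rfl⟩ := inner q1 (e1 ▸ commute_conj_nrm hgM hu.symm)
    obtain ⟨k2, rfl⟩ := inner q2 (e2 ▸ commute_conj_nrm hgM hv.symm)
    apply hp.2.2.1
    have hcom : Commute (g * u * g⁻¹) (g * v * g⁻¹) := by
      rw [e1, e2]
      exact Commute.map (show Commute (QuaternionGroup.a k1) (QuaternionGroup.a k2) by
        show _ * _ = _ * _
        rw [QuaternionGroup.a_mul_a, QuaternionGroup.a_mul_a, add_comm k1 k2]) F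
    have := commute_conj (g := g⁻¹) hcom
    rwa [show g⁻¹ * (g * u * g⁻¹) * g⁻¹⁻¹ = u by group,
      show g⁻¹ * (g * v * g⁻¹) * g⁻¹⁻¹ = v by group] at this
  have hFrefl : ∀ i, Commute (F (QuaternionGroup.xa i) * F (QuaternionGroup.xa i)) y := fun i =>
    h.commute_of_sq_eq_one (sq_sq_of_orderOf_four ((hFord _).trans (QuaternionGroup.orderOf_xa i))) y
  refine ⟨?_, ?_, ?_⟩
  · have hto : ∀ s ∈ nrm y, orderOf s = 4 → ¬ Commute s y → ∃ g ∈ nrm y, ∃ i,
        g * s * g⁻¹ = F (QuaternionGroup.xa i) ∧ ¬ Commute (F (QuaternionGroup.xa i)) y := by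
      intro s hs hs4 hsn
      obtain ⟨g, hgM, hg⟩ := hconjF (Subgroup.zpowers s)
        (IsPGroup.of_card (n := 2) (by rw [Nat.card_zpowers, hs4]; rfl)) (Subgroup.zpowers_le.2 hs)
      obtain ⟨q, hq⟩ := hg s (Subgroup.mem_zpowers s)
      have hn : ¬ Commute (F q) y := fun hc => hsn (commute_of_commute_conj_nrm hgM (hq ▸ hc))
      cases q with
      | a i => exact absurd (hrot4 i (hq ▸ (orderOf_conj g s).trans hs4)) hn
      | xa i => exact ⟨g, hgM, i, hq, hn⟩
    intro s hs s' hs' hs4 hs4' hsn hsn'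
    obtain ⟨g, hgM, i, hgi, hin⟩ := hto s hs hs4 hsn
    obtain ⟨g', hgM', i', hgi', hin'⟩ := hto s' hs' hs4' hsn'
    obtain ⟨k, hk | hk⟩ : ∃ k : ZMod (2 * 2 ^ (j + 1)), i - i' = 2 * k ∨ i - i' = 2 * k + 1 := by
      obtain ⟨c, hc | hc⟩ := Nat.even_or_odd' (i - i').val
      · exact ⟨c, Or.inl (by rw [← ZMod.natCast_rightInverse (i - i'), hc]; push_cast; ring)⟩
      · exact ⟨c, Or.inr (by rw [← ZMod.natCast_rightInverse (i - i'), hc]; push_cast; ring)⟩
    · refine ⟨g'⁻¹ * F (QuaternionGroup.a k) * g,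
        mul_mem (mul_mem (inv_mem hgM') (hFM _)) hgM, ?_⟩
      have : F (QuaternionGroup.a k) * F (QuaternionGroup.xa i) * (F (QuaternionGroup.a k))⁻¹ =
          F (QuaternionGroup.xa i') := by
        rw [mul_inv_eq_iff_eq_mul, ← map_mul, ← map_mul, QuaternionGroup.a_mul_xa,
          QuaternionGroup.xa_mul_a]
        congr 2; linear_combination hk
      calc g'⁻¹ * F (QuaternionGroup.a k) * g * s * (g'⁻¹ * F (QuaternionGroup.a k) * g)⁻¹
          = g'⁻¹ * (F (QuaternionGroup.a k) * (g * s * g⁻¹) * (F (QuaternionGroup.a k))⁻¹) * g' := by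
            group
        _ = g'⁻¹ * (g' * s' * g'⁻¹) * g' := by rw [hgi, this, hgi']
        _ = s' := by group
    · exfalso
      have hi1 := (inverts_or_commute hy (hFM _) (hFrefl i)).resolve_left hin
      have hi2 := (inverts_or_commute hy (hFM _) (hFrefl i')).resolve_left hin'
      have hc := commute_mul_of_inverts hi2 hi1
      rw [← map_mul, QuaternionGroup.xa_mul_xa] at hc
      have h1 : Commute (F (QuaternionGroup.a 1)) y := by
        have hh := hc.mul_left (ha2 (-(k + h₀)))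
        rw [← map_mul, QuaternionGroup.a_mul_a] at hh
        have e4 : ((2 ^ (j + 1) : ℕ) : ZMod (2 * 2 ^ (j + 1))) + i - i' + 2 * (-(k + h₀)) = 1 := by
          linear_combination hk + hn2
        rwa [e4] at hh
      exact hin (hpair h1 i)
  · intro t ht ht8
    obtain ⟨g, hgM, hg⟩ := hconjF (Subgroup.zpowers t)
      (IsPGroup.of_card (n := 3) (by rw [Nat.card_zpowers, ht8]; rfl)) (Subgroup.zpowers_le.2 ht)
    obtain ⟨q, hq⟩ := hg t (Subgroup.mem_zpowers t)
    apply commute_of_commute_conj_nrm hgM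
    rw [show g * (t * t) * g⁻¹ = (g * t * g⁻¹) * (g * t * g⁻¹) by group, hq]
    cases q with
    | a i => rw [← map_mul, QuaternionGroup.a_mul_a, ← two_mul]; exact ha2 i
    | xa i => exact hFrefl i
  · have h2 : Nat.card F.range ∣ Nat.card (nrm y) :=
      Subgroup.card_dvd_of_le (by rintro _ ⟨q, rfl⟩; exact hFM q)
    rw [← Nat.card_congr (MonoidHom.ofInjective hF).toEquiv, Nat.card_eq_fintype_card,
      QuaternionGroup.card] at h2
    exact dvd_trans ⟨2 ^ j, by ring⟩ h2

/-- The outer part fills nothing or a quarter of `nrm y`. -/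
theorem ncard_outerSet {y u v : G} (hy : (orderOf y).Prime) (hp : IsQPair u v) (hu : Commute y u)
    (hv : Commute y v) :
    (outerSet y).ncard = 0 ∨ 4 * (outerSet y).ncard = Nat.card (nrm y) := by
  classical
  obtain ⟨hclass, h8, -⟩ := h.outer_facts hy hp hu hv
  rcases Set.eq_empty_or_nonempty (outerSet y) with he | ⟨x0, hx0M, h40, hs0n⟩
  · exact Or.inl (by rw [he, Set.ncard_empty])
  right
  set M := nrm y with hMdef
  obtain ⟨s, hs⟩ : ∃ s, s = upart x0 := ⟨_, rfl⟩
  have hs4 : orderOf s = 4 := hs ▸ orderOf_upart h40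
  have hsn : ¬ Commute s y := hs ▸ hs0n
  have hsM : s ∈ M := hs ▸ pow_mem hx0M _
  let C : Subgroup G := Subgroup.centralizer ({s} : Set G) ⊓ M
  let O : Set G := {w | w ∈ C ∧ Odd (orderOf w)}
  have hsC : s ∈ C := ⟨mem_centralizer_of_commute (Commute.refl s), hsM⟩
  have hcw : ∀ w ∈ C, ∀ n : ℕ, Commute (s ^ n) w := fun w hw n =>
    (commute_of_mem_centralizer hw.1).symm.pow_left n
  have hcpow : ∀ w ∈ C, ∀ n l : ℕ, (s ^ n * w) ^ l = s ^ (n * l) * w ^ l := fun w hw n l => by
    rw [(hcw w hw n).mul_pow, ← pow_mul]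
  have hcop : ∀ o : ℕ, Odd o → Nat.Coprime 4 o := fun o ho => by
    simpa using (Nat.coprime_two_left.2 ho).pow_left 2
  -- the centraliser of `s` in `M`
  have h8c : ∀ c ∈ C, ¬ 8 ∣ orderOf c := by
    intro c hc h8d
    set t := c ^ (orderOf c / 8)
    have ht : orderOf t = 8 := orderOf_pow_orderOf_div (orderOf_pos c).ne' h8d
    have ht2 : orderOf (t * t) = 4 := by
      rw [← pow_two, orderOf_pow' _ two_ne_zero, ht]; rfl
    have hcs : Commute c s := commute_of_mem_centralizer hc.1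
    have hts : Commute (t * t) s := (hcs.pow_left _).mul_left (hcs.pow_left _)
    apply hsn
    have e1 : s = ((t * t) * s⁻¹)⁻¹ * (t * t) := by group
    rw [e1]
    exact (h.commute_of_sq_eq_one (h.mul_inv_central ht2 hs4 hts) y).inv_left.mul_left
      (h8 t (pow_mem hc.2 _) ht)
  have htwo : ∀ c ∈ C, c ^ 4 = 1 → ∃ l : ℕ, c = s ^ l := by
    intro c hc hc4
    by_cases h2 : c * c = 1
    · rcases h.eq_one_or_sq hs4 h2 with e | e
      · exact ⟨0, by rw [e, pow_zero]⟩
      · exact ⟨2, by rw [e, pow_two]⟩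
    · have ht4 : orderOf c = 4 := by
        show orderOf c = 2 ^ (1 + 1)
        exact orderOf_eq_prime_pow (by rwa [pow_one, pow_two]) hc4
      have hw := h.mul_inv_central ht4 hs4 (commute_of_mem_centralizer hc.1)
      rcases h.eq_one_or_sq hs4 hw with e | e
      · exact ⟨1, by rw [pow_one]; exact mul_inv_eq_one.1 e⟩
      · exact ⟨3, by rw [pow_succ, pow_two]; exact mul_inv_eq_iff_eq_mul.1 e⟩
  have hC4 : Nat.card C = 4 * O.ncard := by
    let ψ : Fin 4 × O → C := fun p => ⟨s ^ (p.1 : ℕ) * (p.2 : G),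
      mul_mem (pow_mem hsC _) p.2.2.1⟩
    have hψ : Function.Bijective ψ := by
      constructor
      · rintro ⟨i, w, hw⟩ ⟨i', w', hw'⟩ e1
        have e2 : s ^ (i : ℕ) * w = s ^ (i' : ℕ) * w' := congrArg Subtype.val e1
        have hN1 : w ^ (orderOf w * orderOf w') = 1 := by rw [pow_mul, pow_orderOf_eq_one, one_pow]
        have hN2 : w' ^ (orderOf w * orderOf w') = 1 := by
          rw [mul_comm, pow_mul, pow_orderOf_eq_one, one_pow]
        have e3 := congrArg (fun a : G => a ^ (orderOf w * orderOf w')) e2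
        simp only [hcpow w hw.1, hcpow w' hw'.1, hN1, hN2, mul_one] at e3
        rw [pow_eq_pow_iff_modEq, hs4] at e3
        have e5 : i = i' := Fin.ext (Nat.ModEq.eq_of_lt_of_lt
          (e3.cancel_right_of_coprime (hcop _ (hw.2.mul hw'.2))) i.2 i'.2)
        subst e5
        exact Prod.ext rfl (Subtype.ext (mul_left_cancel e2))
      · rintro ⟨c, hc⟩
        obtain ⟨a, b, hb, hfac⟩ := Nat.exists_eq_pow_mul_and_not_dvd (orderOf_pos c).ne' 2 (by norm_num)
        have hbo : Odd b := Nat.odd_iff.2 (Nat.two_dvd_ne_zero.1 hb)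
        obtain ⟨l, hl⟩ := htwo (c ^ b) (pow_mem hc b) (by
          have ha : a ≤ 2 := by
            by_contra ha
            exact h8c c hc (hfac ▸ (pow_dvd_pow 2 (show 3 ≤ a by omega)).mul_right b)
          rw [← pow_mul, ← orderOf_dvd_iff_pow_eq_one, hfac, mul_comm]
          exact Nat.mul_dvd_mul_left b ((pow_dvd_pow 2 ha).trans (by norm_num)))
        have hwC : (s ^ (l * b))⁻¹ * c ∈ C := mul_mem (inv_mem (pow_mem hsC _)) hc
        have hwb : ((s ^ (l * b))⁻¹ * c) ^ b = 1 := by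
          rw [(hcw c hc (l * b)).inv_left.mul_pow, inv_pow, ← pow_mul, hl,
            show l * b * b = (b * b) * l by ring, pow_mul, odd_sq_pow hs4 hbo, inv_mul_cancel]
        refine ⟨(⟨(l * b) % 4, Nat.mod_lt _ (by norm_num)⟩,
          ⟨(s ^ (l * b))⁻¹ * c, hwC, hbo.of_dvd_nat (orderOf_dvd_of_pow_eq_one hwb)⟩),
          Subtype.ext ?_⟩
        show s ^ ((l * b) % 4) * _ = c
        have e : s ^ ((l * b) % 4) = s ^ (l * b) := by
          have := pow_mod_orderOf s (l * b)
          rwa [hs4] at this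
        rw [e]
        exact mul_inv_cancel_left _ _
    rw [← Nat.card_congr (Equiv.ofBijective ψ hψ), Nat.card_prod, Nat.card_fin,
      Nat.card_coe_set_eq]
  -- the fibre over `s`
  let S : Set M := {x : M | 4 ∣ orderOf (x : G) ∧ upart (x : G) = s}
  have hfib : ∀ x ∈ S, (s ^ (orderOf ((x : M) : G) / 4))⁻¹ * (x : G) ∈ O ∧
      orderOf ((s ^ (orderOf ((x : M) : G) / 4))⁻¹ * (x : G)) = orderOf ((x : M) : G) / 4 := by
    rintro x ⟨h4x, hxs⟩
    set o := orderOf (x : G) / 4 with ho
    obtain ⟨c, hc⟩ := h4x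
    have hoc : o = c := by omega
    have hodd : Odd o := by
      rw [Nat.odd_iff]
      by_contra hev
      have h8x : 8 ∣ orderOf (x : G) := by omega
      apply hsn
      rw [← hxs, upart]
      have e1 : (x : G) ^ (orderOf (x : G) / 4) =
          (x : G) ^ (orderOf (x : G) / 8) * (x : G) ^ (orderOf (x : G) / 8) := by
        rw [← pow_add]; congr 1; omega
      rw [e1]
      exact h8 _ (pow_mem x.2 _) (orderOf_pow_orderOf_div (orderOf_pos _).ne' h8x)
    have hxC : (x : G) ∈ C := ⟨mem_centralizer_of_commute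
      (hxs ▸ (Commute.refl (x : G)).pow_right _), x.2⟩
    have hwC : (s ^ o)⁻¹ * (x : G) ∈ C := mul_mem (inv_mem (pow_mem hsC _)) hxC
    set w := (s ^ o)⁻¹ * (x : G)
    have hwo : w ^ o = 1 := by
      rw [(hcw _ hxC o).inv_left.mul_pow, inv_pow, ← pow_mul, odd_sq_pow hs4 hodd, inv_mul_eq_one]
      exact hxs.symm
    have h2 : (x : G) ^ (4 * orderOf w) = 1 := by
      rw [show (x : G) = s ^ o * w by simp only [w, mul_inv_cancel_left], hcpow w hwC,
        show o * (4 * orderOf w) = 4 * (o * orderOf w) by ring, pow_mul, ← hs4, pow_orderOf_eq_one,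
        one_pow, mul_comm (orderOf s), pow_mul, pow_orderOf_eq_one, one_pow, one_mul]
    have d1 := orderOf_dvd_of_pow_eq_one h2
    rw [hc] at d1
    refine ⟨⟨hwC, hodd.of_dvd_nat (orderOf_dvd_of_pow_eq_one hwo)⟩, Nat.dvd_antisymm
      (orderOf_dvd_of_pow_eq_one hwo) (hoc ▸ Nat.dvd_of_mul_dvd_mul_left (by norm_num) d1)⟩
  have hS : S.ncard = O.ncard := by
    refine Set.ncard_congr (fun x _ => (s ^ (orderOf ((x : M) : G) / 4))⁻¹ * (x : G)) ?_ ?_ ?_
    · exact fun x hx => (hfib x hx).1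
    · intro x x' hx hx' e1
      have h1 : orderOf (x : G) / 4 = orderOf (x' : G) / 4 :=
        (hfib x hx).2.symm.trans ((congrArg orderOf e1).trans (hfib x' hx').2)
      rw [h1] at e1
      exact Subtype.ext (mul_left_cancel e1)
    · rintro w ⟨hwC, hwo⟩
      set o := orderOf w
      set x := s ^ o * w
      have hso : orderOf (s ^ o) = 4 := by
        have hco : Nat.Coprime (orderOf s) o := by rw [hs4]; exact hcop o hwo
        rw [hco.orderOf_pow, hs4]
      have hx4 : orderOf x = 4 * o := by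
        rw [(hcw w hwC o).orderOf_mul_eq_mul_orderOf_of_coprime (by rw [hso]; exact hcop o hwo), hso]
      refine ⟨⟨x, mul_mem (pow_mem hsM _) hwC.2⟩, ⟨by rw [hx4]; exact dvd_mul_right 4 o, ?_⟩, ?_⟩
      · show x ^ (orderOf x / 4) = s
        rw [hx4, Nat.mul_div_cancel_left _ (by norm_num), hcpow w hwC, pow_orderOf_eq_one, mul_one,
          odd_sq_pow hs4 hwo]
      · show (s ^ (orderOf x / 4))⁻¹ * x = w
        rw [hx4, Nat.mul_div_cancel_left _ (by norm_num), inv_mul_cancel_left]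
  have hN' : ∀ g ∈ C.subgroupOf M, ∀ x ∈ S, g * x * g⁻¹ ∈ S := by
    rintro g hg x ⟨h4x, hxs⟩
    refine ⟨by simpa [orderOf_conj] using h4x, ?_⟩
    show upart ((g : G) * (x : G) * (g : G)⁻¹) = s
    have hgc : Commute (g : G) s := commute_of_mem_centralizer hg.1
    rw [upart_conj, hxs, hgc.eq, mul_inv_cancel_right]
  have hTI' : ∀ x ∈ S, ∀ g : M, g * x * g⁻¹ ∈ S → g ∈ C.subgroupOf M := by
    rintro x ⟨-, hxs⟩ g ⟨-, hgx⟩
    refine ⟨mem_centralizer_of_commute (mul_inv_eq_iff_eq_mul.1 ?_), g.2⟩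
    have e1 : upart ((g : G) * (x : G) * (g : G)⁻¹) = s := hgx
    rwa [upart_conj, hxs] at e1
  have hU : (Subtype.val '' conjUnion S : Set G) = outerSet y := by
    ext x
    constructor
    · rintro ⟨x', ⟨g, h4g, hgs⟩, rfl⟩
      have e1 : orderOf ((g : G)⁻¹ * (x' : G) * (g : G)⁻¹⁻¹) = orderOf (x' : G) := orderOf_conj _ _
      rw [inv_inv] at e1
      have hgs' : upart ((g : G)⁻¹ * (x' : G) * (g : G)⁻¹⁻¹) = s := by rw [inv_inv]; exact hgs
      rw [upart_conj] at hgs'
      refine ⟨x'.2, e1 ▸ h4g, fun hc => hsn ?_⟩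
      rw [← hgs']
      exact commute_conj_nrm (inv_mem g.2) hc
    · rintro ⟨hxM, h4x, hxn⟩
      obtain ⟨g, hgM, hg⟩ := hclass (upart x) (pow_mem hxM _) s hsM (orderOf_upart h4x) hs4 hxn hsn
      refine ⟨⟨x, hxM⟩, ⟨(⟨g, hgM⟩ : M)⁻¹, ?_, ?_⟩, rfl⟩
      · simpa [orderOf_conj] using h4x
      · show upart ((g : G)⁻¹⁻¹ * x * (g : G)⁻¹) = s
        rw [inv_inv, upart_conj, hg]
  have hcount := ncard_conjUnion hN' hTI'
  rw [← Set.ncard_image_of_injective (conjUnion S) Subtype.val_injective, hU, hS,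
    Nat.card_congr (Subgroup.subgroupOfEquivOfLe inf_le_right).toEquiv, hC4] at hcount
  have hO : 0 < O.ncard :=
    (Set.ncard_pos (Set.toFinite O)).2 ⟨1, one_mem _, by rw [orderOf_one]; exact odd_one⟩
  exact Nat.eq_of_mul_eq_mul_right hO (by linarith)

end PerfectFpf

end CfsgLib.Frobenius.Zass
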