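import Mathlib
import Cfsg.Agent.Frobenius.Zassenhaus.Outer

/-! # No element of odd prime order centralises a quaternion subgroup

Here `G` is perfect fixed-point-free and every proper subgroup maps to `Perm (Fin 5)` with a
Z-group as kernel.  The elements of `G` outside the conjugates of the normaliser of a
counterexample fall into classes which are too large to fit.
-/

set_option autoImplicit false

namespace CfsgLib.Frobenius.Zass

open CfsgLib.Frobenius

variable {G : Type*} [Group G]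

/-- The elements of `nrm y` whose part of order 4, if any, centralises `y`. -/
def covSet (y : G) : Set G :=
  {x | x ∈ nrm y ∧ x * x ≠ 1 ∧ (4 ∣ orderOf x → Commute (upart x) y)}

/-- The noncentral elements outside the conjugates of `covSet y`. -/
def freeSet (y : G) : Set G := {x | x * x ≠ 1 ∧ x ∉ conjUnion (covSet y)}

/-- The conjugates of the noncentral elements commuting with `x`. -/
def classSet (x : G) : Set G := conjUnion {a | Commute a x ∧ a * a ≠ 1}

theorem conj_mul_self_ne_one {g x : G} (hx : x * x ≠ 1) :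
    g * x * g⁻¹ * (g * x * g⁻¹) ≠ 1 := by
  intro e1
  rw [show g * x * g⁻¹ * (g * x * g⁻¹) = g * (x * x) * g⁻¹ by group, mul_inv_eq_one,
    mul_eq_left] at e1
  exact hx e1

theorem mul_self_ne_one_of_prime [Finite G] {q : G} (hq : (orderOf q).Prime) (ho : Odd (orderOf q)) :
    q * q ≠ 1 := by
  intro e
  have h1 := orderOf_dvd_of_pow_eq_one (x := q) (n := 2) (by rw [pow_two, e])
  obtain ⟨k, hk⟩ := ho
  rcases (Nat.dvd_prime Nat.prime_two).1 h1 with e1 | e1
  · exact hq.ne_one e1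
  · omega

namespace PerfectFpf

variable [Finite G] (h : PerfectFpf G) (IH : ∀ K : Subgroup G, K ≠ ⊤ → HasFiveMap K)
  {y u v : G} (hy : (orderOf y).Prime) (hyo : Odd (orderOf y)) (hp : IsQPair u v)
  (hu : Commute y u) (hv : Commute y v)

include h IH hy hyo hp hu hv

theorem no_order_sixteen (t : G) : orderOf t ≠ 16 := by
  intro ht
  set M := nrm y
  have hMtop : M ≠ ⊤ := h.nrm_ne_top (mul_self_ne_one_of_prime hy hyo)
  have huM : u ∈ M := centralizer_le_nrm y (mem_centralizer_of_commute hu.symm)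
  have hvM : v ∈ M := centralizer_le_nrm y (mem_centralizer_of_commute hv.symm)
  have hts : orderOf (t ^ 4) = 4 := by rw [orderOf_pow' _ (by norm_num), ht]; rfl
  obtain ⟨g, hg⟩ := isConj_iff.1 (h.isConj_of_orderOf_four hts hp.1)
  have htM : g * t * g⁻¹ ∈ M := h.centralizer_four_le hp.1 hy hu
    (mem_centralizer_of_commute (hg ▸ commute_conj ((Commute.refl t).pow_right 4)))
  obtain ⟨f, hf⟩ := IH M hMtop
  obtain ⟨g1, hg1, e3⟩ := h.exists_conj_pair hy hp.1 hp.2.1 hu hv
  have hV : f ⟨v, hvM⟩ = f ⟨g1, hg1⟩ * f ⟨u, huM⟩ * (f ⟨g1, hg1⟩)⁻¹ := by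
    rw [← map_inv, ← map_mul, ← map_mul]; exact congrArg f (Subtype.ext e3.symm)
  have h4u : f ⟨u, huM⟩ ^ 4 = 1 := by
    rw [← map_pow, show (⟨u, huM⟩ : M) ^ 4 = 1 from Subtype.ext (hp.1 ▸ pow_orderOf_eq_one u),
      map_one]
  have e1 : f ⟨g * t * g⁻¹, htM⟩ ^ 4 = f ⟨u, huM⟩ := by
    rw [← map_pow]; refine congrArg f (Subtype.ext ?_)
    show (g * t * g⁻¹) ^ 4 = u
    rw [conj_pow, hg]
  have h2 : f ⟨u, huM⟩ * f ⟨u, huM⟩ = 1 := by
    obtain ⟨g2, hg2, e4⟩ := h.exists_conj_pair hy hp.1 (h.orderOf_qpair_mul hp) hu (hu.mul_right hv)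
    have hS : Equiv.Perm.sign (f ⟨v, hvM⟩) = Equiv.Perm.sign (f ⟨u, huM⟩) := by
      rw [hV, map_mul, map_mul, map_inv, mul_comm (Equiv.Perm.sign (f ⟨g1, hg1⟩)),
        mul_inv_cancel_right]
    have hUV : f ⟨u, huM⟩ * f ⟨v, hvM⟩ = f ⟨g2, hg2⟩ * f ⟨u, huM⟩ * (f ⟨g2, hg2⟩)⁻¹ := by
      rw [← map_inv, ← map_mul, ← map_mul, ← map_mul]; exact congrArg f (Subtype.ext e4.symm)
    have a2 := congrArg Equiv.Perm.sign hUV
    rw [map_mul, hS, map_mul, map_mul, map_inv, mul_comm (Equiv.Perm.sign (f ⟨g2, hg2⟩)),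
      mul_inv_cancel_right] at a2
    exact perm_five_even_sq _ (mul_eq_left.1 a2) h4u
  have h8u : f ⟨g * t * g⁻¹, htM⟩ ^ 8 = 1 := by
    rw [show (8 : ℕ) = 4 * 2 from rfl, pow_mul, e1, pow_two, h2]
  rw [perm_five_eight _ h8u] at e1
  have := hf
  have hVk : f ⟨v, hvM⟩ = 1 := by rw [hV, ← e1, mul_one, mul_inv_cancel]
  refine not_qpair_of_isZGroup (H := f.ker) (u := ⟨⟨u, huM⟩, e1.symm⟩) (v := ⟨⟨v, hvM⟩, hVk⟩)
    ⟨?_, ?_, ?_, ?_⟩
  · rw [← Subgroup.orderOf_coe, ← Subgroup.orderOf_coe]; exact hp.1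
  · rw [← Subgroup.orderOf_coe, ← Subgroup.orderOf_coe]; exact hp.2.1
  · exact fun hc => hp.2.2.1 (congrArg (fun t : f.ker => ((t : M) : G)) hc.eq)
  · exact Subtype.ext (Subtype.ext hp.2.2.2)

theorem covSet_tI {x g : G} (hx : x ∈ covSet y) (hgx : g * x * g⁻¹ ∈ covSet y) : g ∈ nrm y := by
  obtain ⟨hxM, hx2, hxI⟩ := hx
  obtain ⟨hxM', -, hxI'⟩ := hgx
  by_cases h4 : 4 ∣ orderOf x
  · refine h.mem_nrm_of_conj (orderOf_upart h4) hy (hxI h4).symm ?_
    rw [← upart_conj]
    exact (hxI' (by rwa [orderOf_conj])).symm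
  · obtain ⟨k, hk, hko⟩ := exists_prime_power_part h4 hx2
    have hq' : g * x ^ k * g⁻¹ ∈ nrm y := by rw [← conj_pow]; exact pow_mem hxM' k
    have hc1 : Commute y (x ^ k) := (commute_of_mem_nrm_prime h.fpf hy hk (pow_mem hxM k)).symm
    have hy' : g * y * g⁻¹ ∈ Subgroup.centralizer ({g * x ^ k * g⁻¹} : Set G) :=
      mem_centralizer_of_commute (commute_conj hc1)
    have hmem := h.centralizer_le_of_pair IH hy hyo hp hu hv (by rwa [orderOf_conj])
      (by rwa [orderOf_conj]) hq' hy'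
    rw [mem_nrm, ← h.fpf.zpowers_eq_of_mem_nrm hy rfl (orderOf_conj g y) hmem]
    exact Subgroup.mem_zpowers _

theorem not_four_dvd {x : G} (hx : x ∈ freeSet y) : ¬ 4 ∣ orderOf x := by
  intro h4
  obtain ⟨g, hg⟩ := isConj_iff.1 (h.isConj_of_orderOf_four (orderOf_upart h4) hp.1)
  refine hx.2 ⟨g⁻¹, ?_⟩
  rw [inv_inv]
  refine ⟨h.centralizer_four_le hp.1 hy hu (mem_centralizer_of_commute
    (hg ▸ commute_conj ((Commute.refl x).pow_right _))), conj_mul_self_ne_one hx.1, fun _ => ?_⟩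
  rw [upart_conj, hg]
  exact hu.symm

theorem freeSet_not_mem {x : G} (hx : x ∈ freeSet y) (g : G) : g * x * g⁻¹ ∉ nrm y := by
  intro hM
  refine hx.2 ⟨g⁻¹, ?_⟩
  rw [inv_inv]
  exact ⟨hM, conj_mul_self_ne_one hx.1, fun h4 =>
    absurd (by rwa [orderOf_conj] at h4) (not_four_dvd h IH hy hyo hp hu hv hx)⟩

/-- `freeSet y` is closed under commuting noncentral elements. -/
theorem freeSet_closed {x a : G} (hx : x ∈ freeSet y) (hc : Commute a x) (ha : a * a ≠ 1) :
    a ∈ freeSet y := by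
  refine ⟨ha, ?_⟩
  rintro ⟨g, hbM, hb2, hbI⟩
  have hcb : Commute (g⁻¹ * x * g⁻¹⁻¹) (g⁻¹ * a * g⁻¹⁻¹) := commute_conj hc.symm
  rw [inv_inv] at hcb
  refine freeSet_not_mem h IH hy hyo hp hu hv hx g⁻¹ ?_
  rw [inv_inv]
  by_cases h4 : 4 ∣ orderOf (g⁻¹ * a * g)
  · exact h.centralizer_four_le (orderOf_upart h4) hy (hbI h4).symm
      (mem_centralizer_of_commute (hcb.pow_right _))
  · obtain ⟨k, hk, hko⟩ := exists_prime_power_part h4 hb2
    exact h.centralizer_le_of_pair IH hy hyo hp hu hv hk hko (pow_mem hbM k)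
      (mem_centralizer_of_commute (hcb.pow_right k))

theorem exists_clean_power {x : G} (hx : x ∈ freeSet y) :
    ∃ k : ℕ, IsClean (x ^ k) ∧ x ^ k ∈ freeSet y := by
  obtain ⟨k, hk, hko⟩ := exists_prime_power_part (not_four_dvd h IH hy hyo hp hu hv hx) hx.1
  have hq : x ^ k ∈ freeSet y := freeSet_closed h IH hy hyo hp hu hv hx
    ((Commute.refl x).pow_left k) (mul_self_ne_one_of_prime hk hko)
  have hplain : ∀ r, Commute r (x ^ k) → (orderOf r).Prime → Odd (orderOf r) → IsPlain r := by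
    intro r hr hrp hro
    refine ⟨hrp, hro, fun a b hab hc => ?_⟩
    have hr' := freeSet_closed h IH hy hyo hp hu hv hq hr (mul_self_ne_one_of_prime hrp hro)
    have ha := freeSet_closed h IH hy hyo hp hu hv hr' hc.1.symm hab.ne_one.1
    exact not_four_dvd h IH hy hyo hp hu hv ha (by rw [hab.1])
  exact ⟨k, ⟨hplain _ (Commute.refl _) hk hko, hplain⟩, hq⟩

theorem commute_trans {x a b : G} (hx : x ∈ freeSet y) (ha : Commute a x) (hb : Commute b x) :
    Commute a b := by
  obtain ⟨k, hcl, hq⟩ := exists_clean_power h IH hy hyo hp hu hv hx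
  have hdec : ∀ a : G, Commute a x → ∃ o c : G, Odd (orderOf o) ∧ Commute o (x ^ k) ∧ c * c = 1 ∧
      a = o * c := by
    intro a ha
    obtain ⟨e, b, hb, hfac⟩ :=
      Nat.exists_eq_pow_mul_and_not_dvd (orderOf_pos a).ne' 2 (by norm_num)
    have he : e ≤ 1 := by
      by_contra he
      have h4 : 4 ∣ orderOf a := hfac ▸ (pow_dvd_pow 2 (show 2 ≤ e by omega)).mul_right b
      refine not_four_dvd h IH hy hyo hp hu hv (freeSet_closed h IH hy hyo hp hu hv hx ha ?_) h4
      intro e1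
      have := Nat.le_of_dvd (by norm_num)
        (h4.trans (orderOf_dvd_of_pow_eq_one (n := 2) (by rw [pow_two, e1])))
      omega
    obtain ⟨c, hc⟩ : Odd b := Nat.odd_iff.2 (Nat.two_dvd_ne_zero.1 hb)
    have hab : (a ^ b) * (a ^ b) = 1 := by
      rw [← pow_add, ← two_mul, ← orderOf_dvd_iff_pow_eq_one, hfac]
      exact Nat.mul_dvd_mul_right ((pow_dvd_pow 2 he).trans (by simp)) b
    refine ⟨(a ^ 2) ^ (c + 1), (a ^ b)⁻¹, ?_, ((ha.pow_left 2).pow_left (c + 1)).pow_right k, ?_, ?_⟩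
    · exact Odd.of_dvd_nat (n := b) ⟨c, hc⟩ ((orderOf_pow_dvd (c + 1)).trans
        (orderOf_dvd_of_pow_eq_one (by rw [← pow_mul, mul_comm, pow_mul, pow_two, hab])))
    · rw [← mul_inv_rev, hab, inv_one]
    · rw [← pow_mul, eq_mul_inv_iff_mul_eq, ← pow_succ']
      congr 1; omega
  obtain ⟨oa, ca, hoa, hoaq, hca, rfl⟩ := hdec a ha
  obtain ⟨ob, cb, hob, hobq, hcb, rfl⟩ := hdec b hb
  exact ((h.commute_odd_centralizer hcl hoaq hobq hoa hob).mul_right
    (h.commute_of_sq_eq_one hcb oa).symm).mul_left (h.commute_of_sq_eq_one hca _)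

theorem classSet_subset {x : G} (hx : x ∈ freeSet y) : classSet x ⊆ freeSet y := by
  rintro a ⟨g, hgc, hg2⟩
  have := freeSet_closed h IH hy hyo hp hu hv hx hgc hg2
  refine ⟨fun e1 => hg2 ?_, fun hU => this.2 ?_⟩
  · rw [show g⁻¹ * a * g * (g⁻¹ * a * g) = g⁻¹ * (a * a) * g by group, e1, mul_one, inv_mul_cancel]
  · have h1 := conj_mem_conjUnion (covSet y) (g := g⁻¹) hU
    rwa [inv_inv] at h1

theorem classSet_disjoint {x x' : G} (hx : x ∈ freeSet y) (hx' : x' ∈ freeSet y)
    (hn : x' ∉ classSet x) : Disjoint (classSet x) (classSet x') := by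
  rw [Set.disjoint_left]
  rintro a ha ⟨k, hkc, hk2⟩
  have hF := classSet_subset h IH hy hyo hp hu hv hx ha
  obtain ⟨g, hgc, hg2⟩ := ha
  have h1 : Commute a (g * x * g⁻¹) := by
    have := commute_conj (g := g) hgc
    rwa [show g * (g⁻¹ * a * g) * g⁻¹ = a by group] at this
  have h2 : Commute a (k * x' * k⁻¹) := by
    have := commute_conj (g := k) hkc
    rwa [show k * (k⁻¹ * a * k) * k⁻¹ = a by group] at this
  have h3 := commute_conj (g := g⁻¹) (commute_trans h IH hy hyo hp hu hv hF h2.symm h1.symm)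
  rw [show g⁻¹ * (g * x * g⁻¹) * g⁻¹⁻¹ = x by group,
    show g⁻¹ * (k * x' * k⁻¹) * g⁻¹⁻¹ = (k⁻¹ * g)⁻¹ * x' * (k⁻¹ * g) by group] at h3
  refine hn ⟨k⁻¹ * g, h3, ?_⟩
  have := conj_mul_self_ne_one (g := (k⁻¹ * g)⁻¹) hx'.1
  rwa [inv_inv] at this

/-- The sizes of the classes. -/
theorem ncard_classSet {x : G} (hx : x ∈ freeSet y) :
    Nat.card G ≤ 3 * (classSet x).ncard ∨
      (Nat.card G ≤ 5 * (classSet x).ncard ∧ 4 * (classSet x).ncard < Nat.card G) := by
  obtain ⟨k, hcl, hqF⟩ := exists_clean_power h IH hy hyo hp hu hv hx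
  have hq : (orderOf (x ^ k)).Prime ∧ Odd (orderOf (x ^ k)) := ⟨hcl.1.1, hcl.1.2.1⟩
  set q := x ^ k with hqdef
  let T := Subgroup.centralizer ({q} : Set G)
  let S : Set G := {a | Commute a q ∧ a * a ≠ 1}
  let N := nrm q
  have hcx : ∀ a, Commute a q ↔ Commute a x := fun a =>
    ⟨fun ha => commute_trans h IH hy hyo hp hu hv hqF ha ((Commute.refl x).pow_right k),
      fun ha => ha.pow_right k⟩
  have hS : classSet x = conjUnion S := by
    have : {a | Commute a x ∧ a * a ≠ 1} = S := by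
      ext a; exact and_congr_left' (hcx a).symm
    rw [classSet, this]
  rw [hS]
  have hqT : q ∈ T := mem_centralizer_of_commute (Commute.refl q)
  have hN : ∀ g ∈ N, ∀ a ∈ S, g * a * g⁻¹ ∈ S := by
    rintro g hg a ⟨ha, ha2⟩
    exact ⟨commute_conj_nrm hg ha, conj_mul_self_ne_one ha2⟩
  have hTI : ∀ a ∈ S, ∀ g : G, g * a * g⁻¹ ∈ S → g ∈ N := by
    rintro a ⟨ha, ha2⟩ g ⟨hga, hga2⟩
    have haF := freeSet_closed h IH hy hyo hp hu hv hqF hga hga2
    have h1 := commute_trans h IH hy hyo hp hu hv haF hga.symm (commute_conj (g := g) ha.symm)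
    show g ∈ nrm q
    rw [mem_nrm, ← h.fpf.zpowers_eq_of_commute hq.1 rfl (orderOf_conj g q) h1]
    exact Subgroup.mem_zpowers _
  have hcnt := ncard_conjUnion hN hTI
  have hTcard : S.ncard + 2 = Nat.card T := by
    have e1 : (T : Set G) = S ∪ {1, u * u} := by
      ext a
      constructor
      · intro ha
        by_cases ha2 : a * a = 1
        · exact Or.inr (h.eq_one_or_sq hp.1 ha2)
        · exact Or.inl ⟨commute_of_mem_centralizer ha, ha2⟩
      · rintro (⟨ha, -⟩ | (rfl | rfl))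
        · exact mem_centralizer_of_commute ha
        · exact one_mem _
        · exact mem_centralizer_of_commute (h.commute_of_sq_eq_one (sq_sq_of_orderOf_four hp.1) q)
    have e2 : Nat.card T = (T : Set G).ncard := Nat.card_coe_set_eq _
    rw [e2, e1, Set.ncard_union_eq, Set.ncard_pair (Ne.symm hp.ne_one.1)]
    rw [Set.disjoint_left]
    rintro a ⟨-, ha2⟩ (rfl | rfl)
    · exact ha2 (mul_one 1)
    · exact ha2 (sq_sq_of_orderOf_four hp.1)
  let φ : N →* MulAut (Subgroup.zpowers q) := (Subgroup.zpowers q).normalizerMonoidHom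
  have hker : φ.ker = T.subgroupOf N := by
    ext a
    constructor
    · intro ha
      have e1 : (a : G) * q * (a : G)⁻¹ = q := congrArg Subtype.val
        (DFunLike.congr_fun (MonoidHom.mem_ker.1 ha) (⟨q, Subgroup.mem_zpowers q⟩ : Subgroup.zpowers q))
      exact mem_centralizer_of_commute (mul_inv_eq_iff_eq_mul.1 e1)
    · intro ha
      have hc : Commute (a : G) q := commute_of_mem_centralizer ha
      ext ⟨w, i, rfl⟩
      show (a : G) * q ^ i * (a : G)⁻¹ = q ^ i
      rw [(hc.zpow_right i).eq, mul_inv_cancel_right]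
  have hNT : Nat.card N = Nat.card T * Nat.card φ.range := by
    rw [← φ.ker.card_mul_index, Subgroup.index_ker, hker,
      Nat.card_congr (Subgroup.subgroupOfEquivOfLe (centralizer_le_nrm q)).toEquiv]
  have : IsCyclic (MulAut (Subgroup.zpowers q)) := by
    let e' := IsCyclic.mulAutMulEquiv (Subgroup.zpowers q)
    have := Fact.mk hq.1
    have : IsCyclic (ZMod (Nat.card (Subgroup.zpowers q)))ˣ := by
      rw [Nat.card_zpowers]; infer_instance
    exact isCyclic_of_surjective _ e'.symm.surjective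
  have hw4 : Nat.card φ.range ∣ 4 := by
    have hexp : ∀ a : φ.range, a ^ 4 = 1 := by
      rintro ⟨_, g, rfl⟩
      refine Subtype.ext ?_
      show φ g ^ 4 = 1
      rw [← orderOf_dvd_iff_pow_eq_one]
      obtain ⟨e, b, hb, hfac⟩ :=
        Nat.exists_eq_pow_mul_and_not_dvd (orderOf_pos (g : G)).ne' 2 (by norm_num)
      have hbo : Odd b := Nat.odd_iff.2 (Nat.two_dvd_ne_zero.1 hb)
      have hker1 : ∀ l : ℕ, (g : G) ^ l ∈ T → φ g ^ l = 1 := fun l hl => by
        rw [← map_pow, ← MonoidHom.mem_ker, hker]; exact hl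
      have h1 : orderOf (φ g) ∣ 2 ^ e := by
        apply orderOf_dvd_of_pow_eq_one
        apply hker1
        have hob : Odd (orderOf ((g : G) ^ 2 ^ e)) := by
          rw [orderOf_pow' _ (by positivity), hfac, Nat.gcd_mul_right_left,
            Nat.mul_div_cancel_left _ (by positivity)]
          exact hbo
        exact mem_centralizer_of_commute
          (h.commute_odd hcl (pow_mem g.2 _) (centralizer_le_nrm q hqT) hob hq.2)
      have h2 : orderOf (φ g) ∣ 4 * b := by
        apply orderOf_dvd_of_pow_eq_one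
        apply hker1
        refine mem_centralizer_of_commute (h.commute_of_sq_eq_one ?_ q)
        have he : e ≤ 3 := by
          by_contra he
          exact no_order_sixteen h IH hy hyo hp hu hv _ (orderOf_pow_orderOf_div
            (orderOf_pos (g : G)).ne' (hfac ▸ (pow_dvd_pow 2 (show 4 ≤ e by omega)).mul_right b))
        rw [← pow_add, ← orderOf_dvd_iff_pow_eq_one, hfac, show 4 * b + 4 * b = 2 ^ 3 * b by ring]
        exact Nat.mul_dvd_mul_right (pow_dvd_pow 2 he) b
      exact ((Nat.coprime_two_left.2 hbo).pow_left e).coprime_dvd_left h1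
        |>.dvd_of_dvd_mul_right h2
    rw [← IsCyclic.exponent_eq_card]
    exact Monoid.exponent_dvd_of_forall_pow_eq_one hexp
  have hwp : Nat.card φ.range ∣ orderOf q - 1 := by
    refine (Subgroup.card_subgroup_dvd_card φ.range).trans (dvd_of_eq ?_)
    rw [IsCyclic.card_mulAut, Nat.card_zpowers, Nat.totient_prime hq.1]
  have hT2q : 2 * orderOf q ∣ Nat.card T := by
    refine Nat.Coprime.mul_dvd_of_dvd_of_dvd (Nat.coprime_two_left.2 hq.2) ?_
      (Subgroup.orderOf_dvd_natCard T hqT)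
    have hzT : u * u ∈ T :=
      mem_centralizer_of_commute (h.commute_of_sq_eq_one (sq_sq_of_orderOf_four hp.1) q)
    have := Subgroup.orderOf_dvd_natCard T hzT
    rwa [orderOf_eq_prime (by rw [pow_two]; exact sq_sq_of_orderOf_four hp.1) hp.ne_one.1] at this
  rw [hNT] at hcnt
  set U := (conjUnion S).ncard
  set w := Nat.card φ.range
  set t := Nat.card T
  set s := S.ncard
  set n := Nat.card G
  have ht0 : 0 < t := Nat.card_pos
  have hn0 : 0 < n := Nat.card_pos
  have ht : 2 * orderOf q ≤ t := Nat.le_of_dvd ht0 hT2q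
  have hq3 : 3 ≤ orderOf q := by
    obtain ⟨c, hc⟩ := hq.2
    have := hq.1.two_le
    omega
  have hw : w ∈ Nat.divisors 4 := Nat.mem_divisors.2 ⟨hw4, by norm_num⟩
  rw [show Nat.divisors 4 = {1, 2, 4} from rfl] at hw
  simp only [Finset.mem_insert, Finset.mem_singleton] at hw
  rcases hw with e1 | e1 | e1
  · rw [e1, mul_one] at hcnt
    left
    refine Nat.le_of_mul_le_mul_right ?_ ht0
    calc n * t ≤ n * (3 * s) := Nat.mul_le_mul_left n (by omega)
      _ = 3 * U * t := by rw [mul_assoc 3, hcnt]; ring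
  · rw [e1] at hcnt
    left
    refine Nat.le_of_mul_le_mul_right ?_ (show 0 < t * 2 by omega)
    calc n * (t * 2) ≤ n * (3 * s) := Nat.mul_le_mul_left n (by omega)
      _ = 3 * U * (t * 2) := by rw [mul_assoc 3, hcnt]; ring
  · rw [e1] at hcnt hwp
    have h5 : 5 ≤ orderOf q := by
      have := Nat.le_of_dvd (by omega) hwp
      omega
    right
    constructor
    · refine Nat.le_of_mul_le_mul_right ?_ (show 0 < t * 4 by omega)
      calc n * (t * 4) ≤ n * (5 * s) := Nat.mul_le_mul_left n (by omega)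
        _ = 5 * U * (t * 4) := by rw [mul_assoc 5, hcnt]; ring
    · refine Nat.lt_of_mul_lt_mul_right (a := t) ?_
      calc 4 * U * t = n * s := by rw [← hcnt]; ring
        _ < n * t := Nat.mul_lt_mul_of_pos_left (by omega) hn0

theorem card_eq_covSet :
    (covSet y).ncard + (outerSet y).ncard + 2 = Nat.card (nrm y) := by
  have huM : u ∈ nrm y := centralizer_le_nrm y (mem_centralizer_of_commute hu.symm)
  have hne : ∀ x : G, 4 ∣ orderOf x → x * x ≠ 1 := fun x h4 e1 => by
    have := Nat.le_of_dvd (by norm_num)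
      (h4.trans (orderOf_dvd_of_pow_eq_one (n := 2) (by rw [pow_two, e1])))
    omega
  have e1 : (nrm y : Set G) = (covSet y ∪ outerSet y) ∪ {1, u * u} := by
    ext x
    constructor
    · intro hx
      by_cases hx2 : x * x = 1
      · exact Or.inr (h.eq_one_or_sq hp.1 hx2)
      · by_cases hI : 4 ∣ orderOf x → Commute (upart x) y
        · exact Or.inl (Or.inl ⟨hx, hx2, hI⟩)
        · exact Or.inl (Or.inr ⟨hx, Classical.not_imp.1 hI⟩)
    · rintro ((⟨hx, -⟩ | ⟨hx, -⟩) | (rfl | rfl))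
      · exact hx
      · exact hx
      · exact one_mem _
      · exact mul_mem huM huM
  have e2 : Nat.card (nrm y) = (nrm y : Set G).ncard := Nat.card_coe_set_eq _
  rw [e2, e1, Set.ncard_union_eq, Set.ncard_union_eq, Set.ncard_pair (Ne.symm hp.ne_one.1)]
  · rw [Set.disjoint_left]; rintro x ⟨-, -, hI⟩ ⟨-, h4, hn⟩; exact hn (hI h4)
  · rw [Set.disjoint_left]
    rintro x (⟨-, hx2, -⟩ | ⟨-, h4, -⟩) (rfl | rfl)
    · exact hx2 (mul_one 1)
    · exact hx2 (sq_sq_of_orderOf_four hp.1)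
    · exact hne _ h4 (mul_one 1)
    · exact hne _ h4 (sq_sq_of_orderOf_four hp.1)

theorem card_eq_freeSet :
    (conjUnion (covSet y)).ncard + (freeSet y).ncard + 2 = Nat.card G := by
  have hUx : ∀ x ∈ conjUnion (covSet y), x * x ≠ 1 := by
    rintro x ⟨g, -, hg2, -⟩ e1
    apply hg2
    rw [show g⁻¹ * x * g * (g⁻¹ * x * g) = g⁻¹ * (x * x) * g by group, e1, mul_one, inv_mul_cancel]
  have e1 : (Set.univ : Set G) = (conjUnion (covSet y) ∪ freeSet y) ∪ {1, u * u} := by
    ext x
    simp only [Set.mem_univ, true_iff]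
    by_cases hx2 : x * x = 1
    · exact Or.inr (h.eq_one_or_sq hp.1 hx2)
    · by_cases hU : x ∈ conjUnion (covSet y)
      · exact Or.inl (Or.inl hU)
      · exact Or.inl (Or.inr ⟨hx2, hU⟩)
  rw [← Set.ncard_univ, e1, Set.ncard_union_eq, Set.ncard_union_eq,
    Set.ncard_pair (Ne.symm hp.ne_one.1)]
  · rw [Set.disjoint_left]; rintro x hx ⟨-, hx'⟩; exact hx' hx
  · rw [Set.disjoint_left]
    rintro x (hx | ⟨hx, -⟩) (rfl | rfl)
    · exact hUx _ hx (mul_one 1)
    · exact hUx _ hx (sq_sq_of_orderOf_four hp.1)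
    · exact hx (mul_one 1)
    · exact hx (sq_sq_of_orderOf_four hp.1)

/-- No element of odd prime order centralises a quaternion pair. -/
theorem no_pair_centralizes : False := by
  have hN : ∀ g ∈ nrm y, ∀ x ∈ covSet y, g * x * g⁻¹ ∈ covSet y := by
    rintro g hg x ⟨hxM, hx2, hxI⟩
    refine ⟨mul_mem (mul_mem hg hxM) (inv_mem hg), conj_mul_self_ne_one hx2, fun h4 => ?_⟩
    rw [upart_conj]
    exact commute_conj_nrm hg (hxI (by rwa [orderOf_conj] at h4))
  have hUcard := ncard_conjUnion hN (fun x hx g hg => covSet_tI h IH hy hyo hp hu hv hx hg)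
  have hMcard := card_eq_covSet h IH hy hyo hp hu hv
  have hGcard := card_eq_freeSet h IH hy hyo hp hu hv
  have hMG : Nat.card (nrm y) < Nat.card G := by
    rcases lt_or_eq_of_le (Subgroup.card_le_card_group (nrm y)) with h1 | h1
    · exact h1
    · exact absurd (Subgroup.eq_top_of_card_eq _ h1)
        (h.nrm_ne_top (mul_self_ne_one_of_prime hy hyo))
  have h24 : 24 ≤ Nat.card (nrm y) := by
    obtain ⟨-, -, h8d⟩ := h.outer_facts hy hp hu hv
    have hd : 8 * orderOf y ∣ Nat.card (nrm y) := by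
      refine Nat.Coprime.mul_dvd_of_dvd_of_dvd ?_ h8d
        (Subgroup.orderOf_dvd_natCard _ (centralizer_le_nrm y
          (mem_centralizer_of_commute (Commute.refl y))))
      rw [show (8 : ℕ) = 2 ^ 3 from rfl]
      exact (Nat.coprime_two_left.2 hyo).pow_left 3
    have := Nat.le_of_dvd Nat.card_pos hd
    have := hy.two_le
    obtain ⟨c, hc⟩ := hyo
    omega
  have hOut := h.ncard_outerSet hy hp hu hv
  set M := Nat.card (nrm y)
  set n := Nat.card G
  set O := (outerSet y).ncard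
  set R := (freeSet y).ncard with hRdef
  have hR : (R : ℤ) * M = n * (O + 2) - 2 * M := by
    have a1 : ((conjUnion (covSet y)).ncard : ℤ) * M = n * (covSet y).ncard := by exact_mod_cast hUcard
    have a2 : ((covSet y).ncard : ℤ) + O + 2 = M := by exact_mod_cast hMcard
    have a3 : ((conjUnion (covSet y)).ncard : ℤ) + R + 2 = n := by exact_mod_cast hGcard
    linear_combination (M : ℤ) * a3 - a1 - (n : ℤ) * a2
  have hMn : (M : ℤ) < n := by exact_mod_cast hMG
  have h24' : (24 : ℤ) ≤ M := by exact_mod_cast h24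
  have hn0 : (0 : ℤ) ≤ n := by positivity
  have hO0 : (0 : ℤ) ≤ O := by positivity
  have hsmall : 3 * R < n := by
    have : (3 * R : ℤ) < n := by
      refine lt_of_mul_lt_mul_right ?_ (show (0 : ℤ) ≤ M by omega)
      rcases hOut with hO | hO
      · rw [hO] at hR; push_cast at hR; nlinarith only [hR, h24', hMn, hn0]
      · have hO' : 4 * (O : ℤ) = M := by exact_mod_cast hO
        nlinarith only [hR, h24', hO', hMn, hn0]
    exact_mod_cast this
  obtain ⟨x, hx⟩ : (freeSet y).Nonempty := by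
    rw [Set.nonempty_iff_ne_empty]
    intro he
    have : R = 0 := by rw [hRdef, he, Set.ncard_empty]
    rw [this] at hR
    push_cast at hR
    nlinarith only [hR, hMn, hn0, mul_nonneg hn0 hO0]
  have hle : (classSet x).ncard ≤ R :=
    Set.ncard_le_ncard (classSet_subset h IH hy hyo hp hu hv hx) (Set.toFinite _)
  rcases ncard_classSet h IH hy hyo hp hu hv hx with h3 | ⟨h5, h4⟩
  · omega
  have hbig : n < 4 * R := by
    have : (n : ℤ) < 4 * R := by
      rcases hOut with hO | hO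
      · exfalso
        rw [hO] at hR
        push_cast at hR
        have h5R : (n : ℤ) ≤ 5 * R := by exact_mod_cast (show n ≤ 5 * R by omega)
        nlinarith only [hR, h24', h5R, hn0, hMn]
      · have hO' : 4 * (O : ℤ) = M := by exact_mod_cast hO
        refine lt_of_mul_lt_mul_right ?_ (show (0 : ℤ) ≤ M by omega)
        nlinarith only [hR, h24', hO', hMn]
    exact_mod_cast this
  obtain ⟨x', hx', hn'⟩ : ∃ x' ∈ freeSet y, x' ∉ classSet x := by
    by_contra hall
    push_neg at hall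
    have := Set.ncard_le_ncard (fun a ha => hall a ha : freeSet y ⊆ classSet x) (Set.toFinite _)
    omega
  have hsum : (classSet x).ncard + (classSet x').ncard ≤ R := by
    rw [← Set.ncard_union_eq (classSet_disjoint h IH hy hyo hp hu hv hx hx' hn')]
    exact Set.ncard_le_ncard (Set.union_subset (classSet_subset h IH hy hyo hp hu hv hx)
      (classSet_subset h IH hy hyo hp hu hv hx')) (Set.toFinite _)
  rcases ncard_classSet h IH hy hyo hp hu hv hx' with h3' | ⟨h5', -⟩ <;> omega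

end PerfectFpf

end CfsgLib.Frobenius.Zass
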