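import Mathlib
import Cfsg.Agent.Frobenius.Zassenhaus.Exotic

/-! # The centralisers of noncentral elements are cyclic

Here `G` is perfect fixed-point-free and every proper subgroup maps to `Perm (Fin 5)` with a
Z-group as kernel.
-/

set_option autoImplicit false

namespace CfsgLib.Frobenius.Zass

open CfsgLib.Frobenius

/-- A Z-group in which all elements of prime order are central is commutative. -/
theorem commute_of_prime_central {H : Type*} [Group H] [Finite H] [IsZGroup H]
    (hc : ∀ q : H, (orderOf q).Prime → ∀ g : H, Commute g q) (a b : H) : Commute a b := by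
  obtain ⟨x, y, r, hr1, -, hr, -, hxy, -, htop⟩ := exists_metacyclic_gens H
  by_cases hy : orderOf y = 1
  · rw [orderOf_eq_one_iff.1 hy, Subgroup.zpowers_one_eq_bot, sup_bot_eq] at htop
    obtain ⟨i, rfl⟩ : a ∈ Subgroup.zpowers x := by rw [htop]; trivial
    obtain ⟨l, rfl⟩ : b ∈ Subgroup.zpowers x := by rw [htop]; trivial
    exact ((Commute.refl x).zpow_left i).zpow_right l
  · exfalso
    obtain ⟨p, hp, hpd⟩ := Nat.exists_prime_and_dvd hy
    have hqo : orderOf (y ^ (orderOf y / p)) = p := orderOf_pow_orderOf_div (orderOf_pos y).ne' hpd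
    set q := y ^ (orderOf y / p) with hq
    have h1 : x⁻¹ * q * x = q := by
      rw [mul_assoc, ← (hc q (hqo ▸ hp) x).eq, inv_mul_cancel_left]
    have h2 : x⁻¹ * q * x = q ^ r := by
      rw [hq, conjInv_pow, hxy, ← pow_mul, ← pow_mul, mul_comm]
    have h3 : q ^ (r - 1) = 1 := by
      have : q ^ (r - 1) * q = 1 * q := by
        rw [← pow_succ, one_mul, show r - 1 + 1 = r by omega, ← h2, h1]
      exact mul_right_cancel this
    have h4 : p ∣ r - 1 := hqo ▸ orderOf_dvd_of_pow_eq_one h3
    exact hp.one_lt.ne' (Nat.dvd_one.1 (hr ▸ Nat.dvd_gcd h4 hpd))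

theorem mem_of_coprime_pows {H : Type*} [Group H] (K : Subgroup H) {a : H} {m n : ℕ}
    (hmn : m.Coprime n) (hm : a ^ m ∈ K) (hn : a ^ n ∈ K) : a ∈ K := by
  have h1 : a = (a ^ m) ^ (Nat.gcdA m n) * (a ^ n) ^ (Nat.gcdB m n) := by
    rw [← zpow_natCast a m, ← zpow_natCast a n, ← zpow_mul, ← zpow_mul, ← zpow_add,
      ← Nat.gcd_eq_gcd_ab, hmn.gcd_eq_one, Nat.cast_one, zpow_one]
  rw [h1]
  exact mul_mem (zpow_mem hm _) (zpow_mem hn _)

theorem commute_of_coprime_pows {H : Type*} [Group H] {a y : H} {m n : ℕ} (hmn : m.Coprime n)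
    (hm : Commute (a ^ m) y) (hn : Commute (a ^ n) y) : Commute a y :=
  Subgroup.mem_centralizer_singleton_iff.1 (mem_of_coprime_pows _ hmn
    (Subgroup.mem_centralizer_singleton_iff.2 hm) (Subgroup.mem_centralizer_singleton_iff.2 hn))

/-- The endomorphism of the quaternion group given by the images of two generators. -/
def q8Map (p q : QuaternionGroup 2) : QuaternionGroup 2 → QuaternionGroup 2
  | .a i => p ^ i.val
  | .xa i => q * p ^ i.val

theorem q8_automorphism_order : ∀ p q : QuaternionGroup 2, p * p ≠ 1 → q * q ≠ 1 → p * q ≠ q * p →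
    (q8Map p q)^[12] (.a 1) = .a 1 ∧ (q8Map p q)^[12] (.xa 0) = .xa 0 := by
  decide +kernel

variable {G : Type*} [Group G] [Finite G]

namespace PerfectFpf

variable (h : PerfectFpf G) (IH : ∀ K : Subgroup G, K ≠ ⊤ → HasFiveMap K)

include h IH

theorem no_pair {y a b : G} (hy : (orderOf y).Prime) (hyo : Odd (orderOf y)) (hp : IsQPair a b) :
    ¬ (Commute y a ∧ Commute y b) :=
  fun hc => h.no_pair_centralizes IH hy hyo hp hc.1 hc.2

theorem isClean_of_prime {y : G} (hy : (orderOf y).Prime) (hyo : Odd (orderOf y)) : IsClean y :=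
  ⟨⟨hy, hyo, fun _ _ hp => h.no_pair IH hy hyo hp⟩,
    fun _ _ hr hro => ⟨hr, hro, fun _ _ hp => h.no_pair IH hr hro hp⟩⟩

/-- An element commuting with `u` of order 4 commutes with the odd prime elements commuting
with `u`. -/
theorem commute_of_commute_four {u y t : G} (hu4 : orderOf u = 4) (hy : (orderOf y).Prime)
    (hyo : Odd (orderOf y)) (hu : Commute y u) (ht : Commute t u) : Commute t y := by
  have htM : t ∈ nrm y := h.centralizer_four_le hu4 hy hu (mem_centralizer_of_commute ht)
  have huM : u ∈ nrm y := centralizer_le_nrm y (mem_centralizer_of_commute hu.symm)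
  obtain ⟨e, b, hb, hfac⟩ := Nat.exists_eq_pow_mul_and_not_dvd (orderOf_pos t).ne' 2 (by norm_num)
  have hbo : Odd b := Nat.odd_iff.2 (Nat.two_dvd_ne_zero.1 hb)
  refine commute_of_coprime_pows ((Nat.coprime_two_left.2 hbo).pow_left e) ?_ ?_
  · refine h.commute_odd (h.isClean_of_prime IH hy hyo) (pow_mem htM _)
      (centralizer_le_nrm y (mem_centralizer_of_commute (Commute.refl y))) ?_ hyo
    rw [orderOf_pow' _ (by positivity), hfac, Nat.gcd_mul_right_left,
      Nat.mul_div_cancel_left _ (by positivity)]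
    exact hbo
  obtain ⟨j, F, hF, hFu, hFM, hconjF⟩ := h.exists_frame hu4 hy hu
  set h₀ : ZMod (2 * 2 ^ (j + 1)) := ((2 ^ j : ℕ) : ZMod (2 * 2 ^ (j + 1))) with hh₀
  have hn2 : ((2 ^ (j + 1) : ℕ) : ZMod (2 * 2 ^ (j + 1))) = 2 * h₀ := by
    rw [hh₀]; push_cast; ring
  have hnn : ((2 ^ (j + 1) : ℕ) : ZMod (2 * 2 ^ (j + 1))) + (2 ^ (j + 1) : ℕ) = 0 := by
    rw [← Nat.cast_add, CharP.cast_eq_zero_iff (ZMod (2 * 2 ^ (j + 1))) (2 * 2 ^ (j + 1))]
    exact dvd_of_eq (two_mul _)
  have hx4 : ∀ i, orderOf (F (QuaternionGroup.xa i)) = 4 := fun i =>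
    (orderOf_injective F hF _).trans (QuaternionGroup.orderOf_xa i)
  have hrefl : ∀ i, IsQPair u (F (QuaternionGroup.xa i)) := by
    intro i
    refine ⟨hu4, hx4 i, fun hc => ?_, ?_⟩
    · rw [← hFu] at hc
      have e1 := hF (show F (QuaternionGroup.a h₀ * QuaternionGroup.xa i) =
        F (QuaternionGroup.xa i * QuaternionGroup.a h₀) by rw [map_mul, map_mul, hc.eq])
      rw [QuaternionGroup.a_mul_xa, QuaternionGroup.xa_mul_a, QuaternionGroup.xa.injEq] at e1
      have e2 : ((2 ^ (j + 1) : ℕ) : ZMod (2 * 2 ^ (j + 1))) = 0 := by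
        linear_combination hn2 - e1
      have := Nat.le_of_dvd (by positivity)
        ((CharP.cast_eq_zero_iff (ZMod (2 * 2 ^ (j + 1))) (2 * 2 ^ (j + 1)) _).1 e2)
      have : 0 < 2 ^ (j + 1) := by positivity
      omega
    · rw [← hFu, ← map_inv, ← map_mul, ← map_mul, ← map_inv]
      congr 1
      rw [mul_inv_eq_iff_eq_mul, eq_inv_mul_iff_mul_eq, QuaternionGroup.a_mul_xa,
        QuaternionGroup.xa_mul_xa, QuaternionGroup.a.injEq]
      linear_combination hn2
  have hinv : ∀ i, F (QuaternionGroup.xa i) * y * (F (QuaternionGroup.xa i))⁻¹ = y⁻¹ := fun i =>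
    (inverts_or_commute hy (hFM _)
      (h.commute_of_sq_eq_one (sq_sq_of_orderOf_four (hx4 i)) y)).resolve_left
      fun hc => h.no_pair IH hy hyo (hrefl i) ⟨hu, hc.symm⟩
  have hrot : ∀ k, Commute (F (QuaternionGroup.a k)) y := by
    intro k
    have e1 : (QuaternionGroup.a k : QuaternionGroup (2 ^ (j + 1))) =
        QuaternionGroup.xa 0 * QuaternionGroup.xa
          (k - ((2 ^ (j + 1) : ℕ) : ZMod (2 * 2 ^ (j + 1)))) := by
      rw [QuaternionGroup.xa_mul_xa]; congr 1; ring
    rw [e1, map_mul]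
    exact commute_mul_of_inverts (hinv _) (hinv _)
  set t2 := t ^ b
  have hP : IsPGroup 2 (Subgroup.zpowers t2 ⊔ Subgroup.zpowers u : Subgroup G) := by
    refine IsPGroup.to_sup_of_normal_right' ?_
      (IsPGroup.of_card (n := 2) (by rw [Nat.card_zpowers, hu4]; rfl)) ?_
    · refine IsPGroup.of_card (n := e) ?_
      rw [Nat.card_zpowers, orderOf_pow' _ hbo.pos.ne', hfac, Nat.gcd_mul_left_left,
        Nat.mul_div_cancel _ hbo.pos]
    · rw [Subgroup.zpowers_le]
      refine mem_nrm.2 ?_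
      rw [(ht.pow_left b).eq, mul_inv_cancel_right]
      exact Subgroup.mem_zpowers u
  obtain ⟨g, hgM, hg⟩ := hconjF _ hP
    (sup_le (Subgroup.zpowers_le.2 (pow_mem htM _)) (Subgroup.zpowers_le.2 huM))
  obtain ⟨q1, e1⟩ := hg u (Subgroup.mem_sup_right (Subgroup.mem_zpowers u))
  obtain ⟨q2, e2⟩ := hg t2 (Subgroup.mem_sup_left (Subgroup.mem_zpowers t2))
  apply commute_of_commute_conj_nrm hgM
  rw [e2]
  have hA4 : orderOf (F q1) = 4 := by rw [← e1, orderOf_conj, hu4]
  have hAy : Commute (F q1) y := e1 ▸ commute_conj_nrm hgM hu.symm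
  cases q2 with
  | a k => exact hrot k
  | xa k =>
    exfalso
    cases q1 with
    | xa i => exact h.no_pair IH hy hyo (hrefl i) ⟨hu, hAy.symm⟩
    | a i =>
      apply (hrefl k).2.2.1
      have hAu : Commute (F (QuaternionGroup.a i)) u := by
        rw [← hFu]
        exact Commute.map (show Commute (QuaternionGroup.a i) (QuaternionGroup.a h₀) by
          show _ * _ = _ * _
          rw [QuaternionGroup.a_mul_a, QuaternionGroup.a_mul_a, add_comm i h₀]) F
      have hAk : Commute (F (QuaternionGroup.a i)) (F (QuaternionGroup.xa k)) := by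
        rw [← e1, ← e2]
        exact commute_conj (ht.pow_left b).symm
      set A := F (QuaternionGroup.a i)
      rw [show u = (A * u⁻¹)⁻¹ * A by group]
      exact (h.commute_of_sq_eq_one (h.mul_inv_central hA4 hu4 hAu) _).inv_left.mul_left hAk

theorem commute_in_centralizer_four {u a b : G} (hu4 : orderOf u = 4) (ha : Commute a u)
    (hb : Commute b u) : Commute a b := by
  have := h.isZGroup_centralizer_four hu4
  have hc := commute_of_prime_central (H := Subgroup.centralizer ({u} : Set G)) ?_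
    ⟨a, mem_centralizer_of_commute ha⟩ ⟨b, mem_centralizer_of_commute hb⟩
  · exact congrArg Subtype.val hc.eq
  rintro ⟨q, hq⟩ hqp ⟨g, hg⟩
  rw [Subgroup.orderOf_mk] at hqp
  refine Subtype.ext ?_
  show g * q = q * g
  rcases hqp.eq_two_or_odd' with e1 | e1
  · exact (h.commute_of_sq_eq_one
      (by rw [← pow_two, ← e1, pow_orderOf_eq_one]) g).symm.eq
  · exact (h.commute_of_commute_four IH hu4 hqp e1 (commute_of_mem_centralizer hq)
      (commute_of_mem_centralizer hg)).eq

theorem commute_four_of_mem {u q r : G} (hu4 : orderOf u = 4) (hq : (orderOf q).Prime)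
    (hqo : Odd (orderOf q)) (hr : (orderOf r).Prime) (hro : Odd (orderOf r)) (hu : Commute q u)
    (hmem : r ∈ nrm q) : Commute r u := by
  obtain ⟨j, F, hF, hFu, hFM, -⟩ := h.exists_frame hu4 hq hu
  set s := F (QuaternionGroup.xa 0)
  have hs4 : orderOf s = 4 := (orderOf_injective F hF _).trans (QuaternionGroup.orderOf_xa _)
  have hn := h.nrm_eq_of_mem (h.isClean_of_prime IH hq hqo) hr hro hmem
  have huM : u ∈ nrm q := centralizer_le_nrm q (mem_centralizer_of_commute hu.symm)
  have hsM : s ∈ nrm q := hFM _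
  have hus4 : orderOf (u * s) = 4 := by
    rw [← hFu, ← map_mul, orderOf_injective F hF, QuaternionGroup.a_mul_xa,
      QuaternionGroup.orderOf_xa]
  obtain ⟨b, hb4, hbM, hb⟩ : ∃ b, orderOf b = 4 ∧ b ∈ nrm q ∧ Commute b r := by
    rcases inverts_or_commute hr (hn.symm ▸ huM)
      (h.commute_of_sq_eq_one (sq_sq_of_orderOf_four hu4) r) with h1 | h1
    · exact ⟨u, hu4, huM, h1⟩
    rcases inverts_or_commute hr (hn.symm ▸ hsM)
      (h.commute_of_sq_eq_one (sq_sq_of_orderOf_four hs4) r) with h2 | h2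
    · exact ⟨s, hs4, hsM, h2⟩
    exact ⟨u * s, hus4, mul_mem huM hsM, commute_mul_of_inverts h1 h2⟩
  obtain ⟨g, hg⟩ := isConj_iff.1 (h.isConj_of_orderOf_four hu4 hb4)
  have h1 : g * q * g⁻¹ ∈ nrm q := by
    rw [← hn]
    exact h.centralizer_four_le hb4 hr hb.symm
      (mem_centralizer_of_commute (hg ▸ commute_conj hu))
  have hgM : g ∈ nrm r := by
    rw [hn, mem_nrm, ← h.fpf.zpowers_eq_of_mem_nrm hq rfl (orderOf_conj g q) h1]
    exact Subgroup.mem_zpowers _
  exact (commute_of_commute_conj_nrm hgM (hg.symm ▸ hb)).symm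

/-- The centraliser of a noncentral element is commutative. -/
theorem commute_of_commute {x a b : G} (hx : x * x ≠ 1) (ha : Commute a x) (hb : Commute b x) :
    Commute a b := by
  by_cases h4 : 4 ∣ orderOf x
  · exact h.commute_in_centralizer_four IH (orderOf_upart h4) (ha.pow_right _) (hb.pow_right _)
  obtain ⟨k, hk, hko⟩ := exists_prime_power_part h4 hx
  set q := x ^ k
  have hcl := h.isClean_of_prime IH hk hko
  have := IsPlain.isZGroup h.fpf hcl.1
  have hc := commute_of_prime_central (H := Subgroup.centralizer ({q} : Set G)) ?_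
    ⟨a, mem_centralizer_of_commute (ha.pow_right k)⟩ ⟨b, mem_centralizer_of_commute (hb.pow_right k)⟩
  · exact congrArg Subtype.val hc.eq
  rintro ⟨r, hr⟩ hrp ⟨t, ht⟩
  rw [Subgroup.orderOf_mk] at hrp
  refine Subtype.ext ?_
  show t * r = r * t
  have htq : Commute t q := commute_of_mem_centralizer ht
  have hrq : Commute r q := commute_of_mem_centralizer hr
  rcases hrp.eq_two_or_odd' with e1 | e1
  · exact (h.commute_of_sq_eq_one (by rw [← pow_two, ← e1, pow_orderOf_eq_one]) t).symm.eq
  by_cases h4t : 4 ∣ orderOf t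
  · exact (h.commute_in_centralizer_four IH (orderOf_upart h4t) ((Commute.refl t).pow_right _)
      (h.commute_four_of_mem IH (orderOf_upart h4t) hk hko hrp e1 (htq.symm.pow_right _)
        (centralizer_le_nrm q hr))).eq
  obtain ⟨e, c, hc', hfac⟩ := Nat.exists_eq_pow_mul_and_not_dvd (orderOf_pos t).ne' 2 (by norm_num)
  have hco : Odd c := Nat.odd_iff.2 (Nat.two_dvd_ne_zero.1 hc')
  refine (commute_of_coprime_pows ((Nat.coprime_two_left.2 hco).pow_left e) ?_ ?_).eq
  · refine h.commute_odd_centralizer hcl (htq.pow_left _) hrq ?_ e1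
    rw [orderOf_pow' _ (by positivity), hfac, Nat.gcd_mul_right_left,
      Nat.mul_div_cancel_left _ (by positivity)]
    exact hco
  · refine h.commute_of_sq_eq_one ?_ r
    have he : e ≤ 1 := by
      by_contra he
      exact h4t (hfac ▸ (pow_dvd_pow 2 (show 2 ≤ e by omega)).mul_right c)
    rw [← pow_add, ← two_mul, ← orderOf_dvd_iff_pow_eq_one, hfac]
    exact Nat.mul_dvd_mul_right ((pow_dvd_pow 2 he).trans (by simp)) c

theorem isCyclic_centralizer {x : G} (hx : x * x ≠ 1) :
    IsCyclic (Subgroup.centralizer ({x} : Set G)) :=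
  h.fpf.isCyclic_of_comm _ fun _ ha _ hb =>
    (h.commute_of_commute IH hx (commute_of_mem_centralizer ha) (commute_of_mem_centralizer hb)).eq

theorem sq_eq_one_of_commute_pair {u v g : G} (hp : IsQPair u v) (hu : Commute g u)
    (hv : Commute g v) : g * g = 1 :=
  by_contra fun hg => hp.2.2.1 (h.commute_of_commute IH hg hu.symm hv.symm)

omit IH in
/-- A square root of `x` of order 8 moves a partner `w` of `x` to `x * w`. -/
theorem conj_partner {x w t : G} (hp : IsQPair x w) (ht8 : orderOf t = 8) (ht : t * t = x)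
    (hcomm : ∀ a : G, Commute a x → Commute a t) : t * w * t⁻¹ = x * w := by
  have hx4 := hp.1
  have hwx : w * x * w⁻¹ = x⁻¹ := by
    have e1 : x * w = w⁻¹ * x := mul_inv_eq_iff_eq_mul.1 hp.2.2.2
    have e2 : w * x * w⁻¹ = (w * w) * (w⁻¹ * x) * w⁻¹ := by group
    rw [e2, ← e1]
    calc w * w * (x * w) * w⁻¹ = (w * w) * x := by group
      _ = (x * x) * x := by rw [h.sq_eq_sq hp.2.1 hx4]
      _ = x⁻¹ := by
        rw [eq_inv_iff_mul_eq_one, mul_assoc]
        exact sq_sq_of_orderOf_four hx4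
  set t' := w * t * w⁻¹ with ht'
  have htx : Commute t x := ht ▸ (Commute.refl t).mul_right (Commute.refl t)
  have hsq : t' * t' = x⁻¹ := by
    rw [← hwx, ← ht, ht']; group
  have hc : Commute t' x := by
    have h1 := commute_conj (g := w) htx
    rw [hwx] at h1
    exact (Commute.inv_right_iff.1 h1)
  have hc' : Commute t' t := hcomm _ hc
  have h2 : (t' * t) * (t' * t) = 1 := by
    rw [hc'.symm.mul_mul_mul_comm, hsq, ht, inv_mul_cancel]
  rcases h.eq_one_or_sq hx4 h2 with e1 | e1
  · have e3 : t * w * t⁻¹ = t * (w * t * w⁻¹)⁻¹ * w := by group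
    rw [e3, ← ht', inv_eq_of_mul_eq_one_right e1, ← ht]
  · exfalso
    have h3 : (t * w) * (t * w) = 1 := by
      calc (t * w) * (t * w) = t * t' * (w * w) := by rw [ht']; group
        _ = t' * t * (w * w) := by rw [hc'.eq]
        _ = 1 := by rw [e1, h.sq_eq_sq hp.2.1 hx4, sq_sq_of_orderOf_four hx4]
    have h4 := h.commute_of_sq_eq_one h3
    apply hp.2.2.1
    have hwc : Commute w x := by
      rw [show w = t⁻¹ * (t * w) by group]
      exact (htx.inv_left).mul_left (h4 x)
    exact hwc.symm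

theorem three_dvd_of_q8 (S : Sylow 2 G) (e : S ≃* QuaternionGroup 2) : 3 ∣ Nat.card G := by
  let F : QuaternionGroup 2 →* G := (S : Subgroup G).subtype.comp e.symm.toMonoidHom
  have hF : Function.Injective F := (S : Subgroup G).subtype_injective.comp e.symm.injective
  set u := F (QuaternionGroup.a (1 : ZMod 4)) with hudef
  set v := F (QuaternionGroup.xa (0 : ZMod 4)) with hvdef
  have hu4 : orderOf u = 4 :=
    (orderOf_injective F hF _).trans (show orderOf (QuaternionGroup.a (1 : ZMod 4) :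
      QuaternionGroup 2) = 4 from QuaternionGroup.orderOf_a_one)
  have hv4 : orderOf v = 4 :=
    (orderOf_injective F hF _).trans (QuaternionGroup.orderOf_xa (n := 2) _)
  obtain ⟨g, hg⟩ := isConj_iff.1 (h.isConj_of_orderOf_four hu4 hv4)
  -- both `S` and its conjugate are Sylow subgroups of `nrm v`
  have hSv : ∀ q, F q ∈ nrm u ∧ F q ∈ nrm v := by
    intro q
    constructor <;> rw [mem_nrm, ← map_inv, ← map_mul, ← map_mul]
    · have : q * QuaternionGroup.a (1 : ZMod 4) * q⁻¹ = QuaternionGroup.a 1 ∨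
          q * QuaternionGroup.a (1 : ZMod 4) * q⁻¹ = (QuaternionGroup.a 1)⁻¹ := by
        revert q; decide +kernel
      rcases this with e1 | e1 <;> rw [e1]
      · exact Subgroup.mem_zpowers _
      · rw [map_inv]; exact inv_mem (Subgroup.mem_zpowers _)
    · have : q * QuaternionGroup.xa (0 : ZMod 4) * q⁻¹ = QuaternionGroup.xa 0 ∨
          q * QuaternionGroup.xa (0 : ZMod 4) * q⁻¹ = (QuaternionGroup.xa 0)⁻¹ := by
        revert q; decide +kernel
      rcases this with e1 | e1 <;> rw [e1]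
      · exact Subgroup.mem_zpowers _
      · rw [map_inv]; exact inv_mem (Subgroup.mem_zpowers _)
  have hSle : (S : Subgroup G) ≤ nrm v := fun x hx => by
    have := (hSv (e ⟨x, hx⟩)).2
    simpa [F] using this
  have hgSle : ((g • S : Sylow 2 G) : Subgroup G) ≤ nrm v := fun x hx => by
    rw [Sylow.smul_def, Sylow.pointwise_smul_def] at hx
    obtain ⟨x', hx', rfl⟩ := hx
    show g * x' * g⁻¹ ∈ nrm v
    have h1 := (hSv (e ⟨x', hx'⟩)).1
    have h2 : x' ∈ nrm u := by simpa [F] using h1
    rw [mem_nrm, ← hg]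
    obtain ⟨i, hi⟩ := mem_nrm.1 h2
    refine ⟨i, ?_⟩
    simp only at hi
    show (g * u * g⁻¹) ^ i = _
    rw [conj_zpow, hi]; group
  obtain ⟨k, hk⟩ := MulAction.exists_smul_eq (nrm v) ((g • S).subtype hgSle) (S.subtype hSle)
  set n := (k : G) * g with hn
  have hnS : n • S = S := by
    rw [hn, mul_smul]
    refine Sylow.subtype_injective (N := nrm v) (hP := ?_) (hQ := hSle) ?_
    · intro x hx
      rw [Sylow.smul_def, Sylow.pointwise_smul_def] at hx
      obtain ⟨x', hx', rfl⟩ := hx
      exact mul_mem (mul_mem k.2 (hgSle hx')) (inv_mem k.2)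
    · exact (Sylow.smul_subtype hgSle k).symm.trans hk
  have hnu : n * u * n⁻¹ ∈ Subgroup.zpowers v := by
    rw [hn, show (k : G) * g * u * ((k : G) * g)⁻¹ = (k : G) * (g * u * g⁻¹) * (k : G)⁻¹ by group, hg]
    exact mem_nrm.1 k.2
  have hnN : n ∈ Subgroup.normalizer ((S : Subgroup G) : Set G) :=
    Sylow.smul_eq_iff_mem_normalizer.1 hnS
  have hFS : ∀ q, F q ∈ (S : Subgroup G) := fun q => (e.symm q).2
  -- the odd part of `n` does not centralise `S`
  obtain ⟨a, b, hb, hfac⟩ := Nat.exists_eq_pow_mul_and_not_dvd (orderOf_pos n).ne' 2 (by norm_num)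
  have hbo : Odd b := Nat.odd_iff.2 (Nat.two_dvd_ne_zero.1 hb)
  set w := n ^ (2 ^ a)
  have hwo : orderOf w = b := by
    rw [orderOf_pow' _ (by positivity), hfac, Nat.gcd_mul_right_left,
      Nat.mul_div_cancel_left _ (by positivity)]
  have hwN : w ∈ Subgroup.normalizer ((S : Subgroup G) : Set G) := pow_mem hnN _
  have hw : ¬ (Commute w u ∧ Commute w v) := by
    rintro ⟨c1, c2⟩
    have hP : IsPGroup 2 (Subgroup.zpowers (n ^ b)) := by
      refine IsPGroup.of_card (n := a) ?_
      rw [Nat.card_zpowers, orderOf_pow' _ hbo.pos.ne', hfac, Nat.gcd_mul_left_left,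
        Nat.mul_div_cancel _ hbo.pos]
    have hmS : n ^ b ∈ (S : Subgroup G) :=
      S.is_maximal' (hP.to_sup_of_normal_right' S.2
        (Subgroup.zpowers_le.2 (pow_mem hnN b))) le_sup_right ▸
        Subgroup.mem_sup_left (Subgroup.mem_zpowers _)
    have h1 : n ^ b ∈ nrm u := by
      have := (hSv (e ⟨_, hmS⟩)).1
      simpa [F] using this
    have h2 : n ∈ nrm u := by
      have hco : Nat.Coprime (2 ^ a) b := (Nat.coprime_two_left.2 hbo).pow_left a
      have hw' : w ∈ nrm u := centralizer_le_nrm u (mem_centralizer_of_commute c1)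
      exact mem_of_coprime_pows (nrm u) hco hw' h1
    obtain ⟨i, hi⟩ := mem_nrm.1 h2
    obtain ⟨l, hl⟩ := hnu
    simp only at hi hl
    have hc : Commute (n * u * n⁻¹) v := by rw [← hl]; exact (Commute.refl v).zpow_left l
    have hord : orderOf (n * u * n⁻¹) = 4 := by rw [orderOf_conj, hu4]
    have hcu : Commute (n * u * n⁻¹) u := by rw [← hi]; exact (Commute.refl u).zpow_left i
    have := h.commute_in_centralizer_four IH hord hcu.symm hc.symm
    rw [hudef, hvdef] at this
    have e4 : F (QuaternionGroup.a (1 : ZMod 4) * QuaternionGroup.xa 0) =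
        F (QuaternionGroup.xa 0 * QuaternionGroup.a 1) := by
      rw [map_mul, map_mul]; exact this.eq
    exact absurd (hF e4) (by decide)
  -- conjugation by `w` on `S`
  let φ : QuaternionGroup 2 → QuaternionGroup 2 := fun q =>
    e ⟨w * F q * w⁻¹, (Subgroup.mem_normalizer_iff.1 hwN _).1 (hFS q)⟩
  have hφ : ∀ q, F (φ q) = w * F q * w⁻¹ := fun q => by simp [φ, F]
  have hφmul : ∀ q q', φ (q * q') = φ q * φ q' := fun q q' => hF (by
    rw [map_mul, hφ, hφ, hφ, map_mul]; group)
  have hφinj : Function.Injective φ := fun q q' e1 => hF (by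
    have := congrArg F e1
    rw [hφ, hφ] at this
    exact mul_left_cancel (mul_right_cancel this))
  have hφ1 : φ 1 = 1 := hF (by rw [hφ, map_one, mul_one, mul_inv_cancel])
  set p := φ (QuaternionGroup.a (1 : ZMod 4))
  set r := φ (QuaternionGroup.xa (0 : ZMod 4))
  have hnot : ∀ q, q * q ≠ 1 → φ q * φ q ≠ 1 := fun q hq e1 =>
    hq (hφinj (by rw [hφmul, e1, hφ1]))
  have hM : φ = q8Map p r := by
    have hpow : ∀ (q : QuaternionGroup 2) (l : ℕ), φ (q ^ l) = φ q ^ l := by
      intro q l
      induction l with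
      | zero => rw [pow_zero, pow_zero, hφ1]
      | succ l ih => rw [pow_succ q l, pow_succ (φ q) l, hφmul, ih]
    funext x
    cases x with
    | a i =>
      show φ (QuaternionGroup.a i) = p ^ i.val
      rw [← hpow, QuaternionGroup.a_one_pow, ZMod.natCast_zmod_val]
    | xa i =>
      show φ (QuaternionGroup.xa i) = r * p ^ i.val
      rw [← hpow, ← hφmul, QuaternionGroup.a_one_pow, ZMod.natCast_zmod_val,
        QuaternionGroup.xa_mul_a, zero_add]
  have h12 := q8_automorphism_order p r (hnot _ (by decide)) (hnot _ (by decide))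
    (fun e1 => absurd (hφinj (by rw [hφmul, hφmul]; exact e1) :
      (QuaternionGroup.a (1 : ZMod 4) : QuaternionGroup 2) * QuaternionGroup.xa 0 =
        QuaternionGroup.xa 0 * QuaternionGroup.a 1) (by decide))
  have hiter : ∀ (l : ℕ) q, F (φ^[l] q) = w ^ l * F q * (w ^ l)⁻¹ := by
    intro l
    induction l with
    | zero => intro q; simp
    | succ l ih => intro q; rw [Function.iterate_succ_apply', hφ, ih, pow_succ' w l]; group
  rw [hM] at hiter
  have c1 : Commute (w ^ 12) u := by
    have := hiter 12 (QuaternionGroup.a (1 : ZMod 4))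
    rw [h12.1] at this
    exact mul_inv_eq_iff_eq_mul.1 this.symm
  have c2 : Commute (w ^ 12) v := by
    have := hiter 12 (QuaternionGroup.xa (0 : ZMod 4))
    rw [h12.2] at this
    exact mul_inv_eq_iff_eq_mul.1 this.symm
  have hp : IsQPair u v := by
    refine ⟨hu4, hv4, fun hc => ?_, ?_⟩
    · have e4 : F (QuaternionGroup.a (1 : ZMod 4) * QuaternionGroup.xa 0) =
          F (QuaternionGroup.xa 0 * QuaternionGroup.a 1) := by
        rw [map_mul, map_mul]; exact hc.eq
      exact absurd (hF e4) (by decide)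
    · rw [hudef, hvdef, ← map_inv, ← map_mul, ← map_mul, ← map_inv]
      exact congrArg F (by decide)
  have h24 : orderOf w ∣ 8 * 3 := by
    apply orderOf_dvd_of_pow_eq_one
    rw [show 8 * 3 = 12 * 2 from rfl, pow_mul, pow_two]
    exact h.sq_eq_one_of_commute_pair IH hp c1 c2
  rw [hwo] at h24
  have hb3 : b ∣ 3 := ((Nat.coprime_two_left.2 hbo).pow_left 3).symm.dvd_of_dvd_mul_left h24
  rcases (Nat.dvd_prime Nat.prime_three).1 hb3 with e1 | e1
  · exfalso
    apply hw
    have : w = 1 := orderOf_eq_one_iff.1 (hwo.trans e1)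
    rw [this]; exact ⟨Commute.one_left _, Commute.one_left _⟩
  · exact e1 ▸ hwo ▸ orderOf_dvd_natCard w

/-- The order of `G` is divisible by 3. -/
theorem exists_order_three : ∃ y : G, orderOf y = 3 := by
  have := Fact.mk (Nat.prime_three)
  suffices h3 : 3 ∣ Nat.card G from exists_prime_orderOf_dvd_card' 3 h3
  let S : Sylow 2 G := default
  obtain ⟨m, hm, ⟨e⟩⟩ := h.exists_quaternion S
  let F : QuaternionGroup (2 ^ m) →* G := (S : Subgroup G).subtype.comp e.symm.toMonoidHom
  have hF : Function.Injective F := (S : Subgroup G).subtype_injective.comp e.symm.injective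
  by_cases h8 : ∃ t : G, orderOf t = 8
  · obtain ⟨t₀, ht₀⟩ := h8
    have ht₀4 : orderOf (t₀ * t₀) = 4 := by rw [← pow_two, orderOf_pow' _ two_ne_zero, ht₀]; rfl
    have hroot : ∀ x w : G, IsQPair x w → ∃ t, t * x * t⁻¹ = x ∧ t * w * t⁻¹ = x * w := by
      intro x w hp
      obtain ⟨g, hg⟩ := isConj_iff.1 (h.isConj_of_orderOf_four ht₀4 hp.1)
      have ht : g * t₀ * g⁻¹ * (g * t₀ * g⁻¹) = x := by rw [← hg]; group
      refine ⟨g * t₀ * g⁻¹, ?_, h.conj_partner hp (by rw [orderOf_conj, ht₀]) ht fun a ha =>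
        h.commute_in_centralizer_four IH hp.1 ha ?_⟩
      · rw [← ht]; group
      · rw [← ht]; exact (Commute.refl _).mul_right (Commute.refl _)
    have hne : (2 ^ m : ℕ) ≠ 0 := by positivity
    obtain ⟨j, rfl⟩ : ∃ j, m = j + 1 := ⟨m - 1, by omega⟩
    have hq4 : orderOf (QuaternionGroup.a ((2 ^ j : ℕ) : ZMod (2 * 2 ^ (j + 1))) :
        QuaternionGroup (2 ^ (j + 1))) = 4 := by
      rw [← QuaternionGroup.a_one_pow, orderOf_pow' _ (by positivity),
        QuaternionGroup.orderOf_a_one, show 2 * 2 ^ (j + 1) = 2 ^ j * 4 by ring,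
        Nat.gcd_mul_right_left, Nat.mul_div_cancel_left _ (by positivity)]
    set u := F (QuaternionGroup.a ((2 ^ j : ℕ) : ZMod (2 * 2 ^ (j + 1)))) with hudef
    set v := F (QuaternionGroup.xa 0) with hvdef
    have hu4 : orderOf u = 4 := (orderOf_injective F hF _).trans hq4
    have hv4 : orderOf v = 4 := (orderOf_injective F hF _).trans (QuaternionGroup.orderOf_xa _)
    have hn2 : ((2 ^ (j + 1) : ℕ) : ZMod (2 * 2 ^ (j + 1))) = 2 * ((2 ^ j : ℕ) : ZMod _) := by
      push_cast; ring
    have hrel : u * v * u⁻¹ = v⁻¹ ∧ v * u * v⁻¹ = u⁻¹ := by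
      simp only [hudef, hvdef, ← map_inv, ← map_mul]
      refine ⟨congrArg F ?_, congrArg F ?_⟩
      · rw [mul_inv_eq_iff_eq_mul, eq_inv_mul_iff_mul_eq, QuaternionGroup.a_mul_xa,
          QuaternionGroup.xa_mul_xa, QuaternionGroup.a.injEq]
        linear_combination hn2
      · rw [mul_inv_eq_iff_eq_mul, eq_inv_mul_iff_mul_eq, QuaternionGroup.xa_mul_a,
          QuaternionGroup.a_mul_xa, QuaternionGroup.xa.injEq]
        ring
    have hnc : ¬ Commute u v := fun hc => by
      have h1 := hrel.1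
      rw [hc.eq, mul_inv_cancel_right, eq_inv_iff_mul_eq_one] at h1
      exact mul_self_ne_one_of_orderOf_four hv4 h1
    have hpuv : IsQPair u v := ⟨hu4, hv4, hnc, hrel.1⟩
    have hpvu : IsQPair v u := ⟨hv4, hu4, fun hc => hnc hc.symm, hrel.2⟩
    obtain ⟨t, htu, htv⟩ := hroot u v hpuv
    obtain ⟨s, hsv, hsu⟩ := hroot v u hpvu
    set g := t * s
    have huvu : u * v * u = v := by
      calc u * v * u = (u * v * u⁻¹) * (u * u) := by group
        _ = v⁻¹ * (v * v) := by rw [hrel.1, h.sq_eq_sq hu4 hv4]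
        _ = v := by group
    have hvuv : v * u * v = u := by
      calc v * u * v = (v * u * v⁻¹) * (v * v) := by group
        _ = u⁻¹ * (u * u) := by rw [hrel.2, h.sq_eq_sq hu4 hv4]
        _ = u := by group
    have g1 : g * u * g⁻¹ = v := by
      calc g * u * g⁻¹ = t * (s * u * s⁻¹) * t⁻¹ := by simp only [g]; group
        _ = (t * v * t⁻¹) * (t * u * t⁻¹) := by rw [hsu]; group
        _ = v := by rw [htv, htu, huvu]
    have g2 : g * v * g⁻¹ = u * v := by
      calc g * v * g⁻¹ = t * (s * v * s⁻¹) * t⁻¹ := by simp only [g]; group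
        _ = u * v := by rw [hsv, htv]
    have g3 : g * (u * v) * g⁻¹ = u := by
      calc g * (u * v) * g⁻¹ = (g * u * g⁻¹) * (g * v * g⁻¹) := by group
        _ = u := by rw [g1, g2, ← mul_assoc, hvuv]
    have c1 : Commute (g ^ 3) u := by
      refine mul_inv_eq_iff_eq_mul.1 ?_
      calc g ^ 3 * u * (g ^ 3)⁻¹ = g * (g * (g * u * g⁻¹) * g⁻¹) * g⁻¹ := by
            simp only [pow_succ, pow_zero, one_mul]; group
        _ = u := by rw [g1, g2, g3]
    have c2 : Commute (g ^ 3) v := by
      refine mul_inv_eq_iff_eq_mul.1 ?_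
      calc g ^ 3 * v * (g ^ 3)⁻¹ = g * (g * (g * v * g⁻¹) * g⁻¹) * g⁻¹ := by
            simp only [pow_succ, pow_zero, one_mul]; group
        _ = v := by rw [g2, g3, g1]
    have h6 : orderOf g ∣ 2 * 3 := by
      apply orderOf_dvd_of_pow_eq_one
      rw [mul_comm, pow_mul, pow_two]
      exact h.sq_eq_one_of_commute_pair IH hpuv c1 c2
    by_contra h3
    have hco : Nat.Coprime (orderOf g) 3 :=
      (Nat.prime_three.coprime_iff_not_dvd.2 fun hd => h3 (hd.trans (orderOf_dvd_natCard g))).symm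
    have h2 : g * g = 1 := by
      rw [← pow_two, ← orderOf_dvd_iff_pow_eq_one]
      exact hco.dvd_of_dvd_mul_right h6
    apply hnc
    have h5 := (h.commute_of_sq_eq_one h2 u).eq
    rw [h5, mul_inv_cancel_right] at g1
    exact g1 ▸ Commute.refl u
  · push_neg at h8
    have hm1 : m = 1 := by
      by_contra hne
      have hmm : 2 * 2 ^ m = 2 ^ (m - 2) * 8 := by
        rw [show (8 : ℕ) = 2 ^ 3 from rfl, ← pow_add, ← pow_succ']
        congr 1; omega
      refine h8 (F (QuaternionGroup.a 1 ^ 2 ^ (m - 2))) ?_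
      rw [orderOf_injective F hF, orderOf_pow' _ (by positivity), QuaternionGroup.orderOf_a_one,
        hmm, Nat.gcd_mul_right_left, Nat.mul_div_cancel_left _ (by positivity)]
    subst hm1
    exact h.three_dvd_of_q8 IH S e

end PerfectFpf

end CfsgLib.Frobenius.Zass
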