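import Mathlib
import Cfsg.Agent.Frobenius.Zassenhaus.CA
import Cfsg.Agent.Chars.Basic.Orthogonality

/-! # Characters of a fixed-point-free representation on cyclic subgroups -/

set_option autoImplicit false

namespace CfsgLib.Frobenius.Zass

open CfsgLib.Frobenius Cfsg
open scoped ComplexConjugate

/-- An irreducible character all of whose averages over nontrivial subgroups vanish. -/
structure IsFpfChar {G : Type*} [Group G] [Fintype G] (χ : G → ℂ) (d : ℕ) : Prop where
  irr : IsIrrCharacter G χ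
  deg : χ 1 = d
  pos : 0 < d
  sum_zero : ∀ (H : Subgroup G) [Fintype H], H ≠ ⊥ → ∑ x : H, χ x = 0

theorem rep_sum_character_eq_zero {G : Type*} [Group G] {n : ℕ}
    (ρ : Representation ℂ G (Fin n → ℂ)) (hρ : ∀ a : G, a ≠ 1 → ∀ v, ρ a v = v → v = 0)
    (H : Subgroup G) [Fintype H] (hH : H ≠ ⊥) : ∑ x : H, ρ.character x = 0 := by
  obtain ⟨a, haH, ha⟩ : ∃ a ∈ H, a ≠ 1 := by
    by_contra! hc
    exact hH ((Subgroup.eq_bot_iff_forall H).2 hc)
  letI : Invertible (Nat.card H : ℂ) := invertibleOfNonzero CfsgLib.Chars.natCard_ne_zero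
  let σ : Representation ℂ H (Fin n → ℂ) := ρ.comp H.subtype
  have h0 : Representation.invariants σ = ⊥ := by
    rw [Submodule.eq_bot_iff]
    exact fun v hv => hρ a ha v (hv ⟨a, haH⟩)
  have h1 := Representation.card_inv_mul_sum_char_eq_finrank σ
  rw [h0, finrank_bot, Nat.cast_zero, mul_eq_zero] at h1
  exact h1.resolve_left (inv_ne_zero CfsgLib.Chars.natCard_ne_zero)

theorem exists_fpfChar {G : Type*} [Group G] [Fintype G] (hG : IsFpf G) :
    ∃ (χ : G → ℂ) (d : ℕ), IsFpfChar χ d := by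
  classical
  obtain ⟨n, ρ, hn, hρ⟩ := hG.exists_rep
  have hch : IsCharacter G ρ.character := ⟨n, ρ, rfl⟩
  obtain ⟨c, hc, hc'⟩ := CfsgLib.Chars.exists_nat_coeff hch
  obtain ⟨ψ, hψ⟩ : ∃ ψ : IrrCharacter G, classInner ρ.character (ψ : G → ℂ) ≠ 0 := by
    by_contra! hall
    have : ρ.character 1 = 0 := by
      rw [hc, Finset.sum_apply]
      refine Finset.sum_eq_zero fun ψ _ => ?_
      rw [Pi.smul_apply, ← hc', hall, zero_smul]
    rw [Representation.char_one, Nat.cast_eq_zero] at this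
    exact (not_subsingleton _) (Module.finrank_zero_iff.1 this)
  obtain ⟨φ, hφ, hsum⟩ := CfsgLib.Chars.exists_add_of_classInner_ne_zero hch ψ hψ
  obtain ⟨d, hd0, hd⟩ := CfsgLib.Chars.exists_pos_natCast_map_one ψ.2
  refine ⟨ψ, d, ψ.2, hd, hd0, fun H _ hH => ?_⟩
  have key : ∀ η : G → ℂ, IsCharacter G η → ∃ m : ℕ, ∑ x : H, η x = (Nat.card H : ℂ) * m := by
    intro η hη
    obtain ⟨m, hm⟩ := CfsgLib.Chars.exists_nat_classInner' (CfsgLib.Chars.isCharacter_restrict hη H)
      (CfsgLib.Chars.isCharacter_one (G := H))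
    refine ⟨m, ?_⟩
    rw [← hm, classInner, ← mul_assoc, mul_inv_cancel₀ CfsgLib.Chars.natCard_ne_zero, one_mul]
    exact Finset.sum_congr rfl fun x _ => by rw [Pi.one_apply, map_one, mul_one]
  obtain ⟨m1, h1⟩ := key ψ (CfsgLib.Chars.isCharacter_coe ψ)
  obtain ⟨m2, h2⟩ := key φ hφ
  have h0 := rep_sum_character_eq_zero ρ hρ H hH
  simp only [hsum, Pi.add_apply] at h0
  rw [Finset.sum_add_distrib, h1, h2, ← mul_add, mul_eq_zero] at h0
  have h3 : m1 + m2 = 0 := by exact_mod_cast h0.resolve_left CfsgLib.Chars.natCard_ne_zero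
  rw [h1, show m1 = 0 by omega, Nat.cast_zero, mul_zero]

/-- The square norm of a sum of linear characters. -/
theorem sum_normSq_lin {A : Type*} [Group A] [Fintype A] {ι : Type*} [Fintype ι]
    (l : ι → A →* ℂˣ) [∀ i j, Decidable (l i = l j)] :
    ∑ x : A, Complex.normSq (∑ i, (l i x : ℂ)) =
      (Nat.card A : ℝ) * ∑ i, ((Finset.univ.filter fun j => l i = l j).card : ℝ) := by
  classical
  apply Complex.ofReal_injective
  push_cast
  have hconj : ∀ (i : ι) (x : A), conj (l i x : ℂ) = ((l i x)⁻¹ : ℂˣ) := fun i x => by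
    rw [Units.val_inv_eq_inv_val]
    refine (Complex.inv_eq_conj (Complex.norm_eq_one_of_pow_eq_one ?_ (orderOf_pos x).ne')).symm
    rw [← Units.val_pow_eq_pow_val, ← map_pow, pow_orderOf_eq_one, map_one, Units.val_one]
  have key : ∀ i j, ∑ x : A, (l i x : ℂ) * ((l j x)⁻¹ : ℂˣ) =
      if l i = l j then (Fintype.card A : ℂ) else 0 := by
    intro i j
    have h1 := sum_hom_units ((Units.coeHom ℂ).comp (l i * (l j)⁻¹))
    have e1 : ((Units.coeHom ℂ).comp (l i * (l j)⁻¹) = 1) ↔ l i = l j := by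
      rw [← mul_inv_eq_one (a := l i)]
      constructor
      · intro hh
        ext x
        exact DFunLike.congr_fun hh x
      · intro hh
        rw [hh]; rfl
    by_cases hij : l i = l j
    · rw [if_pos hij]
      rw [if_pos (e1.2 hij)] at h1
      exact h1
    · rw [if_neg hij]
      rw [if_neg fun hh => hij (e1.1 hh), Nat.cast_zero] at h1
      exact h1
  simp_rw [← Complex.mul_conj, map_sum, Finset.sum_mul, Finset.mul_sum, hconj]
  rw [Finset.sum_comm]
  refine Finset.sum_congr rfl fun i _ => ?_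
  rw [Finset.sum_comm]
  simp_rw [key]
  rw [← Finset.sum_filter, Finset.sum_const, nsmul_eq_mul, Nat.card_eq_fintype_card, mul_comm]

theorem sum_zpowers_orderOf_two {G : Type*} [Group G] [Finite G] {z : G} (hz : orderOf z = 2)
    [Fintype (Subgroup.zpowers z)] (f : G → ℂ) : ∑ x : Subgroup.zpowers z, f x = f 1 + f z := by
  rw [← Equiv.sum_comp (finEquivZPowers (isOfFinOrder_of_finite z)) (fun x => f (x : G))]
  simp only [finEquivZPowers_apply]
  rw [Fin.sum_univ_eq_sum_range (fun i => f (z ^ i)), hz, Finset.sum_range_succ,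
    Finset.sum_range_one, pow_zero, pow_one]

theorem sum_zpowers_orderOf_three {G : Type*} [Group G] [Finite G] {y : G} (hy : orderOf y = 3)
    [Fintype (Subgroup.zpowers y)] (f : G → ℂ) :
    ∑ x : Subgroup.zpowers y, f x = f 1 + f y + f y⁻¹ := by
  rw [← Equiv.sum_comp (finEquivZPowers (isOfFinOrder_of_finite y)) (fun x => f (x : G))]
  simp only [finEquivZPowers_apply]
  rw [Fin.sum_univ_eq_sum_range (fun i => f (y ^ i)), hy, Finset.sum_range_succ,
    Finset.sum_range_succ, Finset.sum_range_one, pow_zero, pow_one,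
    show y ^ 2 = y⁻¹ from eq_inv_of_mul_eq_one_left (by
      rw [← pow_succ]; show y ^ 3 = 1; exact orderOf_dvd_iff_pow_eq_one.1 (dvd_of_eq hy))]

namespace IsFpfChar

variable {G : Type*} [Group G] [Fintype G] {χ : G → ℂ} {d : ℕ} (hχ : IsFpfChar χ d)

include hχ

theorem isCharacter : IsCharacter G χ := CfsgLib.Chars.isCharacter_of_isIrrCharacter hχ.irr

theorem map_conj (g x : G) : χ (g * x * g⁻¹) = χ x :=
  CfsgLib.Chars.isClassFunction_of_isCharacter hχ.isCharacter x g

theorem sum_normSq : ∑ x : G, Complex.normSq (χ x) = Nat.card G := by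
  have h1 := CfsgLib.Chars.classInner_self (⟨χ, hχ.irr⟩ : IrrCharacter G)
  rw [classInner, inv_mul_eq_one₀ CfsgLib.Chars.natCard_ne_zero] at h1
  apply Complex.ofReal_injective
  push_cast
  rw [h1]
  simp only [Complex.mul_conj]

theorem map_involution {z : G} (hz : orderOf z = 2) : χ z = -(d : ℂ) := by
  classical
  have hne : Subgroup.zpowers z ≠ ⊥ := by
    rw [Ne, Subgroup.zpowers_eq_bot]; rintro rfl; simp at hz
  have h1 := hχ.sum_zero (Subgroup.zpowers z) hne
  rw [sum_zpowers_orderOf_two hz, hχ.deg] at h1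
  linear_combination h1

theorem map_three {y : G} (hy : orderOf y = 3) (hc : IsConj y y⁻¹) : 2 * χ y = -(d : ℂ) := by
  classical
  have hne : Subgroup.zpowers y ≠ ⊥ := by
    rw [Ne, Subgroup.zpowers_eq_bot]; rintro rfl; simp at hy
  have h1 := hχ.sum_zero (Subgroup.zpowers y) hne
  rw [sum_zpowers_orderOf_three hy, hχ.deg] at h1
  obtain ⟨g, hg⟩ := isConj_iff.1 hc
  have h2 := hχ.map_conj g y
  rw [hg] at h2
  rw [h2] at h1
  linear_combination h1

theorem even_deg {y : G} (hy : orderOf y = 3) (hc : IsConj y y⁻¹) : 2 ∣ d := by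
  have h1 := hχ.map_three hy hc
  have h2 := CfsgLib.Chars.isIntegral_apply hχ.isCharacter y
  have h3 : χ y = algebraMap ℚ ℂ (-(d : ℚ) / 2) := by
    rw [eq_ratCast]; push_cast; linear_combination h1 / 2
  rw [h3, isIntegral_algebraMap_iff (algebraMap ℚ ℂ).injective, IsIntegrallyClosed.isIntegral_iff]
    at h2
  obtain ⟨m, hm⟩ := h2
  rw [eq_intCast] at hm
  have h4 : (2 * m : ℤ) = -(d : ℤ) := by
    have : (2 * m : ℚ) = -(d : ℚ) := by rw [hm]; ring
    exact_mod_cast this
  have : (2 : ℤ) ∣ (d : ℤ) := ⟨-m, by linarith⟩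
  exact_mod_cast this

/-- On a cyclic subgroup the character is a sum of `d` faithful linear characters. -/
theorem exists_lin (T : Subgroup G) (t : G) (ht : Subgroup.zpowers t = T) :
    ∃ l : Fin d → T →* ℂˣ, (∀ x : T, χ x = ∑ i, (l i x : ℂ)) ∧ ∀ i, Function.Injective (l i) := by
  classical
  subst ht
  obtain ⟨s, hs⟩ := CfsgLib.Chars.exists_homs_zpowers hχ.isCharacter t
  have hcard : s.toList.length = d := by
    have h1 := hs 1
    rw [Subgroup.coe_one, hχ.deg] at h1
    simp only [map_one, Units.val_one, Multiset.map_const', Multiset.sum_replicate, nsmul_eq_mul,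
      mul_one] at h1
    rw [Multiset.length_toList]
    exact_mod_cast h1.symm
  let l : Fin d → Subgroup.zpowers t →* ℂˣ := fun i => s.toList.get (Fin.cast hcard.symm i)
  have hl : ∀ x : Subgroup.zpowers t, χ x = ∑ i, (l i x : ℂ) := by
    intro x
    rw [hs x]
    conv_lhs => rw [← Multiset.coe_toList s, Multiset.map_coe, Multiset.sum_coe,
      ← Fin.sum_univ_fun_getElem]
    exact Fintype.sum_equiv (finCongr hcard) _ _ fun i => rfl
  refine ⟨l, hl, fun i => ?_⟩
  rw [← MonoidHom.ker_eq_bot_iff]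
  by_contra hne
  let H : Subgroup G := (l i).ker.map (Subgroup.zpowers t).subtype
  have hH : H ≠ ⊥ := by
    rw [Ne, Subgroup.map_eq_bot_iff_of_injective _ (Subgroup.subtype_injective _)]; exact hne
  have h0 := hχ.sum_zero H hH
  let e := ((l i).ker.equivMapOfInjective _ (Subgroup.subtype_injective (Subgroup.zpowers t))).toEquiv
  rw [← Equiv.sum_comp e] at h0
  have h0' : ∑ x : (l i).ker, ∑ j, ((l j (x : Subgroup.zpowers t)) : ℂ) = 0 := by
    rw [← h0]
    exact Finset.sum_congr rfl fun x _ => (hl x).symm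
  rw [Finset.sum_comm] at h0'
  have key : ∀ j, ∃ m : ℕ, ∑ x : (l i).ker, ((l j (x : Subgroup.zpowers t)) : ℂ) = m ∧
      (j = i → m ≠ 0) := by
    intro j
    refine ⟨_, sum_hom_units ((Units.coeHom ℂ).comp ((l j).comp (l i).ker.subtype)), ?_⟩
    rintro rfl
    rw [if_pos]
    · exact Fintype.card_ne_zero
    · ext x
      exact congrArg Units.val x.2
  choose m hm hm0 using key
  simp only [hm] at h0'
  have h1 : ∑ j, m j = 0 := by exact_mod_cast h0'
  exact hm0 i rfl (Finset.sum_eq_zero_iff.1 h1 i (Finset.mem_univ i))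

theorem le_sum_normSq (T : Subgroup G) [Fintype T] (t : G) (ht : Subgroup.zpowers t = T) :
    (Nat.card T : ℝ) * d ≤ ∑ x : T, Complex.normSq (χ x) := by
  classical
  obtain ⟨l, hl, -⟩ := hχ.exists_lin T t ht
  simp only [hl]
  rw [sum_normSq_lin]
  refine mul_le_mul_of_nonneg_left ?_ (Nat.cast_nonneg _)
  calc (d : ℝ) = ∑ _i : Fin d, (1 : ℝ) := by simp
    _ ≤ _ := Finset.sum_le_sum fun i _ => by
      exact_mod_cast Finset.one_le_card.2 ⟨i, by simp⟩

end IsFpfChar

end CfsgLib.Frobenius.Zass
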