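import Mathlib
import Cfsg.Agent.Frobenius.Zassenhaus.Lin

/-! # The order of a minimal perfect fixed-point-free group is 120

The centralisers of noncentral elements form three classes of cyclic subgroups: this follows from
the norm of an irreducible fixed-point-free character.
-/

set_option autoImplicit false

namespace CfsgLib.Frobenius.Zass

open CfsgLib.Frobenius Cfsg

variable {G : Type*} [Group G]

/-- The noncentral elements commuting with `a`. -/
def torusSet (a : G) : Set G := {b | Commute b a ∧ b * b ≠ 1}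

theorem classSet_def (a : G) : classSet a = conjUnion (torusSet a) := rfl

/-- The normaliser of the centraliser of `a`. -/
abbrev torusNormalizer (a : G) : Subgroup G :=
  Subgroup.normalizer ((Subgroup.centralizer ({a} : Set G) : Subgroup G) : Set G)

variable [Fintype G]

open scoped Classical in
/-- The noncentral elements. -/
noncomputable def noncentral (G : Type*) [Group G] [Fintype G] : Finset G :=
  Finset.univ.filter fun x => x * x ≠ 1

theorem mem_noncentral {x : G} : x ∈ noncentral G ↔ x * x ≠ 1 := by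
  classical simp [noncentral]

namespace PerfectFpf

variable (h : PerfectFpf G) (IH : ∀ K : Subgroup G, K ≠ ⊤ → HasFiveMap K)

include h

theorem exists_pair : ∃ u v : G, IsQPair u v := by
  let S : Sylow 2 G := default
  obtain ⟨m, hm, ⟨e⟩⟩ := h.exists_quaternion S
  let F : QuaternionGroup (2 ^ m) →* G := (S : Subgroup G).subtype.comp e.symm.toMonoidHom
  have hF : Function.Injective F := (S : Subgroup G).subtype_injective.comp e.symm.injective
  obtain ⟨j, rfl⟩ : ∃ j, m = j + 1 := ⟨m - 1, by omega⟩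
  set h₀ : ZMod (2 * 2 ^ (j + 1)) := ((2 ^ j : ℕ) : ZMod (2 * 2 ^ (j + 1))) with hh₀
  have hq4 : orderOf (QuaternionGroup.a h₀ : QuaternionGroup (2 ^ (j + 1))) = 4 := by
    rw [hh₀, ← QuaternionGroup.a_one_pow, orderOf_pow' _ (by positivity),
      QuaternionGroup.orderOf_a_one, show 2 * 2 ^ (j + 1) = 2 ^ j * 4 by ring,
      Nat.gcd_mul_right_left, Nat.mul_div_cancel_left _ (by positivity)]
  have hn2 : ((2 ^ (j + 1) : ℕ) : ZMod (2 * 2 ^ (j + 1))) = 2 * h₀ := by rw [hh₀]; push_cast; ring
  have hu : orderOf (F (QuaternionGroup.a h₀)) = 4 := (orderOf_injective F hF _).trans hq4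
  have hv : orderOf (F (QuaternionGroup.xa 0)) = 4 :=
    (orderOf_injective F hF _).trans (QuaternionGroup.orderOf_xa _)
  have hrel : F (QuaternionGroup.a h₀) * F (QuaternionGroup.xa 0) * (F (QuaternionGroup.a h₀))⁻¹ =
      (F (QuaternionGroup.xa 0))⁻¹ := by
    simp only [← map_inv, ← map_mul]
    refine congrArg F ?_
    rw [mul_inv_eq_iff_eq_mul, eq_inv_mul_iff_mul_eq, QuaternionGroup.a_mul_xa,
      QuaternionGroup.xa_mul_xa, QuaternionGroup.a.injEq]
    linear_combination hn2
  refine ⟨_, _, hu, hv, fun hc => ?_, hrel⟩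
  rw [hc.eq, mul_inv_cancel_right, eq_inv_iff_mul_eq_one] at hrel
  exact mul_self_ne_one_of_orderOf_four hv hrel

/-- Every element of order 4 is inverted by some element. -/
theorem exists_inverting {a : G} (ha : orderOf a = 4) : ∃ w : G, w * a * w⁻¹ = a⁻¹ := by
  obtain ⟨u, v, hp⟩ := h.exists_pair
  obtain ⟨g, hg⟩ := isConj_iff.1 (h.isConj_of_orderOf_four hp.1 ha)
  have hvu : v * u * v⁻¹ = u⁻¹ := by
    have e1 : u * v = v⁻¹ * u := mul_inv_eq_iff_eq_mul.1 hp.2.2.2
    calc v * u * v⁻¹ = (v * v) * (v⁻¹ * u) * v⁻¹ := by group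
      _ = (v * v) * u := by rw [← e1]; group
      _ = (u * u) * u := by rw [h.sq_eq_sq hp.2.1 hp.1]
      _ = u⁻¹ := by rw [eq_inv_iff_mul_eq_one, mul_assoc]; exact sq_sq_of_orderOf_four hp.1
  refine ⟨g * v * g⁻¹, ?_⟩
  rw [← hg]
  calc g * v * g⁻¹ * (g * u * g⁻¹) * (g * v * g⁻¹)⁻¹ = g * (v * u * v⁻¹) * g⁻¹ := by group
    _ = (g * u * g⁻¹)⁻¹ := by rw [hvu]; group

include IH

theorem commute_trans' {a b c : G} (ha : a * a ≠ 1) (hb : Commute b a) (hc : Commute c a) :
    Commute b c :=
  h.commute_of_commute IH ha hb hc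

theorem centralizer_eq {a b : G} (ha : a * a ≠ 1) (hb : b ∈ torusSet a) :
    Subgroup.centralizer ({b} : Set G) = Subgroup.centralizer ({a} : Set G) := by
  ext x
  simp only [Subgroup.mem_centralizer_singleton_iff]
  exact ⟨fun hx => h.commute_of_commute IH hb.2 hx hb.1.symm,
    fun hx => h.commute_of_commute IH ha hx hb.1⟩

theorem torusSet_eq {a b : G} (ha : a * a ≠ 1) (hb : b ∈ torusSet a) :
    torusSet b = torusSet a := by
  ext x
  exact ⟨fun hx => ⟨h.commute_of_commute IH hb.2 hx.1 hb.1.symm, hx.2⟩,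
    fun hx => ⟨h.commute_of_commute IH ha hx.1 hb.1, hx.2⟩⟩

theorem mem_torusNormalizer {a g : G} (ha : a * a ≠ 1) (hg : Commute (g * a * g⁻¹) a) :
    g ∈ torusNormalizer a := by
  rw [Subgroup.mem_normalizer_iff]
  intro x
  simp only [SetLike.mem_coe, Subgroup.mem_centralizer_singleton_iff]
  constructor
  · intro hx
    exact h.commute_of_commute IH (conj_mul_self_ne_one ha)
      (commute_conj (g := g) (a := x) (b := a) hx) hg.symm
  · intro hx
    have h1 : Commute (g * x * g⁻¹) (g * a * g⁻¹) := h.commute_of_commute IH ha hx hg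
    have h2 := commute_conj (g := g⁻¹) h1
    rwa [show g⁻¹ * (g * x * g⁻¹) * g⁻¹⁻¹ = x by group,
      show g⁻¹ * (g * a * g⁻¹) * g⁻¹⁻¹ = a by group] at h2

omit IH in
omit h in
theorem torusSet_invariant {a g : G} (hg : g ∈ torusNormalizer a) {x : G} (hx : x ∈ torusSet a) :
    g * x * g⁻¹ ∈ torusSet a :=
  ⟨Subgroup.mem_centralizer_singleton_iff.1
    ((Subgroup.mem_normalizer_iff.1 hg x).1 (Subgroup.mem_centralizer_singleton_iff.2 hx.1)),
    conj_mul_self_ne_one hx.2⟩

theorem torusSet_tI {a : G} (ha : a * a ≠ 1) : ∀ x ∈ torusSet a, ∀ g : G,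
    g * x * g⁻¹ ∈ torusSet a → g ∈ torusNormalizer a := by
  intro x hx g hgx
  refine h.mem_torusNormalizer IH ha ?_
  exact (h.commute_of_commute IH hgx.2 (commute_conj (g := g) hx.1.symm) hgx.1.symm)

theorem classSet_eq {a b : G} (ha : a * a ≠ 1) (hb : b ∈ classSet a) : classSet b = classSet a := by
  obtain ⟨g, hgb⟩ := hb
  have e1 := h.torusSet_eq IH ha (show g⁻¹ * b * g ∈ torusSet a from hgb)
  ext x
  rw [classSet_def, classSet_def, ← e1]
  constructor
  · rintro ⟨k, hk1, hk2⟩
    refine ⟨k * g, ?_, ?_⟩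
    · have := commute_conj (g := g⁻¹) hk1
      rwa [show g⁻¹ * (k⁻¹ * x * k) * g⁻¹⁻¹ = (k * g)⁻¹ * x * (k * g) by group, inv_inv] at this
    · have := conj_mul_self_ne_one (g := g⁻¹) hk2
      rwa [show g⁻¹ * (k⁻¹ * x * k) * g⁻¹⁻¹ = (k * g)⁻¹ * x * (k * g) by group] at this
  · rintro ⟨k, hk1, hk2⟩
    refine ⟨k * g⁻¹, ?_, ?_⟩
    · have := commute_conj (g := g) hk1
      rwa [show g * (k⁻¹ * x * k) * g⁻¹ = (k * g⁻¹)⁻¹ * x * (k * g⁻¹) by group,
        show g * (g⁻¹ * b * g) * g⁻¹ = b by group] at this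
    · have := conj_mul_self_ne_one (g := g) hk2
      rwa [show g * (k⁻¹ * x * k) * g⁻¹ = (k * g⁻¹)⁻¹ * x * (k * g⁻¹) by group] at this

theorem exists_generator {a : G} (ha : a * a ≠ 1) :
    ∃ t : G, Subgroup.zpowers t = Subgroup.centralizer ({a} : Set G) := by
  have := h.isCyclic_centralizer IH ha
  exact (Subgroup.isCyclic_iff_exists_zpowers_eq_top _).1 this

/-- The normaliser of a maximal cyclic subgroup is bigger. -/
theorem exists_mem_normalizer {a : G} (ha : a * a ≠ 1) :
    ∃ g ∈ torusNormalizer a, g ∉ Subgroup.centralizer ({a} : Set G) := by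
  by_cases h4 : 4 ∣ orderOf a
  · obtain ⟨w, hw⟩ := h.exists_inverting (orderOf_upart h4)
    have hu2 := mul_self_ne_one_of_orderOf_four (orderOf_upart h4)
    have hmem : upart a ∈ torusSet a := ⟨(Commute.refl a).pow_left _, hu2⟩
    have hcen := h.centralizer_eq IH ha hmem
    refine ⟨w, ?_, fun hwc => ?_⟩
    · have := h.mem_torusNormalizer IH hu2 (g := w) (by rw [hw]; exact (Commute.refl _).inv_left)
      rwa [torusNormalizer, hcen] at this
    · rw [← hcen, Subgroup.mem_centralizer_singleton_iff] at hwc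
      rw [hwc, mul_inv_cancel_right] at hw
      exact hu2 (eq_inv_iff_mul_eq_one.1 hw)
  obtain ⟨k, hk, hko⟩ := exists_prime_power_part h4 ha
  set q := a ^ k
  have hq2 := mul_self_ne_one_of_prime hk hko
  have hmem : q ∈ torusSet a := ⟨(Commute.refl a).pow_left _, hq2⟩
  have hcen := h.centralizer_eq IH ha hmem
  have := Fact.mk hk
  obtain ⟨P, hP⟩ := (IsPGroup.of_card (p := orderOf q) (n := 1)
    (by rw [Nat.card_zpowers, pow_one] : Nat.card (Subgroup.zpowers q) = orderOf q ^ 1)).exists_le_sylow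
  have hp2 : orderOf q ≠ 2 := fun e => absurd (e ▸ hko) (by decide)
  have hcyc : IsCyclic (P : Subgroup G) := h.fpf.isCyclic_odd hp2 _ P.2
  have hqP : q ∈ (P : Subgroup G) := hP (Subgroup.mem_zpowers q)
  have hne : (P : Subgroup G) ≠ ⊥ := fun e => by
    rw [e, Subgroup.mem_bot] at hqP
    exact hk.ne_one (orderOf_eq_one_iff.2 hqP)
  obtain ⟨g, hgN, -, hgC⟩ := h.exists_normalizing P hne
  have hPcomm : ∀ x ∈ (P : Subgroup G), Commute x q := fun x hx => by
    obtain ⟨e, he⟩ := hcyc.exists_generator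
    obtain ⟨i, hi⟩ := he ⟨x, hx⟩
    obtain ⟨l, hl⟩ := he ⟨q, hqP⟩
    have := ((Commute.refl e).zpow_left i).zpow_right l
    simp only at hi hl
    rw [hi, hl] at this
    exact congrArg Subtype.val this.eq
  refine ⟨g, ?_, fun hgT => hgC ?_⟩
  · have := h.mem_torusNormalizer IH hq2 (g := g)
      (hPcomm _ ((Subgroup.mem_normalizer_iff.1 hgN q).1 hqP))
    rwa [torusNormalizer, hcen] at this
  · rw [← hcen, Subgroup.mem_centralizer_singleton_iff] at hgT
    rw [Subgroup.mem_centralizer_iff]
    intro x hx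
    exact (h.commute_of_commute IH hq2 (hPcomm x hx) hgT).eq

theorem exists_isConj_inv_of_three {y : G} (hy : orderOf y = 3) :
    IsConj y y⁻¹ ∧ ∀ g ∈ torusNormalizer y, g ∉ Subgroup.centralizer ({y} : Set G) →
      g * y * g⁻¹ = y⁻¹ := by
  have hy2 : y * y ≠ 1 := mul_self_ne_one_of_prime (hy ▸ Nat.prime_three) (hy ▸ by decide)
  have key : ∀ g ∈ torusNormalizer y, g ∉ Subgroup.centralizer ({y} : Set G) →
      g * y * g⁻¹ = y⁻¹ := by
    intro g hg hgT
    have hc : Commute (g * y * g⁻¹) y :=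
      (torusSet_invariant hg (show y ∈ torusSet y from ⟨Commute.refl y, hy2⟩)).1
    have hz := h.fpf.zpowers_eq_of_commute Nat.prime_three hy ((orderOf_conj g y).trans hy) hc.symm
    have hmem : g * y * g⁻¹ ∈ Subgroup.zpowers y := hz ▸ Subgroup.mem_zpowers _
    rw [← mem_powers_iff_mem_zpowers] at hmem
    obtain ⟨i, hi⟩ := hmem
    simp only at hi
    rw [← pow_mod_orderOf, hy] at hi
    have : i % 3 = 0 ∨ i % 3 = 1 ∨ i % 3 = 2 := by omega
    rcases this with e | e | e <;> rw [e] at hi
    · exfalso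
      rw [pow_zero, eq_comm, mul_inv_eq_one, mul_eq_left] at hi
      rw [hi, orderOf_one] at hy; omega
    · exfalso
      rw [pow_one] at hi
      exact hgT (mem_centralizer_of_commute (mul_inv_eq_iff_eq_mul.1 hi.symm))
    · rw [← hi]
      refine eq_inv_of_mul_eq_one_left ?_
      rw [← pow_succ]; exact orderOf_dvd_iff_pow_eq_one.1 (dvd_of_eq hy)
  obtain ⟨g, hg, hgT⟩ := h.exists_mem_normalizer IH hy2
  exact ⟨isConj_iff.2 ⟨g, key g hg hgT⟩, key⟩

omit h IH in
/-- A normaliser with a single nontrivial action has order twice the centraliser. -/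
theorem card_torusNormalizer {a a' : G} (h0 : ∃ g ∈ torusNormalizer a,
      g ∉ Subgroup.centralizer ({a} : Set G))
    (hu : ∀ g ∈ torusNormalizer a, g ∉ Subgroup.centralizer ({a} : Set G) → g * a * g⁻¹ = a') :
    Nat.card (torusNormalizer a) = 2 * Nat.card (Subgroup.centralizer ({a} : Set G)) := by
  set T := Subgroup.centralizer ({a} : Set G) with hT
  set N := torusNormalizer a with hN
  have hTN : T ≤ N := Subgroup.le_normalizer
  obtain ⟨g₀, hg₀, hg₀T⟩ := h0
  have h2 : (T.subgroupOf N).index = 2 := by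
    rw [Subgroup.index_eq_two_iff]
    refine ⟨⟨g₀, hg₀⟩, fun b => ?_⟩
    rw [Subgroup.mem_subgroupOf, Subgroup.mem_subgroupOf, Subgroup.coe_mul]
    by_cases hb : (b : G) ∈ T
    · exact Or.inr ⟨hb, fun hc => hg₀T ((mul_mem_cancel_left hb).1 hc)⟩
    · refine Or.inl ⟨mem_centralizer_of_commute ?_, hb⟩
      have hbi : (b : G)⁻¹ ∉ T := fun hc => hb (inv_mem_iff.1 hc)
      have e1 : (b : G)⁻¹ * a * (b : G)⁻¹⁻¹ = g₀ * a * g₀⁻¹ :=
        (hu _ (inv_mem b.2) hbi).trans (hu g₀ hg₀ hg₀T).symm
      refine mul_inv_eq_iff_eq_mul.1 ?_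
      calc (b : G) * g₀ * a * ((b : G) * g₀)⁻¹ = (b : G) * (g₀ * a * g₀⁻¹) * (b : G)⁻¹ := by group
        _ = a := by rw [← e1]; group
  rw [← (T.subgroupOf N).card_mul_index, h2,
    Nat.card_congr (Subgroup.subgroupOfEquivOfLe hTN).toEquiv, mul_comm]

open scoped Classical in
theorem sum_classSet {a : G} (ha : a * a ≠ 1) (f : G → ℝ) (hf : ∀ g x, f (g * x * g⁻¹) = f x) :
    (Nat.card (torusNormalizer a) : ℝ) * ∑ x ∈ (classSet a).toFinset, f x =
      (Nat.card G : ℝ) * ∑ x ∈ (torusSet a).toFinset, f x := by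
  have h1 := sum_conjUnion (N := torusNormalizer a) (S := torusSet a)
    (fun g hg x hx => torusSet_invariant hg hx) (h.torusSet_tI IH ha) f hf
  rw [← Finset.sum_set_coe, ← Finset.sum_set_coe]
  rw [show ∑ x : classSet a, f x = ∑ x : conjUnion (torusSet a), f x from rfl, h1, nsmul_eq_mul,
    ← mul_assoc, ← Nat.cast_mul, Subgroup.card_mul_index]

omit IH in
open scoped Classical in
theorem sum_centralizer {u a : G} (hu : orderOf u = 4) (f : G → ℝ)
    [Fintype (Subgroup.centralizer ({a} : Set G))] :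
    ∑ x : Subgroup.centralizer ({a} : Set G), f x =
      f 1 + f (u * u) + ∑ x ∈ (torusSet a).toFinset, f x := by
  have e1 : ((Subgroup.centralizer ({a} : Set G) : Subgroup G) : Set G).toFinset =
      insert 1 (insert (u * u) (torusSet a).toFinset) := by
    ext x
    simp only [Set.mem_toFinset, Finset.mem_insert, SetLike.mem_coe,
      Subgroup.mem_centralizer_singleton_iff]
    constructor
    · intro hx
      by_cases hx2 : x * x = 1
      · exact (h.eq_one_or_sq hu hx2).imp_right Or.inl
      · exact Or.inr (Or.inr ⟨hx, hx2⟩)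
    · rintro (rfl | rfl | ⟨hx, -⟩)
      · simp
      · exact h.commute_of_sq_eq_one (sq_sq_of_orderOf_four hu) a
      · exact hx
  have hne : (1 : G) ≠ u * u := Ne.symm (mul_self_ne_one_of_orderOf_four hu)
  have hn1 : (1 : G) ∉ insert (u * u) (torusSet a).toFinset := by
    simp only [Finset.mem_insert, Set.mem_toFinset, not_or]
    exact ⟨hne, fun hc => hc.2 (mul_one 1)⟩
  have hn2 : u * u ∉ (torusSet a).toFinset := by
    simp only [Set.mem_toFinset]
    exact fun hc => hc.2 (sq_sq_of_orderOf_four hu)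
  rw [← Finset.sum_subtype (((Subgroup.centralizer ({a} : Set G) : Subgroup G) : Set G).toFinset)
    (p := fun x => x ∈ Subgroup.centralizer ({a} : Set G)) (fun x => Set.mem_toFinset) f, e1, Finset.sum_insert hn1, Finset.sum_insert hn2, add_assoc]

omit IH in
open scoped Classical in
theorem sum_univ_eq {u : G} (hu : orderOf u = 4) (f : G → ℝ) :
    ∑ x, f x = f 1 + f (u * u) + ∑ x ∈ noncentral G, f x := by
  have e1 : (Finset.univ : Finset G) = insert 1 (insert (u * u) (noncentral G)) := by
    ext x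
    simp only [Finset.mem_univ, Finset.mem_insert, mem_noncentral, true_iff]
    by_cases hx2 : x * x = 1
    · exact (h.eq_one_or_sq hu hx2).imp_right Or.inl
    · exact Or.inr (Or.inr hx2)
  have hn1 : (1 : G) ∉ insert (u * u) (noncentral G) := by
    simp only [Finset.mem_insert, mem_noncentral, not_or]
    exact ⟨Ne.symm (mul_self_ne_one_of_orderOf_four hu), fun hc => hc (mul_one 1)⟩
  have hn2 : u * u ∉ noncentral G := by
    simp only [mem_noncentral]; exact fun hc => hc (sq_sq_of_orderOf_four hu)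
  rw [e1, Finset.sum_insert hn1, Finset.sum_insert hn2, add_assoc]

open scoped Classical in
/-- The classes of maximal cyclic subgroups. -/
noncomputable def classes (G : Type*) [Group G] [Fintype G] : Finset (Finset G) :=
  (noncentral G).image fun a => (classSet a).toFinset

open scoped Classical in
theorem sum_noncentral (f : G → ℝ) :
    ∑ x ∈ noncentral G, f x = ∑ U ∈ classes G, ∑ x ∈ U, f x := by
  rw [← Finset.sum_fiberwise_of_maps_to (g := fun a : G => (classSet a).toFinset) (t := classes G)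
    (fun a ha => Finset.mem_image_of_mem _ ha)]
  refine Finset.sum_congr rfl fun U hU => Finset.sum_congr ?_ fun _ _ => rfl
  obtain ⟨a, ha, rfl⟩ := Finset.mem_image.1 hU
  rw [mem_noncentral] at ha
  ext x
  simp only [Finset.mem_filter, Set.mem_toFinset, mem_noncentral, Set.toFinset_inj]
  constructor
  · rintro ⟨hx, e⟩
    rw [← e]
    exact ⟨1, by simp only [inv_one, one_mul, mul_one]; exact Commute.refl x, by simpa using hx⟩
  · intro hx
    refine ⟨?_, h.classSet_eq IH ha hx⟩
    obtain ⟨g, -, hg2⟩ := hx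
    intro e
    apply hg2
    rw [show g⁻¹ * x * g * (g⁻¹ * x * g) = g⁻¹ * (x * x) * g by group, e, mul_one, inv_mul_cancel]

theorem orderOf_three_conj {y y' : G} (hy : orderOf y = 3) (hy' : orderOf y' = 3) :
    ∃ g : G, Commute (g * y' * g⁻¹) y := by
  have := Fact.mk Nat.prime_three
  obtain ⟨P, hP⟩ := (IsPGroup.of_card (p := 3) (n := 1)
    (by rw [Nat.card_zpowers, pow_one, hy] : Nat.card (Subgroup.zpowers y) = 3 ^ 1)).exists_le_sylow
  obtain ⟨P', hP'⟩ := (IsPGroup.of_card (p := 3) (n := 1)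
    (by rw [Nat.card_zpowers, pow_one, hy'] : Nat.card (Subgroup.zpowers y') = 3 ^ 1)).exists_le_sylow
  obtain ⟨g, hg⟩ := MulAction.exists_smul_eq G P' P
  have h1 : g * y' * g⁻¹ ∈ (P : Subgroup G) := by
    rw [← hg]
    exact Subgroup.smul_mem_pointwise_smul _ (MulAut.conj g) _ (hP' (Subgroup.mem_zpowers y'))
  have hcyc : IsCyclic (P : Subgroup G) := h.fpf.isCyclic_odd (by norm_num) _ P.2
  obtain ⟨e, he⟩ := hcyc.exists_generator
  obtain ⟨i, hi⟩ := he ⟨_, h1⟩
  obtain ⟨l, hl⟩ := he ⟨y, hP (Subgroup.mem_zpowers y)⟩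
  have := ((Commute.refl e).zpow_left i).zpow_right l
  simp only at hi hl
  rw [hi, hl] at this
  exact ⟨g, congrArg Subtype.val this.eq⟩

section Character

variable {χ : G → ℂ} {d : ℕ} (hχ : IsFpfChar χ d)

include hχ

theorem map_sq_mul {u b : G} (hu : orderOf u = 4) (hb : b * b ≠ 1) : χ (u * u * b) = - χ b := by
  obtain ⟨t, ht⟩ := h.exists_generator IH hb
  obtain ⟨l, hl, hinj⟩ := hχ.exists_lin _ t ht
  let z : Subgroup.centralizer ({b} : Set G) := ⟨u * u,
    mem_centralizer_of_commute (h.commute_of_sq_eq_one (sq_sq_of_orderOf_four hu) b)⟩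
  let b' : Subgroup.centralizer ({b} : Set G) := ⟨b, mem_centralizer_of_commute (Commute.refl b)⟩
  show χ ((z * b' : Subgroup.centralizer ({b} : Set G)) : G) = - χ (b' : G)
  rw [hl, hl, ← Finset.sum_neg_distrib]
  refine Finset.sum_congr rfl fun i _ => ?_
  have h1 : ((l i z : ℂˣ) : ℂ) = -1 := by
    have h2 : ((l i z : ℂˣ) : ℂ) * (l i z : ℂˣ) = 1 := by
      rw [← Units.val_mul, ← map_mul,
        show z * z = 1 from Subtype.ext (sq_sq_of_orderOf_four hu), map_one, Units.val_one]
    rcases mul_self_eq_one_iff.1 h2 with e | e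
    · exfalso
      have h3 : z = 1 := hinj i (by rw [map_one]; exact Units.ext e)
      exact mul_self_ne_one_of_orderOf_four hu (congrArg Subtype.val h3)
    · exact e
  rw [map_mul, Units.val_mul, h1, neg_one_mul]

theorem normSq_central {u : G} (hu : orderOf u = 4) :
    Complex.normSq (χ 1) = (d : ℝ) * d ∧ Complex.normSq (χ (u * u)) = (d : ℝ) * d := by
  refine ⟨by rw [hχ.deg, Complex.normSq_natCast], ?_⟩
  rw [hχ.map_involution (orderOf_eq_prime (by rw [pow_two]; exact sq_sq_of_orderOf_four hu)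
    (mul_self_ne_one_of_orderOf_four hu)), Complex.normSq_neg, Complex.normSq_natCast]

open scoped Classical in
theorem le_sum_torusSet {u a : G} (hu : orderOf u = 4) (ha : a * a ≠ 1) :
    (Nat.card (Subgroup.centralizer ({a} : Set G)) : ℝ) * d - 2 * ((d : ℝ) * d) ≤
      ∑ x ∈ (torusSet a).toFinset, Complex.normSq (χ x) := by
  obtain ⟨t, ht⟩ := h.exists_generator IH ha
  have h1 := hχ.le_sum_normSq _ t ht
  rw [h.sum_centralizer hu (a := a) (fun x => Complex.normSq (χ x)),
    (h.normSq_central IH hχ hu).1, (h.normSq_central IH hχ hu).2] at h1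
  linarith

/-- The degree is 2. -/
theorem degree_eq_two {u y : G} (hu : orderOf u = 4) (hy : orderOf y = 3) : d = 2 := by
  classical
  have hy2 : y * y ≠ 1 := mul_self_ne_one_of_prime (hy ▸ Nat.prime_three) (hy ▸ by decide)
  obtain ⟨hconj, hkey⟩ := h.exists_isConj_inv_of_three IH hy
  set T := Subgroup.centralizer ({y} : Set G)
  set n := Nat.card T
  have hN : Nat.card (torusNormalizer y) = 2 * n :=
    card_torusNormalizer (h.exists_mem_normalizer IH hy2) hkey
  set Φ : G → ℝ := fun x => Complex.normSq (χ x)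
  have hΦc : ∀ g x, Φ (g * x * g⁻¹) = Φ x := fun g x => by simp only [Φ, hχ.map_conj]
  obtain ⟨hΦ1, hΦz⟩ := h.normSq_central IH hχ hu
  have htot : (Nat.card G : ℝ) = 2 * ((d : ℝ) * d) + ∑ U ∈ classes G, ∑ x ∈ U, Φ x := by
    rw [← hχ.sum_normSq, h.sum_univ_eq hu, hΦ1, hΦz, ← h.sum_noncentral IH]
    ring
  have hU₀ : (classSet y).toFinset ∈ classes G :=
    Finset.mem_image_of_mem _ (mem_noncentral.2 hy2)
  set S₀ := ∑ x ∈ (torusSet y).toFinset, Φ x with hS₀def
  have hS₀ := h.sum_classSet IH hy2 Φ hΦc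
  rw [hN] at hS₀
  push_cast at hS₀
  have hGpos : (0 : ℝ) < Nat.card G := by exact_mod_cast Nat.card_pos
  have hnpos : (0 : ℝ) < n := by exact_mod_cast Nat.card_pos
  have hd1 : (1 : ℝ) ≤ d := by exact_mod_cast hχ.pos
  have hlt : S₀ < 2 * n := by
    have h1 : ∑ x ∈ (classSet y).toFinset, Φ x ≤ ∑ U ∈ classes G, ∑ x ∈ U, Φ x :=
      Finset.single_le_sum (f := fun U : Finset G => ∑ x ∈ U, Φ x) (fun U _ => Finset.sum_nonneg fun x _ => Complex.normSq_nonneg _) hU₀
    have h2 : ∑ x ∈ (classSet y).toFinset, Φ x < Nat.card G := by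
      nlinarith [htot, h1, hd1]
    have h3 : (Nat.card G : ℝ) * S₀ < Nat.card G * (2 * n) := by
      rw [← hS₀]; nlinarith [h2, hnpos]
    exact lt_of_mul_lt_mul_left h3 hGpos.le
  -- four elements of the torus
  set z := u * u with hzdef
  have hz1 : z ≠ 1 := mul_self_ne_one_of_orderOf_four hu
  have hzz : z * z = 1 := sq_sq_of_orderOf_four hu
  have hyy : y * y * y = 1 := by
    have := pow_orderOf_eq_one y; rw [hy] at this; rwa [pow_succ, pow_two] at this
  have hyi2 : y⁻¹ * y⁻¹ ≠ 1 := by rw [← mul_inv_rev, Ne, inv_eq_one]; exact hy2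
  have hzc : ∀ b : G, Commute z b := fun b => h.commute_of_sq_eq_one hzz b
  have hzb : ∀ b : G, b * b ≠ 1 → z * b * (z * b) ≠ 1 := fun b hb => by
    rw [(hzc b).symm.mul_mul_mul_comm, hzz, one_mul]; exact hb
  have hsub : ({y, y⁻¹, z * y, z * y⁻¹} : Finset G) ⊆ (torusSet y).toFinset := by
    intro x hx
    simp only [Finset.mem_insert, Finset.mem_singleton] at hx
    rw [Set.mem_toFinset]
    rcases hx with rfl | rfl | rfl | rfl
    · exact ⟨Commute.refl x, hy2⟩
    · exact ⟨(Commute.refl y).inv_left, hyi2⟩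
    · exact ⟨(hzc y).mul_left (Commute.refl y), hzb y hy2⟩
    · exact ⟨(hzc y).mul_left (Commute.refl y).inv_left, hzb _ hyi2⟩
  have hvals : ∀ x ∈ ({y, y⁻¹, z * y, z * y⁻¹} : Finset G), 4 * Φ x = (d : ℝ) * d := by
    have h1 := hχ.map_three hy hconj
    have h2 : χ y⁻¹ = χ y := by
      obtain ⟨g, hg⟩ := isConj_iff.1 hconj
      rw [← hg, hχ.map_conj]
    have h3 : 4 * Φ y = (d : ℝ) * d := by
      have := congrArg Complex.normSq h1
      rw [Complex.normSq_mul, Complex.normSq_neg, Complex.normSq_natCast] at this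
      simp only [Φ]
      rw [← this, Complex.normSq_ofNat]; ring
    intro x hx
    simp only [Finset.mem_insert, Finset.mem_singleton] at hx
    rcases hx with rfl | rfl | rfl | rfl
    · exact h3
    · simpa only [Φ, h2] using h3
    · simpa only [Φ, hzdef, h.map_sq_mul IH hχ hu hy2, Complex.normSq_neg] using h3
    · simpa only [Φ, hzdef, h.map_sq_mul IH hχ hu hyi2, Complex.normSq_neg, h2] using h3
  have hcard4 : ({y, y⁻¹, z * y, z * y⁻¹} : Finset G).card = 4 := by
    have a1 : y ≠ y⁻¹ := fun e => hy2 (eq_inv_iff_mul_eq_one.1 e)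
    have a2 : y ≠ z * y := fun e => hz1 (mul_eq_right.1 e.symm)
    have a3 : y ≠ z * y⁻¹ := fun e => hz1 (by
      have h5 : z = y * y := by rw [eq_mul_inv_iff_mul_eq] at e; exact e.symm
      have h6 : z * z = y := by rw [h5, ← mul_assoc, hyy, one_mul]
      rw [hzz] at h6
      rw [← h6, orderOf_one] at hy; omega)
    have a4 : y⁻¹ ≠ z * y := fun e => a3 (by
      calc y = (y⁻¹)⁻¹ := (inv_inv y).symm
        _ = y⁻¹ * z⁻¹ := by rw [← mul_inv_rev, ← e]
        _ = z * y⁻¹ := by rw [inv_eq_of_mul_eq_one_right hzz, (hzc y⁻¹).eq])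
    have a5 : y⁻¹ ≠ z * y⁻¹ := fun e => hz1 (mul_eq_right.1 e.symm)
    have a6 : z * y ≠ z * y⁻¹ := fun e => a1 (mul_left_cancel e)
    rw [Finset.card_insert_of_notMem (by simp [a1, a2, a3]),
      Finset.card_insert_of_notMem (by simp [a4, a5]), Finset.card_insert_of_notMem (by simp [a6]),
      Finset.card_singleton]
  have hd2 : (d : ℝ) * d ≤ S₀ := by
    calc (d : ℝ) * d = ∑ x ∈ ({y, y⁻¹, z * y, z * y⁻¹} : Finset G), Φ x := by
          rw [Finset.sum_congr rfl fun x hx => show Φ x = (d : ℝ) * d / 4 by linarith [hvals x hx],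
            Finset.sum_const, hcard4, nsmul_eq_mul]
          push_cast; ring
      _ ≤ S₀ := Finset.sum_le_sum_of_subset_of_nonneg hsub fun x _ _ => Complex.normSq_nonneg _
  have hlow := h.le_sum_torusSet IH hχ hu hy2
  have e1 : (d : ℝ) * d < 2 * n := lt_of_le_of_lt hd2 hlt
  have e2 : (n : ℝ) * d < 2 * n + 2 * (d * d) := by linarith
  have e1' : d * d < 2 * n := by exact_mod_cast e1
  have e2' : n * d < 2 * n + 2 * (d * d) := by exact_mod_cast e2
  obtain ⟨c, hc⟩ := hχ.even_deg hy hconj
  have hdpos := hχ.pos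
  by_contra hd
  have hc2 : 2 ≤ c := by omega
  have hc2' : c ≤ 2 := by
    by_contra hc'
    have h3 : 3 ≤ c := by omega
    subst hc
    nlinarith [e1', e2', mul_le_mul_of_nonneg_left h3 (Nat.zero_le (c * c))]
  have hd4 : d = 4 := by omega
  subst hd4
  -- the centraliser of `y` has order 12
  have h6 : 6 ∣ n := by
    refine Nat.Coprime.mul_dvd_of_dvd_of_dvd (show Nat.Coprime 2 3 by norm_num) ?_ ?_
    · have := Subgroup.orderOf_dvd_natCard T (mem_centralizer_of_commute (hzc y))
      rwa [orderOf_eq_prime (by rw [pow_two]; exact hzz) hz1] at this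
    · have := Subgroup.orderOf_dvd_natCard T (mem_centralizer_of_commute (Commute.refl y))
      rwa [hy] at this
  have h12 : n = 12 := by omega
  -- every class contributes at least its size
  have hb : ∀ U ∈ classes G, (U.card : ℝ) ≤ ∑ x ∈ U, Φ x ∧
      (U = (classSet y).toFinset → (U.card : ℝ) + (Nat.card G : ℝ) / 4 ≤ ∑ x ∈ U, Φ x) := by
    intro U hU
    obtain ⟨a, ha, rfl⟩ := Finset.mem_image.1 hU
    rw [mem_noncentral] at ha
    have hsum := h.sum_classSet IH ha Φ hΦc
    have hone := h.sum_classSet IH ha (fun _ => (1 : ℝ)) (fun _ _ => rfl)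
    simp only [Finset.sum_const, nsmul_eq_mul, mul_one] at hone
    have htor := h.sum_centralizer hu (a := a) (fun _ => (1 : ℝ))
    simp only [Finset.sum_const, nsmul_eq_mul, mul_one, Finset.card_univ,
      ← Nat.card_eq_fintype_card] at htor
    have hlo := h.le_sum_torusSet IH hχ hu ha
    have hNpos : (0 : ℝ) < Nat.card (torusNormalizer a) := by exact_mod_cast Nat.card_pos
    set m := Nat.card (Subgroup.centralizer ({a} : Set G))
    push_cast at hlo
    by_cases heq : (classSet a).toFinset = (classSet y).toFinset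
    · have hya : y ∈ classSet a := by
        have h7 : y ∈ classSet y :=
          ⟨1, by simp only [inv_one, one_mul, mul_one]; exact Commute.refl y, by simpa using hy2⟩
        rw [← Set.mem_toFinset, ← heq] at h7
        exact Set.mem_toFinset.1 h7
      obtain ⟨g, hg⟩ := hya
      have hT : Subgroup.centralizer ({g⁻¹ * y * g} : Set G) = Subgroup.centralizer ({a} : Set G) :=
        h.centralizer_eq IH ha hg
      have hS₀' : (Nat.card G : ℝ) * S₀ = 24 * ∑ x ∈ (classSet y).toFinset, Φ x := by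
        rw [← hS₀, h12]; norm_num
      have hone' := h.sum_classSet IH hy2 (fun _ => (1 : ℝ)) (fun _ _ => rfl)
      simp only [Finset.sum_const, nsmul_eq_mul, mul_one, hN, h12] at hone'
      have htor' := h.sum_centralizer hu (a := y) (fun _ => (1 : ℝ))
      simp only [Finset.sum_const, nsmul_eq_mul, mul_one, Finset.card_univ,
        ← Nat.card_eq_fintype_card] at htor'
      have hc10 : ((torusSet y).toFinset.card : ℝ) = 10 := by
        have : (Nat.card T : ℝ) = 12 := by exact_mod_cast h12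
        linarith
      rw [hc10] at hone'
      push_cast at hone'
      have h16 : (16 : ℝ) ≤ S₀ := by
        push_cast at hlow
        have : (n : ℝ) = 12 := by exact_mod_cast h12
        rw [this] at hlow
        linarith
      rw [heq]
      have h8 : ((classSet y).toFinset.card : ℝ) + (Nat.card G : ℝ) / 4 ≤
          ∑ x ∈ (classSet y).toFinset, Φ x := by nlinarith [h16, hS₀', hone', hGpos]
      exact ⟨by linarith, fun _ => h8⟩
    · refine ⟨?_, fun e => absurd e heq⟩
      have hm10 : 10 ≤ m := by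
        have hm2 : 2 ∣ m := by
          have := Subgroup.orderOf_dvd_natCard (Subgroup.centralizer ({a} : Set G))
            (mem_centralizer_of_commute (hzc a))
          rwa [orderOf_eq_prime (by rw [pow_two]; exact hzz) hz1] at this
        have hnot : ∀ b : G, Commute b a → b * b ≠ 1 →
            (∃ g : G, Commute (g * b * g⁻¹) y) → False := by
          rintro b hba hb2 ⟨g, hg⟩
          apply heq
          have h7 : b ∈ classSet a := ⟨1, by simpa using hba, by simpa using hb2⟩
          have h8 : b ∈ classSet y := ⟨g⁻¹, by rwa [inv_inv], by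
            rw [inv_inv]; exact conj_mul_self_ne_one hb2⟩
          rw [Set.toFinset_inj, ← h.classSet_eq IH ha h7, h.classSet_eq IH hy2 h8]
        have := Fact.mk Nat.prime_three
        have h3 : ¬ 3 ∣ m := by
          intro h3
          obtain ⟨b, hb⟩ := exists_prime_orderOf_dvd_card' 3 h3
          rw [← Subgroup.orderOf_coe] at hb
          exact hnot _ (commute_of_mem_centralizer b.2)
            (mul_self_ne_one_of_prime (hb ▸ Nat.prime_three) (hb ▸ by decide))
            (h.orderOf_three_conj IH hy hb)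
        have h4 : ¬ 4 ∣ m := by
          intro h4
          have hc := h.isCyclic_centralizer IH ha
          obtain ⟨b, hb⟩ := hc.exists_ofOrder_eq_natCard
          have hb4 : orderOf ((b ^ (m / 4) : Subgroup.centralizer ({a} : Set G)) : G) = 4 := by
            rw [Subgroup.orderOf_coe]
            rw [show m = orderOf b from hb.symm] at h4 ⊢
            exact orderOf_pow_orderOf_div (orderOf_pos b).ne' h4
          have h12d : 4 ∣ Nat.card T := by show 4 ∣ n; rw [h12]; norm_num
          have hcT := h.isCyclic_centralizer IH hy2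
          obtain ⟨c', hc'⟩ := hcT.exists_ofOrder_eq_natCard
          have hc4 : orderOf ((c' ^ (Nat.card T / 4) : T) : G) = 4 := by
            rw [Subgroup.orderOf_coe]
            rw [show Nat.card T = orderOf c' from hc'.symm] at h12d ⊢
            exact orderOf_pow_orderOf_div (orderOf_pos c').ne' h12d
          obtain ⟨g, hg⟩ := isConj_iff.1 (h.isConj_of_orderOf_four hb4 hc4)
          exact hnot _ (commute_of_mem_centralizer (b ^ (m / 4)).2)
            (mul_self_ne_one_of_orderOf_four hb4)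
            ⟨g, hg ▸ commute_of_mem_centralizer (c' ^ (Nat.card T / 4)).2⟩
        have hm3 : m ≠ 2 := by
          intro h2
          obtain ⟨t, ht⟩ := h.exists_generator IH ha
          have h7 : orderOf t = 2 := by
            rw [← Nat.card_zpowers, ht]; exact h2
          have h8 : a ∈ Subgroup.zpowers t := ht ▸ mem_centralizer_of_commute (Commute.refl a)
          have h9 : orderOf a ∣ 2 := by
            have := Subgroup.orderOf_dvd_natCard _ h8
            rwa [Nat.card_zpowers, h7] at this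
          apply ha
          rw [← pow_two]; exact orderOf_dvd_iff_pow_eq_one.1 h9
        omega
      have hm10' : (10 : ℝ) ≤ m := by exact_mod_cast hm10
      have hcardS : ((torusSet a).toFinset.card : ℝ) = m - 2 := by linarith
      rw [hcardS] at hone
      refine le_of_mul_le_mul_left (a := (Nat.card (torusNormalizer a) : ℝ)) ?_ hNpos
      rw [hone, hsum]
      refine mul_le_mul_of_nonneg_left ?_ hGpos.le
      nlinarith [hlo, hm10']
  have hnc : (Nat.card G : ℝ) = 2 + ∑ U ∈ classes G, (U.card : ℝ) := by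
    have := h.sum_univ_eq hu (fun _ => (1 : ℝ))
    rw [h.sum_noncentral IH] at this
    simp only [Finset.sum_const, nsmul_eq_mul, mul_one, Finset.card_univ,
      ← Nat.card_eq_fintype_card] at this
    linarith
  have hfin : ∑ U ∈ classes G, (U.card : ℝ) + (Nat.card G : ℝ) / 4 ≤
      ∑ U ∈ classes G, ∑ x ∈ U, Φ x := by
    rw [← Finset.add_sum_erase _ _ hU₀, ← Finset.add_sum_erase (f := fun U => ∑ x ∈ U, Φ x) _ hU₀]
    have h1 := (hb _ hU₀).2 rfl
    have h2 := Finset.sum_le_sum (s := (classes G).erase (classSet y).toFinset)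
      (fun U hU => (hb U (Finset.mem_of_mem_erase hU)).1)
    linarith
  push_cast at htot
  linarith

end Character

end PerfectFpf

end CfsgLib.Frobenius.Zass
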