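import Mathlib
import Cfsg.Agent.Frobenius.Zassenhaus.Norm

/-! # A minimal perfect fixed-point-free group has order 120 -/

set_option autoImplicit false

namespace CfsgLib.Frobenius.Zass

open CfsgLib.Frobenius Cfsg

variable {G : Type*} [Group G] [Fintype G]

namespace PerfectFpf

variable (h : PerfectFpf G) (IH : ∀ K : Subgroup G, K ≠ ⊤ → HasFiveMap K)

include h IH

/-- Two noncentral elements whose centralisers meet up to conjugation have the same class. -/
theorem classSet_eq_of_commute {a b c g : G} (ha : a * a ≠ 1) (hc : c * c ≠ 1) (hb2 : b * b ≠ 1)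
    (hb : Commute b a) (hg : Commute (g * b * g⁻¹) c) : classSet a = classSet c := by
  have h7 : b ∈ classSet a := ⟨1, by simpa using hb, by simpa using hb2⟩
  have h8 : b ∈ classSet c :=
    ⟨g⁻¹, by rwa [inv_inv], by rw [inv_inv]; exact conj_mul_self_ne_one hb2⟩
  rw [← h.classSet_eq IH ha h7, h.classSet_eq IH hc h8]

theorem classSet_eq_of_dvd_four {a u : G} (hu : orderOf u = 4) (ha : a * a ≠ 1)
    (h4 : 4 ∣ Nat.card (Subgroup.centralizer ({a} : Set G))) : classSet a = classSet u := by
  obtain ⟨b, hb⟩ := (h.isCyclic_centralizer IH ha).exists_ofOrder_eq_natCard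
  rw [← hb] at h4
  have hb4 : orderOf ((b ^ (orderOf b / 4) : Subgroup.centralizer ({a} : Set G)) : G) = 4 := by
    rw [Subgroup.orderOf_coe]; exact orderOf_pow_orderOf_div (orderOf_pos b).ne' h4
  obtain ⟨g, hg⟩ := isConj_iff.1 (h.isConj_of_orderOf_four hb4 hu)
  exact h.classSet_eq_of_commute IH (g := g) ha (mul_self_ne_one_of_orderOf_four hu)
    (mul_self_ne_one_of_orderOf_four hb4)
    (commute_of_mem_centralizer (b ^ (orderOf b / 4)).2) (by rw [hg])

theorem classSet_eq_of_dvd_three {a y : G} (hy : orderOf y = 3) (ha : a * a ≠ 1)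
    (h3 : 3 ∣ Nat.card (Subgroup.centralizer ({a} : Set G))) : classSet a = classSet y := by
  have := Fact.mk Nat.prime_three
  obtain ⟨b, hb⟩ := exists_prime_orderOf_dvd_card' 3 h3
  rw [← Subgroup.orderOf_coe] at hb
  obtain ⟨g, hg⟩ := h.orderOf_three_conj IH hy hb
  exact h.classSet_eq_of_commute IH ha
    (mul_self_ne_one_of_prime (hy ▸ Nat.prime_three) (hy ▸ by decide))
    (mul_self_ne_one_of_prime (hb ▸ Nat.prime_three) (hb ▸ by decide))
    (commute_of_mem_centralizer b.2) hg

theorem card_centralizer_facts {a u : G} (hu : orderOf u = 4) (ha : a * a ≠ 1) :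
    2 ∣ Nat.card (Subgroup.centralizer ({a} : Set G)) ∧
      3 ≤ Nat.card (Subgroup.centralizer ({a} : Set G)) := by
  have hzz : (u * u) * (u * u) = 1 := sq_sq_of_orderOf_four hu
  have h2 : 2 ∣ Nat.card (Subgroup.centralizer ({a} : Set G)) := by
    have := Subgroup.orderOf_dvd_natCard (Subgroup.centralizer ({a} : Set G))
      (mem_centralizer_of_commute (h.commute_of_sq_eq_one hzz a))
    rwa [orderOf_eq_prime (by rw [pow_two]; exact hzz) (mul_self_ne_one_of_orderOf_four hu)] at this
  refine ⟨h2, ?_⟩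
  by_contra hlt
  have h3 : orderOf a ∣ 2 := by
    have h5 := Subgroup.orderOf_dvd_natCard (Subgroup.centralizer ({a} : Set G))
      (mem_centralizer_of_commute (Commute.refl a))
    have := Nat.le_of_dvd Nat.card_pos h2
    rwa [show Nat.card (Subgroup.centralizer ({a} : Set G)) = 2 by omega] at h5
  apply ha
  rw [← pow_two]; exact orderOf_dvd_iff_pow_eq_one.1 h3

variable {χ : G → ℂ} (hχ : IsFpfChar χ 2)

include hχ

open scoped Classical in
theorem torus_values {u a : G} (hu : orderOf u = 4) (ha : a * a ≠ 1) :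
    Nat.card (torusNormalizer a) = 2 * Nat.card (Subgroup.centralizer ({a} : Set G)) ∧
      ∑ x ∈ (torusSet a).toFinset, Complex.normSq (χ x) =
        2 * (Nat.card (Subgroup.centralizer ({a} : Set G)) : ℝ) - 8 := by
  obtain ⟨t, ht⟩ := h.exists_generator IH ha
  obtain ⟨g₀, hg₀, hg₀T⟩ := h.exists_mem_normalizer IH ha
  set T := Subgroup.centralizer ({a} : Set G) with hT
  obtain ⟨l, hl, hinj⟩ := hχ.exists_lin T t ht
  have htT : t ∈ T := ht ▸ Subgroup.mem_zpowers t
  have hCt : Subgroup.centralizer ({t} : Set G) = T := by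
    refine le_antisymm (fun x hx => ?_) (fun x hx => ?_)
    · have h1 : Commute x t := commute_of_mem_centralizer hx
      refine mem_centralizer_of_commute ?_
      obtain ⟨i, hi⟩ : a ∈ Subgroup.zpowers t := ht ▸ mem_centralizer_of_commute (Commute.refl a)
      rw [← hi]; exact h1.zpow_right i
    · exact mem_centralizer_of_commute
        (h.commute_of_commute IH ha (commute_of_mem_centralizer hx) (commute_of_mem_centralizer htT))
  have hconjmem : ∀ g ∈ torusNormalizer a, ∀ x ∈ T, g * x * g⁻¹ ∈ T := fun g hg x hx =>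
    (Subgroup.mem_normalizer_iff.1 hg x).1 hx
  have key : ∀ g (hg : g ∈ torusNormalizer a), g ∉ T →
      l 0 ⟨g * t * g⁻¹, hconjmem g hg t htT⟩ = l 1 ⟨t, htT⟩ := by
    intro g hg hgT
    set t' : T := ⟨g * t * g⁻¹, hconjmem g hg t htT⟩
    set τ : T := ⟨t, htT⟩
    have e1 : (l 0 t' : ℂ) + l 1 t' = l 0 τ + l 1 τ := by
      have := hl t'
      rw [Fin.sum_univ_two] at this
      rw [← this, ← Fin.sum_univ_two (f := fun i => (l i τ : ℂ)), ← hl τ]
      exact hχ.map_conj g t
    have e2 : (l 0 t' : ℂ) * l 0 t' + (l 1 t' : ℂ) * l 1 t' =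
        (l 0 τ : ℂ) * l 0 τ + (l 1 τ : ℂ) * l 1 τ := by
      have := hl (t' * t')
      rw [Fin.sum_univ_two] at this
      simp only [map_mul, Units.val_mul] at this
      rw [← this]
      have h2 := hl (τ * τ)
      rw [Fin.sum_univ_two] at h2
      simp only [map_mul, Units.val_mul] at h2
      rw [← h2]
      show χ (g * t * g⁻¹ * (g * t * g⁻¹)) = χ (t * t)
      rw [show g * t * g⁻¹ * (g * t * g⁻¹) = g * (t * t) * g⁻¹ by group, hχ.map_conj]
    have e3 : ((l 0 t' : ℂ) - l 0 τ) * ((l 0 t' : ℂ) - l 1 τ) = 0 := by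
      linear_combination ((l 0 t' : ℂ) - (l 1 t' : ℂ) - (l 0 τ : ℂ) - (l 1 τ : ℂ)) / 2 * e1 +
        e2 / 2
    rcases mul_eq_zero.1 e3 with e | e
    · exfalso
      have e4 : t' = τ := hinj 0 (Units.ext (sub_eq_zero.1 e))
      apply hgT
      rw [← hCt]
      exact mem_centralizer_of_commute (mul_inv_eq_iff_eq_mul.1 (congrArg Subtype.val e4))
    · exact Units.ext (sub_eq_zero.1 e)
  have hne : l 0 ≠ l 1 := by
    intro e
    have e4 := hinj 0 ((key g₀ hg₀ hg₀T).trans (by rw [e]))
    apply hg₀T
    rw [← hCt]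
    exact mem_centralizer_of_commute (mul_inv_eq_iff_eq_mul.1 (congrArg Subtype.val e4))
  refine ⟨?_, ?_⟩
  · have hNt : torusNormalizer t = torusNormalizer a := by rw [torusNormalizer, hCt]
    have := card_torusNormalizer (a := t) (a' := g₀ * t * g₀⁻¹) (G := G)
      ⟨g₀, hNt ▸ hg₀, hCt.symm ▸ hg₀T⟩ (fun g hg hgT => by
        rw [hNt] at hg; rw [hCt] at hgT
        exact congrArg Subtype.val (hinj 0 ((key g hg hgT).trans (key g₀ hg₀ hg₀T).symm)))
    rwa [hNt, hCt] at this
  · have h1 := h.sum_centralizer hu (a := a) (fun x => Complex.normSq (χ x))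
    simp only [hl] at h1
    rw [sum_normSq_lin] at h1
    have hf : ∀ i : Fin 2, (Finset.univ.filter fun j => l i = l j).card = 1 := by
      intro i
      rw [Finset.card_eq_one]
      refine ⟨i, ?_⟩
      ext j
      simp only [Finset.mem_filter, Finset.mem_univ, true_and, Finset.mem_singleton]
      refine ⟨fun e => ?_, fun e => by rw [e]⟩
      by_contra hji
      fin_cases i <;> fin_cases j
      · exact hji rfl
      · exact hne e
      · exact hne e.symm
      · exact hji rfl
    simp only [hf, Nat.cast_one, Finset.sum_const, Finset.card_univ, Fintype.card_fin, nsmul_eq_mul,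
      mul_one] at h1
    rw [(h.normSq_central IH hχ hu).1, (h.normSq_central IH hχ hu).2] at h1
    push_cast at h1
    linarith

/-- The order is 120. -/
theorem card_eq {u y : G} (hu : orderOf u = 4) (hy : orderOf y = 3) : Nat.card G = 120 := by
  classical
  have hy2 : y * y ≠ 1 := mul_self_ne_one_of_prime (hy ▸ Nat.prime_three) (hy ▸ by decide)
  have hu2 : u * u ≠ 1 := mul_self_ne_one_of_orderOf_four hu
  set Φ : G → ℝ := fun x => Complex.normSq (χ x)
  have hΦc : ∀ g x, Φ (g * x * g⁻¹) = Φ x := fun g x => by simp only [Φ, hχ.map_conj]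
  have hGpos : (0 : ℝ) < Nat.card G := by exact_mod_cast Nat.card_pos
  set c : G → ℝ := fun a => (Nat.card (Subgroup.centralizer ({a} : Set G)) : ℝ)
  have hU : ∀ a : G, a * a ≠ 1 →
      2 * c a * ((classSet a).toFinset.card : ℝ) = Nat.card G * (c a - 2) ∧
      4 * ((classSet a).toFinset.card : ℝ) - ∑ x ∈ (classSet a).toFinset, Φ x = Nat.card G := by
    intro a ha
    obtain ⟨hN, hS⟩ := h.torus_values IH hχ hu ha
    have hsum := h.sum_classSet IH ha Φ hΦc
    have hone := h.sum_classSet IH ha (fun _ => (1 : ℝ)) (fun _ _ => rfl)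
    simp only [Finset.sum_const, nsmul_eq_mul, mul_one] at hone
    have htor := h.sum_centralizer hu (a := a) (fun _ => (1 : ℝ))
    simp only [Finset.sum_const, nsmul_eq_mul, mul_one, Finset.card_univ,
      ← Nat.card_eq_fintype_card] at htor
    have hcS : ((torusSet a).toFinset.card : ℝ) = c a - 2 := by simp only [c]; linarith
    rw [hN] at hone hsum
    push_cast at hone hsum
    rw [hcS] at hone
    rw [show ∑ x ∈ (torusSet a).toFinset, Φ x = 2 * c a - 8 from hS] at hsum
    have hcpos : (0 : ℝ) < c a := by simp only [c]; exact_mod_cast Nat.card_pos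
    refine ⟨by simpa only [c] using hone, ?_⟩
    have : 2 * c a * (4 * ((classSet a).toFinset.card : ℝ) - ∑ x ∈ (classSet a).toFinset, Φ x) =
        2 * c a * Nat.card G := by
      simp only [c] at hone hsum ⊢
      linear_combination 4 * hone - hsum
    exact mul_left_cancel₀ (by positivity) this
  have hΦu := h.normSq_central IH hχ hu
  have htot : (Nat.card G : ℝ) = 8 + ∑ U ∈ classes G, ∑ x ∈ U, Φ x := by
    rw [← hχ.sum_normSq, h.sum_univ_eq hu, hΦu.1, hΦu.2, ← h.sum_noncentral IH]
    push_cast; ring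
  have hnc : (Nat.card G : ℝ) = 2 + ∑ U ∈ classes G, (U.card : ℝ) := by
    have := h.sum_univ_eq hu (fun _ => (1 : ℝ))
    rw [h.sum_noncentral IH] at this
    simp only [Finset.sum_const, nsmul_eq_mul, mul_one, Finset.card_univ,
      ← Nat.card_eq_fintype_card] at this
    linarith
  have hc3 : (classes G).card = 3 := by
    have h1 : ∑ U ∈ classes G, (4 * (U.card : ℝ) - ∑ x ∈ U, Φ x) =
        ∑ _U ∈ classes G, (Nat.card G : ℝ) := Finset.sum_congr rfl fun U hUm => by
      obtain ⟨a, ha, rfl⟩ := Finset.mem_image.1 hUm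
      exact (hU a (mem_noncentral.1 ha)).2
    rw [Finset.sum_sub_distrib, ← Finset.mul_sum, Finset.sum_const, nsmul_eq_mul] at h1
    have h2 : ((classes G).card : ℝ) * Nat.card G = 3 * Nat.card G := by linarith
    have := mul_right_cancel₀ hGpos.ne' h2
    exact_mod_cast this
  have hUu : (classSet u).toFinset ∈ classes G := Finset.mem_image_of_mem _ (mem_noncentral.2 hu2)
  have hUy : (classSet y).toFinset ∈ classes G := Finset.mem_image_of_mem _ (mem_noncentral.2 hy2)
  have hsize : ∀ a : G, a * a ≠ 1 → ∀ k : ℕ, 0 < k →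
      k ≤ Nat.card (Subgroup.centralizer ({a} : Set G)) →
      (Nat.card G : ℝ) * ((k : ℝ) - 2) ≤ 2 * k * ((classSet a).toFinset.card : ℝ) := by
    intro a ha k hk hka
    have h1 := (hU a ha).1
    have h2 : (k : ℝ) ≤ c a := by simp only [c]; exact_mod_cast hka
    have h3 : (0 : ℝ) < k := by exact_mod_cast hk
    refine le_of_mul_le_mul_left (a := c a) ?_ (by linarith)
    nlinarith [mul_le_mul_of_nonneg_left h2 hGpos.le, h1]
  obtain ⟨h2u, -⟩ := h.card_centralizer_facts IH hu hu2
  obtain ⟨h2y, -⟩ := h.card_centralizer_facts IH hu hy2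
  have h4u : 4 ∣ Nat.card (Subgroup.centralizer ({u} : Set G)) := by
    have := Subgroup.orderOf_dvd_natCard _ (mem_centralizer_of_commute (Commute.refl u))
    rwa [hu] at this
  have h3y : 3 ∣ Nat.card (Subgroup.centralizer ({y} : Set G)) := by
    have := Subgroup.orderOf_dvd_natCard _ (mem_centralizer_of_commute (Commute.refl y))
    rwa [hy] at this
  have hother : ∀ a : G, a * a ≠ 1 → (classSet a).toFinset ≠ (classSet u).toFinset →
      (classSet a).toFinset ≠ (classSet y).toFinset →
      10 ≤ Nat.card (Subgroup.centralizer ({a} : Set G)) ∧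
        Nat.card (Subgroup.centralizer ({a} : Set G)) ≠ 12 := by
    intro a ha hau hay
    obtain ⟨h2, h3⟩ := h.card_centralizer_facts IH hu ha
    have h4 : ¬ 4 ∣ Nat.card (Subgroup.centralizer ({a} : Set G)) := fun hd =>
      hau (by rw [Set.toFinset_inj]; exact h.classSet_eq_of_dvd_four IH hu ha hd)
    have h3' : ¬ 3 ∣ Nat.card (Subgroup.centralizer ({a} : Set G)) := fun hd =>
      hay (by rw [Set.toFinset_inj]; exact h.classSet_eq_of_dvd_three IH hy ha hd)
    omega
  by_cases heq : (classSet u).toFinset = (classSet y).toFinset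
  · exfalso
    -- the common class and two others are too large
    have h12 : 12 ≤ Nat.card (Subgroup.centralizer ({u} : Set G)) := by
      have hmem : y ∈ classSet u := by
        have h7 : y ∈ classSet y := ⟨1, by simpa using Commute.refl y, by simpa using hy2⟩
        rw [← Set.mem_toFinset, ← heq] at h7
        exact Set.mem_toFinset.1 h7
      obtain ⟨g, hg, -⟩ := hmem
      have h3u : 3 ∣ Nat.card (Subgroup.centralizer ({u} : Set G)) := by
        have := Subgroup.orderOf_dvd_natCard _ (mem_centralizer_of_commute hg)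
        have e : g⁻¹ * y * g = g⁻¹ * y * g⁻¹⁻¹ := by rw [inv_inv]
        rwa [e, orderOf_conj, hy] at this
      exact Nat.le_of_dvd Nat.card_pos
        (Nat.Coprime.mul_dvd_of_dvd_of_dvd (show Nat.Coprime 4 3 by norm_num) h4u h3u)
    have hA := hsize u hu2 12 (by norm_num) h12
    have hrest : ∀ U ∈ (classes G).erase (classSet u).toFinset,
        (Nat.card G : ℝ) * (10 - 2) ≤ 2 * 10 * (U.card : ℝ) := by
      intro U hUm
      obtain ⟨hne, hUm'⟩ := Finset.mem_erase.1 hUm
      obtain ⟨a, ha, rfl⟩ := Finset.mem_image.1 hUm'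
      have := hsize a (mem_noncentral.1 ha) 10 (by norm_num)
        (hother a (mem_noncentral.1 ha) hne (heq ▸ hne)).1
      exact_mod_cast this
    have hs := Finset.sum_le_sum hrest
    rw [Finset.sum_const, Finset.card_erase_of_mem hUu, hc3, nsmul_eq_mul, ← Finset.mul_sum] at hs
    rw [← Finset.add_sum_erase _ _ hUu] at hnc
    push_cast at hA hs
    linarith
  have hye : (classSet y).toFinset ∈ (classes G).erase (classSet u).toFinset :=
    Finset.mem_erase.2 ⟨fun e => heq e.symm, hUy⟩
  obtain ⟨U₃, hU₃⟩ := Finset.card_eq_one.1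
    (show (((classes G).erase (classSet u).toFinset).erase (classSet y).toFinset).card = 1 by
      rw [Finset.card_erase_of_mem hye, Finset.card_erase_of_mem hUu, hc3])
  have hmem3 : U₃ ∈ ((classes G).erase (classSet u).toFinset).erase (classSet y).toFinset := by
    rw [hU₃]; exact Finset.mem_singleton_self _
  simp only [Finset.mem_erase] at hmem3
  obtain ⟨a, ha, rfl⟩ := Finset.mem_image.1 hmem3.2.2
  rw [mem_noncentral] at ha
  obtain ⟨h10, -⟩ := hother a ha hmem3.2.1 hmem3.1
  rw [← Finset.add_sum_erase _ _ hUu, ← Finset.add_sum_erase _ _ hye, hU₃, Finset.sum_singleton] at hnc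
  have hA := (hU u hu2).1
  have hB := (hU y hy2).1
  have hC := (hU a ha).1
  obtain ⟨h2a, -⟩ := h.card_centralizer_facts IH hu ha
  have h4y : ¬ 4 ∣ Nat.card (Subgroup.centralizer ({y} : Set G)) := fun hd =>
    heq (by rw [Set.toFinset_inj]; exact (h.classSet_eq_of_dvd_four IH hu hy2 hd).symm)
  have h3u : ¬ 3 ∣ Nat.card (Subgroup.centralizer ({u} : Set G)) := fun hd =>
    heq (by rw [Set.toFinset_inj]; exact h.classSet_eq_of_dvd_three IH hy hu2 hd)
  have hsu := hsize u hu2
  have hsy := hsize y hy2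
  have hsa := hsize a ha
  set nu := Nat.card (Subgroup.centralizer ({u} : Set G)) with hnu
  set ny := Nat.card (Subgroup.centralizer ({y} : Set G)) with hny
  set na := Nat.card (Subgroup.centralizer ({a} : Set G)) with hna
  have hnupos : 0 < nu := Nat.card_pos
  have hnypos : 0 < ny := Nat.card_pos
  have hu4 : nu = 4 := by
    by_contra hne
    have h8 : 8 ≤ nu := by omega
    have a1 := hsu 8 (by norm_num) h8
    have a2 := hsy 6 (by norm_num) (by omega)
    have a3 := hsa 10 (by norm_num) h10
    push_cast at a1 a2 a3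
    linarith
  simp only [c, ← hnu, hu4] at hA
  push_cast at hA
  have hy6 : ny = 6 := by
    by_contra hne
    have h18 : 18 ≤ ny := by omega
    have a2 := hsy 18 (by norm_num) h18
    have a3 := hsa 10 (by norm_num) h10
    push_cast at a2 a3
    linarith
  simp only [c, ← hny, hy6] at hB
  push_cast at hB
  have ha10 : na = 10 := by
    by_contra hne
    have h12 : 12 ≤ na := by omega
    have a3 := hsa 12 (by norm_num) h12
    push_cast at a3
    linarith
  simp only [c, ← hna, ha10] at hC
  push_cast at hC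
  have : (Nat.card G : ℝ) = 120 := by linarith
  exact_mod_cast this

end PerfectFpf

/-- A perfect fixed-point-free group all of whose proper subgroups have five-point maps has
order 120. -/
theorem PerfectFpf.card_eq_120 (h : PerfectFpf G)
    (IH : ∀ K : Subgroup G, K ≠ ⊤ → HasFiveMap K) : Nat.card G = 120 := by
  obtain ⟨y, hy⟩ := h.exists_order_three IH
  obtain ⟨u, v, hp⟩ := h.exists_pair
  obtain ⟨χ, d, hχ⟩ := exists_fpfChar h.fpf
  obtain rfl := h.degree_eq_two IH hχ hp.1 hy
  exact h.card_eq IH hχ hp.1 hy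

end CfsgLib.Frobenius.Zass
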