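import Mathlib
import Cfsg.Agent.Frobenius.Zassenhaus.Order
import Cfsg.Agent.Frobenius.Zassenhaus.Identify

/-! # Zassenhaus' theorem

A perfect fixed-point-free group is `SL(2,5)`; every fixed-point-free group maps to
`Perm (Fin 5)` with a Z-group as kernel.
-/

set_option autoImplicit false

universe u

namespace CfsgLib.Frobenius.Zass

open CfsgLib.Frobenius
open scoped commutatorElement

theorem PerfectFpf.mulEquiv_sl25 {G : Type*} [Group G] [Finite G] (h : PerfectFpf G)
    (IH : ∀ K : Subgroup G, K ≠ ⊤ → HasFiveMap K) : Nonempty (G ≃* SL25) := by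
  haveI := Fintype.ofFinite G
  have hG := h.card_eq_120 IH
  refine sl25_of_perfect hG h.perfect fun P => ?_
  obtain ⟨m, -, ⟨e⟩⟩ := h.exists_quaternion P
  have hm : m = 1 := by
    have h1 := P.card_eq_multiplicity
    rw [Nat.card_congr e.toEquiv, Nat.card_eq_fintype_card, QuaternionGroup.card, hG,
      show Nat.factorization 120 2 = 3 from by
        rw [Nat.factorization_def 120 Nat.prime_two]; decide +kernel] at h1
    have h2 : 2 ^ m = 2 ^ 1 := by norm_num at h1 ⊢; omega
    exact Nat.pow_right_injective le_rfl h2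
  subst hm
  exact ⟨e⟩

/-- The monomial matrices of `SL(2,5)`. -/
def monomialSL : Subgroup SL25 where
  carrier := {g | g.1 0 1 = 0 ∧ g.1 1 0 = 0 ∨ g.1 0 0 = 0 ∧ g.1 1 1 = 0}
  one_mem' := Or.inl ⟨rfl, rfl⟩
  mul_mem' := by
    rintro a b (⟨a1, a2⟩ | ⟨a1, a2⟩) (⟨b1, b2⟩ | ⟨b1, b2⟩)
    · exact Or.inl ⟨by simp [Matrix.mul_apply, Fin.sum_univ_two, a1, b1],
        by simp [Matrix.mul_apply, Fin.sum_univ_two, a2, b2]⟩
    · exact Or.inr ⟨by simp [Matrix.mul_apply, Fin.sum_univ_two, a1, b1],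
        by simp [Matrix.mul_apply, Fin.sum_univ_two, a2, b2]⟩
    · exact Or.inr ⟨by simp [Matrix.mul_apply, Fin.sum_univ_two, a1, b2],
        by simp [Matrix.mul_apply, Fin.sum_univ_two, a2, b1]⟩
    · exact Or.inl ⟨by simp [Matrix.mul_apply, Fin.sum_univ_two, a1, b2],
        by simp [Matrix.mul_apply, Fin.sum_univ_two, a2, b1]⟩
  inv_mem' := by
    intro a ha
    simp only [Set.mem_setOf_eq, Matrix.SpecialLinearGroup.coe_inv, Matrix.adjugate_fin_two]
    rcases ha with ⟨a1, a2⟩ | ⟨a1, a2⟩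
    · exact Or.inl ⟨by simp [a1], by simp [a2]⟩
    · exact Or.inr ⟨by simp [a2], by simp [a1]⟩

theorem card_monomialSL : Nat.card monomialSL = 8 := by
  let e : monomialSL ≃ {q : Cfsg.Agent.S3374.Quad (ZMod 5) // q.1 * q.2.2.2 - q.2.1 * q.2.2.1 = 1 ∧
      (q.2.1 = 0 ∧ q.2.2.1 = 0 ∨ q.1 = 0 ∧ q.2.2.2 = 0)} :=
    { toFun := fun g => ⟨Cfsg.Agent.S3374.toQuad g.1, Cfsg.Agent.S3374.det_toQuad g.1, g.2⟩
      invFun := fun q => ⟨⟨!![q.1.1, q.1.2.1; q.1.2.2.1, q.1.2.2.2], by
        rw [Matrix.det_fin_two_of]; exact q.2.1⟩, q.2.2⟩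
      left_inv := fun g => Subtype.ext (Cfsg.Agent.S3374.toQuad_inj rfl)
      right_inv := fun q => rfl }
  rw [Nat.card_congr e, Nat.card_eq_fintype_card]
  decide +kernel

/-- `SL(2,5)` has five Sylow 2-subgroups. -/
theorem card_sylow_sl25 : Nat.card (Sylow 2 SL25) = 5 := by
  have h120 := card_sl25
  have hV8 : Nat.card monomialSL = 2 ^ 3 := card_monomialSL
  obtain ⟨P, hP⟩ := (IsPGroup.of_card hV8).exists_le_sylow
  have hPc : Nat.card (P : Subgroup SL25) = 8 := by
    rw [P.card_eq_multiplicity, h120, show Nat.factorization 120 2 = 3 from by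
      rw [Nat.factorization_def 120 Nat.prime_two]; decide +kernel]
    rfl
  have hPV : (P : Subgroup SL25) = monomialSL :=
    (Subgroup.eq_of_le_of_card_ge hP (by rw [hPc, hV8]; norm_num)).symm
  let g : SL25 := ⟨!![1, 1; 2, 3], by decide⟩
  have hg3 : orderOf g = 3 := orderOf_eq_prime (Cfsg.Agent.S3374.toQuad_inj (by decide +kernel))
    (fun e => absurd (congrArg Cfsg.Agent.S3374.toQuad e) (by decide +kernel))
  have hgN : g ∈ Subgroup.normalizer ((P : Subgroup SL25) : Set SL25) := by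
    rw [hPV]
    have key : ∀ q : Cfsg.Agent.S3374.Quad (ZMod 5),
        (q.2.1 = 0 ∧ q.2.2.1 = 0 ∨ q.1 = 0 ∧ q.2.2.2 = 0) →
        q.1 * q.2.2.2 - q.2.1 * q.2.2.1 = 1 →
        (fun r : Cfsg.Agent.S3374.Quad (ZMod 5) => r.2.1 = 0 ∧ r.2.2.1 = 0 ∨ r.1 = 0 ∧ r.2.2.2 = 0)
          (Cfsg.Agent.S3374.qmul (Cfsg.Agent.S3374.qmul (1, 1, 2, 3) q) (3, 4, 3, 1)) := by
      decide +kernel
    have hmaps : ∀ x ∈ monomialSL, g * x * g⁻¹ ∈ monomialSL := by
      intro x hx
      have := key (Cfsg.Agent.S3374.toQuad x) hx (Cfsg.Agent.S3374.det_toQuad x)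
      have e1 : Cfsg.Agent.S3374.toQuad (g * x * g⁻¹) =
          Cfsg.Agent.S3374.qmul (Cfsg.Agent.S3374.qmul (1, 1, 2, 3) (Cfsg.Agent.S3374.toQuad x))
            (3, 4, 3, 1) := by
        rw [Cfsg.Agent.S3374.toQuad_mul, Cfsg.Agent.S3374.toQuad_mul,
          show Cfsg.Agent.S3374.toQuad g⁻¹ = (3, 4, 3, 1) by decide +kernel]
        rfl
      rw [← e1] at this
      exact this
    rw [Subgroup.mem_normalizer_iff]
    intro x
    refine ⟨fun hx => hmaps x hx, fun hx => ?_⟩
    have hgg : g⁻¹ = g * g := by decide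
    have := hmaps _ (hmaps _ hx)
    rwa [show g * (g * (g * x * g⁻¹) * g⁻¹) * g⁻¹ = (g * g * g) * x * (g * g * g)⁻¹ by group,
      show g * g * g = 1 by rw [← hgg, inv_mul_cancel], inv_one, one_mul, mul_one] at this
  set N := Subgroup.normalizer ((P : Subgroup SL25) : Set SL25)
  have h24 : 24 ∣ Nat.card N :=
    Nat.Coprime.mul_dvd_of_dvd_of_dvd (show Nat.Coprime 8 3 by norm_num)
      (hPc ▸ Subgroup.card_dvd_of_le Subgroup.le_normalizer)
      (hg3 ▸ Subgroup.orderOf_dvd_natCard N hgN)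
  have hn : Nat.card (Sylow 2 SL25) = N.index := P.card_eq_index_normalizer
  have h1 : N.index ∣ 5 := by
    have h2 := N.card_mul_index
    rw [h120] at h2
    obtain ⟨c, hc⟩ := h24
    rw [hc, mul_assoc] at h2
    exact ⟨c, by rw [mul_comm]; exact (Nat.eq_of_mul_eq_mul_left (show 0 < 24 by norm_num)
      (h2.trans (show 120 = 24 * 5 by norm_num))).symm⟩
  rcases (Nat.dvd_prime Nat.prime_five).1 h1 with e | e
  · exfalso
    have hN : N = ⊤ := Subgroup.index_eq_one.1 e
    let w : SL25 := ⟨!![1, 1; 0, 1], by decide⟩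
    let v : SL25 := ⟨!![2, 0; 0, 3], by decide⟩
    have hw : w ∈ N := by rw [hN]; trivial
    rw [show N = Subgroup.normalizer (monomialSL : Set SL25) by rw [← hPV],
      Subgroup.mem_normalizer_iff] at hw
    have hv := (hw v).1 (Or.inl ⟨rfl, rfl⟩)
    exact absurd hv (by
      show ¬ ((w * v * w⁻¹).1 0 1 = 0 ∧ (w * v * w⁻¹).1 1 0 = 0 ∨
        (w * v * w⁻¹).1 0 0 = 0 ∧ (w * v * w⁻¹).1 1 1 = 0)
      decide)
  · omega

section Core

variable {K : Type u} [Group K] [Finite K] (hK : IsFpf K) (E : Subgroup K) (e : E ≃* SL25)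

include hK e

omit hK in
theorem card_core : Nat.card E = 120 := (Nat.card_congr e.toEquiv).trans card_sl25

omit [Finite K] hK in
theorem commutator_sl25_iso (hp : commutator SL25 = ⊤) : commutator E = ⊤ := by
  rw [commutator_def] at hp ⊢
  rw [← Subgroup.map_top_of_surjective e.symm.toMonoidHom e.symm.surjective,
    ← Subgroup.map_commutator, hp]

theorem isZGroup_centralizer_core : IsZGroup (Subgroup.centralizer (E : Set K)) := by
  refine hK.isZGroup_of_no_pair _ fun a ha b hb hp => ?_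
  obtain ⟨t, ht, ht2⟩ : ∃ t : SL25, t ^ 4 = 1 ∧ t * t ≠ 1 :=
    ⟨Cfsg.Agent.S3374.slW, by decide, by decide⟩
  have h1 : ((e.symm t : E) : K) ^ 4 = 1 := by
    rw [← Subgroup.coe_pow, ← map_pow, ht, map_one, Subgroup.coe_one]
  have h2 := hK.sq_eq_one_of_centralize (t := ((e.symm t : E) : K)) hp
    (Subgroup.mem_centralizer_iff.1 ha _ (e.symm t).2)
    (Subgroup.mem_centralizer_iff.1 hb _ (e.symm t).2) h1
  apply ht2
  rw [← e.symm.map_eq_one_iff, map_mul]
  exact Subtype.ext h2

omit hK in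
/-- A group normalising a copy of `SL(2,5)` acts on five points with kernel centralising it. -/
theorem exists_five_action (hE : E.Normal) (hp : commutator E = ⊤) :
    ∃ f : K →* Equiv.Perm (Fin 5), f.ker ≤ Subgroup.centralizer (E : Set K) := by
  have h5 : Nat.card (Sylow 2 E) = 5 := by
    obtain ⟨P⟩ := (inferInstance : Nonempty (Sylow 2 E))
    let P' : Sylow 2 SL25 := P.comapOfInjective e.symm.toMonoidHom e.symm.injective
      fun x _ => ⟨e x, e.symm_apply_apply x⟩
    rw [← card_sylow_sl25, P.card_eq_index_normalizer, P'.card_eq_index_normalizer]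
    show _ = (Subgroup.normalizer
      (((P : Subgroup E).comap e.symm.toMonoidHom : Subgroup SL25) : Set SL25)).index
    rw [← Subgroup.comap_normalizer_eq_of_surjective _ e.symm.surjective,
      Subgroup.index_comap_of_surjective _ e.symm.surjective]
    rfl
  haveI := hE
  let ι := (Finite.equivFinOfCardEq h5)
  let f : K →* Equiv.Perm (Fin 5) := (Equiv.permCongrHom ι).toMonoidHom.comp
    ((MulAction.toPermHom (MulAut E) (Sylow 2 E)).comp MulAut.conjNormal)
  refine ⟨f, fun d hd => ?_⟩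
  have hfix : ∀ P : Sylow 2 E, (MulAut.conjNormal d : MulAut E) • P = P := by
    intro P
    have h1 : MulAction.toPermHom (MulAut E) (Sylow 2 E) (MulAut.conjNormal d) = 1 :=
      (Equiv.permCongrHom ι).injective ((MonoidHom.mem_ker.1 hd).trans (map_one _).symm)
    exact Equiv.congr_fun h1 P
  -- the normal subgroup of `E` acting trivially
  let N : Subgroup E := f.ker.subgroupOf E
  have hN : N.Normal := inferInstance
  have hNtop : N ≠ ⊤ := by
    intro hN'
    have : Nontrivial (Sylow 2 E) := Finite.one_lt_card_iff_nontrivial.1 (by omega)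
    obtain ⟨P, Q, hPQ⟩ := exists_pair_ne (Sylow 2 E)
    obtain ⟨g, hg⟩ := MulAction.exists_smul_eq E P Q
    have h1 : (g : K) ∈ f.ker := (show g ∈ N by rw [hN']; trivial)
    have h2 : MulAction.toPermHom (MulAut E) (Sylow 2 E) (MulAut.conjNormal (g : K)) = 1 :=
      (Equiv.permCongrHom ι).injective ((MonoidHom.mem_ker.1 h1).trans (map_one _).symm)
    have h3 : (MulAut.conjNormal (g : K) : MulAut E) • P = P := Equiv.congr_fun h2 P
    rw [show (MulAut.conjNormal (g : K) : MulAut E) = MulAut.conj g from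
      MulEquiv.ext fun x => Subtype.ext (by simp [MulAut.conjNormal_apply, MulAut.conj_apply])] at h3
    exact hPQ (h3.symm.trans hg)
  have hN2 : Nat.card N ≤ 2 := by
    have hd' : Nat.card (E ⧸ N) ∣ 120 := card_core E e ▸ Subgroup.card_quotient_dvd_card N
    have h1 : Nat.card (E ⧸ N) = 60 ∨ Nat.card (E ⧸ N) = 120 := by
      by_contra! hc
      exact no_perfect_quotient (commutator_quotient hp N) _ rfl hd'
        (fun e' => hNtop (Subgroup.index_eq_one.1 ((Subgroup.index_eq_card N).trans e'))) hc.1 hc.2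
    have h2 := N.card_eq_card_quotient_mul_card_subgroup
    rw [card_core E e] at h2
    rcases h1 with h1 | h1 <;> rw [h1] at h2 <;> omega
  have hNc : N ≤ Subgroup.center E := by
    classical
    intro n hn
    rw [Subgroup.mem_center_iff]
    intro g
    by_contra hne
    have hcn : g * n * g⁻¹ ≠ n := fun h' => hne (mul_inv_eq_iff_eq_mul.1 h')
    have hn1 : n ≠ 1 := fun h' => hcn (by rw [h']; group)
    haveI := Fintype.ofFinite N
    have hc3 : ({⟨1, one_mem N⟩, ⟨n, hn⟩, ⟨g * n * g⁻¹, hN.conj_mem n hn g⟩} : Finset N).card = 3 := by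
      refine Finset.card_eq_three.2 ⟨_, _, _, fun h' => hn1 (congrArg Subtype.val h').symm,
        fun h' => hn1 ?_, fun h' => hcn (congrArg Subtype.val h').symm, rfl⟩
      have h'' : (1 : E) = g * n * g⁻¹ := congrArg Subtype.val h'
      rw [eq_comm, mul_inv_eq_one, mul_eq_left] at h''
      exact h''
    have := Finset.card_le_univ
      ({⟨1, one_mem N⟩, ⟨n, hn⟩, ⟨g * n * g⁻¹, hN.conj_mem n hn g⟩} : Finset N)
    rw [← Nat.card_eq_fintype_card] at this
    omega
  rw [Subgroup.mem_centralizer_iff]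
  intro x hx
  have hmem : ∀ y : E, ⁅d, (y : K)⁆ ∈ E ⊓ f.ker := fun y => by
    refine Subgroup.mem_inf.2 ⟨?_, ?_⟩
    · rw [commutatorElement_def]; exact mul_mem (hE.conj_mem _ y.2 d) (inv_mem y.2)
    · have hd' : d ∈ f.ker := hd
      rw [commutatorElement_def, mul_assoc, mul_assoc]
      refine mul_mem hd' ?_
      rw [← mul_assoc]
      exact (MonoidHom.normal_ker f).conj_mem _ (inv_mem hd') _
  have hcy : ∀ y : E, (⟨⁅d, (y : K)⁆, (hmem y).1⟩ : E) ∈ Subgroup.center E := fun y =>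
    hNc (Subgroup.mem_subgroupOf.2 (hmem y).2)
  let c : E → Subgroup.center E := fun y => ⟨⟨⁅d, (y : K)⁆, (hmem y).1⟩, hcy y⟩
  let φ : E →* Subgroup.center E := MonoidHom.mk' c fun y y' => by
    have hz : Commute ((y : K)) ⁅d, (y' : K)⁆ :=
      congrArg Subtype.val (Subgroup.mem_center_iff.1 (hcy y') y)
    apply Subtype.ext; apply Subtype.ext
    show ⁅d, ((y : K) * y')⁆ = ⁅d, (y : K)⁆ * ⁅d, (y' : K)⁆
    calc ⁅d, ((y : K) * y')⁆ = ⁅d, (y : K)⁆ * ((y : K) * ⁅d, (y' : K)⁆ * (y : K)⁻¹) := by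
          simp only [commutatorElement_def]; group
      _ = ⁅d, (y : K)⁆ * ⁅d, (y' : K)⁆ := by rw [hz.eq, mul_inv_cancel_right]
  haveI : Group.IsSolvable (Subgroup.center E) := Group.isSolvable_of_comm fun a b =>
    Subtype.ext (Subgroup.mem_center_iff.1 b.2 a)
  have := eq_one_of_hom hp φ ⟨x, hx⟩
  have h4 : ⁅d, x⁆ = 1 := congrArg (fun q : Subgroup.center E => ((q : E) : K)) this
  exact (commutatorElement_eq_one_iff_mul_comm.1 h4).symm

theorem hasFiveMap_of_core (hE : E.Normal) (hp : commutator E = ⊤) : HasFiveMap K := by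
  obtain ⟨f, hf⟩ := exists_five_action E e hE hp
  have := isZGroup_centralizer_core hK E e
  exact ⟨f, IsZGroup.of_injective (f := Subgroup.inclusion hf) (Subgroup.inclusion_injective hf)⟩

end Core

theorem commutator_sl25 : commutator SL25 = ⊤ := by
  open Cfsg.Agent.S3374 in
  rw [eq_top_iff]
  intro g _
  open Cfsg.Agent.S3374 in
  have hU1 : slU 1 ∈ commutator SL25 := by
    let a : SL25 := ⟨!![2, 0; 0, 3], by decide⟩
    have h1 : slU 1 = ⁅a, slU 2⁆ := by rw [commutatorElement_def]; decide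
    rw [h1, commutator_def]
    exact Subgroup.commutator_mem_commutator (Subgroup.mem_top _) (Subgroup.mem_top _)
  open Cfsg.Agent.S3374 in
  have hW : slW ∈ commutator SL25 := by
    have hn : (commutator SL25).Normal := inferInstance
    have h2 : slW = slU 1 ^ 4 * (slW * slU 1 * slW⁻¹) ^ 4 * slU 1 ^ 4 := by decide
    rw [h2]
    exact mul_mem (mul_mem (pow_mem hU1 _) (pow_mem (hn.conj_mem _ hU1 _) _)) (pow_mem hU1 _)
  open Cfsg.Agent.S3374 in
  have hU : ∀ b, slU b ∈ commutator SL25 := by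
    intro b
    have hp : ∀ n : ℕ, slU (n : ZMod 5) = slU 1 ^ n := by
      intro n
      induction n with
      | zero => simp only [pow_zero, Nat.cast_zero]; exact toQuad_inj (by decide)
      | succ n ih =>
        rw [pow_succ, ← ih]
        apply toQuad_inj
        simp [toQuad_mul, toQuad_slU, qU, qmul, add_comm]
    rw [← ZMod.natCast_zmod_val b, hp]
    exact pow_mem hU1 _
  open Cfsg.Agent.S3374 in
  have hword : ∀ a : ZMod 5, ∃ w ∈ commutator SL25, toQuad w = qWord a := fun a =>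
    ⟨(slW * slU (-(a * a * a))) * ((slW * slU (-a)) * (slW * slU (-(a * a * a)))),
      mul_mem (mul_mem hW (hU _)) (mul_mem (mul_mem hW (hU _)) (mul_mem hW (hU _))),
      by simp only [toQuad_mul, toQuad_slU, toQuad_slW]; rfl⟩
  open Cfsg.Agent.S3374 in
  have h := (check _ _ _ _ (det_toQuad g)).2.2.2
  open Cfsg.Agent.S3374 in
  split_ifs at h
  · obtain ⟨w, hw, hwq⟩ := hword (g.1 0 0)
    have : g = w * Cfsg.Agent.S3374.slU (g.1 0 0 * g.1 0 0 * g.1 0 0 * g.1 0 1) := by
      apply Cfsg.Agent.S3374.toQuad_inj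
      rw [Cfsg.Agent.S3374.toQuad_mul, Cfsg.Agent.S3374.toQuad_slU, hwq]; exact h
    rw [this]; exact mul_mem hw (hU _)
  · obtain ⟨w, hw, hwq⟩ := hword (g.1 1 0)
    have : g = Cfsg.Agent.S3374.slU (g.1 0 0 * (g.1 1 0 * g.1 1 0 * g.1 1 0)) *
        (Cfsg.Agent.S3374.slW * w) *
        Cfsg.Agent.S3374.slU (g.1 1 1 * (g.1 1 0 * g.1 1 0 * g.1 1 0)) := by
      apply Cfsg.Agent.S3374.toQuad_inj
      simp only [Cfsg.Agent.S3374.toQuad_mul, Cfsg.Agent.S3374.toQuad_slU,
        Cfsg.Agent.S3374.toQuad_slW, hwq]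
      exact h
    rw [this]
    exact mul_mem (mul_mem (hU _) (mul_mem hW hw)) (hU _)

/-- The perfect core of a nonsolvable group. -/
theorem exists_perfect_core {K : Type u} [Group K] [Finite K] (hns : ¬ Group.IsSolvable K) :
    ∃ E : Subgroup K, E.Normal ∧ commutator E = ⊤ ∧ Nontrivial E := by
  classical
  have hex : ∃ c, ∃ n, Nat.card (derivedSeries K n) = c := ⟨_, 0, rfl⟩
  obtain ⟨n, hn⟩ := Nat.find_spec hex
  have hle : derivedSeries K (n + 1) ≤ derivedSeries K n := derivedSeries_antitone K (Nat.le_succ n)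
  have heq : derivedSeries K (n + 1) = derivedSeries K n :=
    Subgroup.eq_of_le_of_card_ge hle (hn ▸ Nat.find_min' hex ⟨n + 1, rfl⟩)
  refine ⟨derivedSeries K n, derivedSeries_normal K n, ?_, ?_⟩
  · apply Subgroup.map_injective (derivedSeries K n).subtype_injective
    rw [Subgroup.map_subtype_commutator, ← derivedSeries_succ, heq, ← MonoidHom.range_eq_map,
      Subgroup.range_subtype]
  · rw [Subgroup.nontrivial_iff_ne_bot]
    exact fun h => hns ⟨⟨n, h⟩⟩

theorem hasFiveMap_of_solvable {K : Type u} [Group K] [Finite K] [Group.IsSolvable K]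
    (hK : IsFpf K) : HasFiveMap K := by
  obtain ⟨d, ρ, hd, hρ⟩ := hK.exists_rep
  obtain ⟨G₀, -, hz, f, hf⟩ := Linear.exists_zgroup_core hρ
  refine ⟨(Equiv.Perm.viaEmbeddingHom (Fin.castSuccEmb : Fin 4 ↪ Fin 5)).comp f, ?_⟩
  rw [← MonoidHom.comap_ker,
    (MonoidHom.ker_eq_bot_iff _).2 (Equiv.Perm.viaEmbeddingHom_injective _), MonoidHom.comap_bot, hf]
  exact hz

/-- Every fixed-point-free group maps to `Perm (Fin 5)` with Z-group kernel. -/
theorem IsFpf.hasFiveMap {K : Type u} [Group K] [Finite K] (hK : IsFpf K) : HasFiveMap K := by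
  suffices H : ∀ n, ∀ (K : Type u) [Group K] [Finite K], Nat.card K = n → IsFpf K → HasFiveMap K from
    H _ K rfl hK
  intro n
  induction n using Nat.strong_induction_on with
  | _ n ih =>
    intro K _ _ hn hK
    by_cases hs : Group.IsSolvable K
    · exact hasFiveMap_of_solvable hK
    obtain ⟨E, hE, hp, hnt⟩ := exists_perfect_core hs
    have h : PerfectFpf E := ⟨hK.subgroup E, hp, hnt⟩
    obtain ⟨e⟩ := h.mulEquiv_sl25 fun L hL => by
      refine ih (Nat.card L) ?_ L rfl ((hK.subgroup E).subgroup L)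
      have h1 : Nat.card L < Nat.card E := by
        rcases lt_or_eq_of_le (Subgroup.card_le_card_group L) with h1 | h1
        · exact h1
        · exact absurd (Subgroup.eq_top_of_card_eq L h1) hL
      have h2 := Subgroup.card_le_card_group E
      omega
    exact hasFiveMap_of_core hK E e hE hp

/-- A perfect fixed-point-free group is `SL(2,5)`. -/
theorem IsFpf.mulEquiv_sl25 {K : Type u} [Group K] [Finite K] [Nontrivial K] (hK : IsFpf K)
    (hp : commutator K = ⊤) : Nonempty (K ≃* SL25) :=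
  PerfectFpf.mulEquiv_sl25 ⟨hK, hp, inferInstance⟩ fun L _ => (hK.subgroup L).hasFiveMap

/-- A nonsolvable fixed-point-free group has a normal `SL(2,5)`. -/
theorem IsFpf.exists_sl25 {K : Type u} [Group K] [Finite K] (hK : IsFpf K)
    (hns : ¬ Group.IsSolvable K) :
    ∃ E : Subgroup K, E.Normal ∧ commutator E = ⊤ ∧ Nonempty (E ≃* SL25) := by
  obtain ⟨E, hE, hp, hnt⟩ := exists_perfect_core hns
  exact ⟨E, hE, hp, (hK.subgroup E).mulEquiv_sl25 hp⟩

end CfsgLib.Frobenius.Zass
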